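import Groth.Prelude.Def_EGA41
import Groth.Prelude.Def_CAlgX
import Mathlib.RingTheory.Ideal.Quotient.Nilpotent
import Mathlib.RingTheory.Smooth.Basic

/-!
# Adic formal smoothness: square-zero versus nilpotent test ideals
-/

set_option autoImplicit false
universe u

namespace Groth.Agent.Lib.Helper21

/-- If `B` is adically formally smooth over `A` in the square-zero sense, continuous maps to
quotients by nilpotent ideals lift as well. -/
theorem exists_lift_of_isAdicFormallySmooth {A B : Type u} [CommRing A] [CommRing B] [Algebra A B]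
    {𝔫 : Ideal B} (h : CAlgX.IsAdicFormallySmooth A B 𝔫)
    {C : Type u} [CommRing C] [Algebra A C] (J : Ideal C) (hJ : IsNilpotent J)
    (u : B →ₐ[A] C ⧸ J) (hu : ∃ k : ℕ, ∀ x ∈ 𝔫 ^ k, u x = 0) :
    ∃ v : B →ₐ[A] C, (Ideal.Quotient.mkₐ A J).comp v = u := by
  revert u
  have hJ' := hJ
  revert hJ'
  revert ‹Algebra A C›
  apply Ideal.IsNilpotent.induction_on (S := C) J hJ
  · intro C _ J hJ _ _ u hu
    exact h C J hJ u hu
  · intro C _ I J hIJ h₁ h₂ _ hJnil g hg
    obtain ⟨N, hN⟩ := hJnil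
    obtain ⟨k, hk⟩ := hg
    have hInil : IsNilpotent I := ⟨N, by
      rw [Ideal.zero_eq_bot, eq_bot_iff, ← Ideal.zero_eq_bot, ← hN]
      exact Ideal.pow_right_mono hIJ N⟩
    have hJInil : IsNilpotent (J.map (Ideal.Quotient.mk I)) := ⟨N, by
      rw [← Ideal.map_pow, hN, Ideal.zero_eq_bot, Ideal.map_bot]; rfl⟩
    let e : ((C ⧸ I) ⧸ J.map (Ideal.Quotient.mk I)) ≃ₐ[A] C ⧸ J :=
      { (DoubleQuot.quotQuotEquivQuotSup I J).trans
          (Ideal.quotEquivOfEq (sup_eq_right.mpr hIJ)) with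
        commutes' := fun x => rfl }
    obtain ⟨g', he⟩ := h₂ hJInil (e.symm.toAlgHom.comp g) ⟨k, fun x hx => by
      change e.symm (g x) = 0
      rw [hk x hx, map_zero]⟩
    have hg' : ∀ x ∈ 𝔫 ^ k, g' x ∈ J.map (Ideal.Quotient.mk I) := by
      intro x hx
      rw [← Ideal.Quotient.eq_zero_iff_mem]
      have := congrArg (fun f : B →ₐ[A] _ => f x) he
      change Ideal.Quotient.mk _ (g' x) = e.symm (g x) at this
      rw [this, hk x hx, map_zero]
    have hg'kill : ∀ x ∈ 𝔫 ^ (k * N), g' x = 0 := by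
      intro x hx
      rw [pow_mul] at hx
      have h1 : g' x ∈ ((𝔫 ^ k) ^ N).map g'.toRingHom := Ideal.mem_map_of_mem _ hx
      rw [Ideal.map_pow] at h1
      have h2 : (𝔫 ^ k).map g'.toRingHom ≤ J.map (Ideal.Quotient.mk I) := by
        rw [Ideal.map_le_iff_le_comap]
        exact fun x hx => hg' x hx
      have h3 := Ideal.pow_right_mono h2 N h1
      rw [← Ideal.map_pow, hN, Ideal.zero_eq_bot, Ideal.map_bot] at h3
      exact h3
    obtain ⟨g'', rfl⟩ := h₁ hInil g' ⟨k * N, hg'kill⟩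
    refine ⟨g'', ?_⟩
    replace he := congr_arg e.toAlgHom.comp he
    conv_rhs at he =>
      rw [← AlgHom.comp_assoc, AlgEquiv.comp_symm, AlgHom.id_comp]
    exact he

theorem isAdicFormallySmooth_iff_isFormallySmoothAdic_bot {A B : Type u} [CommRing A] [CommRing B]
    [Algebra A B] (𝔫 : Ideal B) :
    CAlgX.IsAdicFormallySmooth A B 𝔫 ↔ EGA41.IsFormallySmoothAdic A ⊥ B 𝔫 := by
  constructor
  · intro h C _ _ J hJ _ u hu
    exact exists_lift_of_isAdicFormallySmooth h J hJ u hu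
  · intro h C _ _ J hJ u hu
    refine h C J ⟨2, hJ⟩ ⟨1, ?_⟩ u hu
    rw [pow_one, Ideal.map_bot]

end Groth.Agent.Lib.Helper21
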