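import Groth.Agent.Lib.Helper21.PowerSeriesAdic
import Mathlib.RingTheory.MvPowerSeries.Order

/-!
# Power series in finitely many variables: continuity of evaluation at nilpotents (helper21)
-/

set_option autoImplicit false

namespace Groth.Agent.Lib.Helper21

namespace PSAdic

open MvPowerSeries Finsupp

variable {n : ℕ} {R : Type*} [CommRing R]

/-- The ideal of power series of order at least `N`. -/
def orderIdeal (n : ℕ) (R : Type*) [CommRing R] (N : ℕ) : Ideal (MvPowerSeries (Fin n) R) where
  carrier := {f | (N : ℕ∞) ≤ f.order}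
  zero_mem' := by simp
  add_mem' := fun {f g} hf hg => le_trans (le_min hf hg) (min_order_le_add)
  smul_mem' := fun a f hf => by
    change (N : ℕ∞) ≤ (a * f).order
    exact le_trans (le_trans hf le_add_self) le_order_mul

lemma mem_orderIdeal {N : ℕ} {f : MvPowerSeries (Fin n) R} :
    f ∈ orderIdeal n R N ↔ (N : ℕ∞) ≤ f.order := Iff.rfl

lemma ker_pow_le_orderIdeal (N : ℕ) :
    RingHom.ker (constantCoeff : MvPowerSeries (Fin n) R →+* R) ^ N ≤ orderIdeal n R N := by
  induction N with
  | zero => intro f _; rw [mem_orderIdeal]; simp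
  | succ N ih =>
    rw [pow_succ', Ideal.mul_le]
    intro a ha b hb
    rw [RingHom.mem_ker, ← one_le_order_iff_constCoeff_eq_zero] at ha
    have hb' := ih hb
    rw [mem_orderIdeal] at hb' ⊢
    refine le_trans ?_ le_order_mul
    push_cast
    rw [add_comm]
    exact add_le_add ha hb'

lemma coeff_eq_zero_of_mem_ker_pow {N : ℕ} {f : MvPowerSeries (Fin n) R}
    (hf : f ∈ RingHom.ker (constantCoeff : MvPowerSeries (Fin n) R →+* R) ^ N)
    (x : Fin n →₀ ℕ) (hx : degree x < N) : coeff x f = 0 := by
  apply coeff_of_lt_order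
  exact lt_of_lt_of_le (by exact_mod_cast hx) (ker_pow_le_orderIdeal N hf)

section Eval

variable {S : Type*} [CommRing S] [Algebra R S]

lemma evalNilp_eq_zero_of_mem_ker_pow (c : Fin n → S) (K : ℕ) (hc : ∀ i, c i ^ K = 0) {N : ℕ}
    (hN : n * K < N) {f : MvPowerSeries (Fin n) R}
    (hf : f ∈ RingHom.ker (constantCoeff : MvPowerSeries (Fin n) R →+* R) ^ N) :
    evalNilp c K hc f = 0 := by
  rw [evalNilp_apply]
  have : truncTotal (n * K + 1) f = 0 := by
    ext x
    rw [coeff_truncTotal_eq_ite, MvPolynomial.coeff_zero]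
    split_ifs with h
    · exact coeff_eq_zero_of_mem_ker_pow hf x (by omega)
    · rfl
  rw [this, map_zero]

/-- An algebra map out of the power series ring which kills a power of the ideal of the variables
is the evaluation at the images of the variables. -/
lemma eq_evalNilp (u : MvPowerSeries (Fin n) R →ₐ[R] S) (k : ℕ)
    (hk : ∀ x ∈ RingHom.ker (constantCoeff : MvPowerSeries (Fin n) R →+* R) ^ k, u x = 0)
    (c : Fin n → S) (K : ℕ) (hc : ∀ i, c i ^ K = 0) (hX : ∀ i, u (X i) = c i) :
    u = evalNilp c K hc := by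
  ext f
  let N := n * K + k + 1
  let p := truncTotal N f
  have hr : f - (p : MvPowerSeries (Fin n) R) ∈
      RingHom.ker (constantCoeff : MvPowerSeries (Fin n) R →+* R) ^ k := by
    apply mem_ker_pow_of_coeff_eq_zero
    intro x hx
    rw [map_sub, MvPolynomial.coeff_coe, coeff_truncTotal _ (by omega), sub_self]
  have h1 : u f = u (p : MvPowerSeries (Fin n) R) := by
    have := hk _ hr
    rwa [map_sub, sub_eq_zero] at this
  have h2 : u (p : MvPowerSeries (Fin n) R) = MvPolynomial.aeval c p := by
    have : (u.comp (MvPolynomial.coeToMvPowerSeries.algHom R)) = MvPolynomial.aeval c := by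
      apply MvPolynomial.algHom_ext
      intro i
      simp [hX]
    have h3 := AlgHom.congr_fun this p
    simpa using h3
  rw [h1, h2, evalNilp_eq_aeval_truncTotal c _ hc N (by omega)]

end Eval

end PSAdic

end Groth.Agent.Lib.Helper21
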