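import Mathlib.RingTheory.MvPowerSeries.Trunc
import Mathlib.RingTheory.MvPowerSeries.Basic
import Mathlib.RingTheory.Ideal.Maps
import Mathlib.RingTheory.Ideal.Operations
import Mathlib.Algebra.MvPolynomial.Eval
import Mathlib.Algebra.MvPolynomial.CommRing

/-!
# Power series in finitely many variables: the ideal of the variables (helper21)

* `PSAdic.mem_ker_pow_of_coeff_eq_zero`: a power series in `Fin n` variables all of whose coefficients
  of degree `< N` vanish lies in the `N`-th power of the kernel of the constant coefficient map.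
* `PSAdic.evalNilp`: evaluation of power series at a family of nilpotent elements, as an algebra map.
-/

set_option autoImplicit false

namespace Groth.Agent.Lib.Helper21

namespace PSAdic

open MvPowerSeries Finsupp

variable {n : ℕ} {R : Type*} [CommRing R]

/-- The part of `f` divisible by `X i` and by no earlier variable, divided by `X i`. -/
noncomputable def part (i : Fin n) (f : MvPowerSeries (Fin n) R) : MvPowerSeries (Fin n) R :=
  fun y => if ∀ j < i, y j = 0 then coeff (y + single i 1) f else 0

lemma coeff_part (i : Fin n) (f : MvPowerSeries (Fin n) R) (y : Fin n →₀ ℕ) :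
    coeff y (part i f) = if ∀ j < i, y j = 0 then coeff (y + single i 1) f else 0 := rfl

lemma coeff_X_mul_part (i : Fin n) (f : MvPowerSeries (Fin n) R) (x : Fin n →₀ ℕ) :
    coeff x (X i * part i f) = if (x i ≠ 0 ∧ ∀ j < i, x j = 0) then coeff x f else 0 := by
  rw [X_def, coeff_monomial_mul, one_mul]
  by_cases hxi : x i = 0
  · have h1 : ¬ (single i 1 ≤ x) := by
      intro h
      have := h i
      simp [hxi] at this
    rw [if_neg h1, if_neg (by simp [hxi])]
  · have h1 : single i 1 ≤ x := by
      intro j
      by_cases hj : j = i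
      · subst hj
        simp only [single_eq_same]
        omega
      · rw [single_eq_of_ne hj]
        exact Nat.zero_le _
    rw [if_pos h1, coeff_part, tsub_add_cancel_of_le h1]
    have h2 : (∀ j < i, (x - single i 1 : Fin n →₀ ℕ) j = 0) ↔ ∀ j < i, x j = 0 := by
      refine forall₂_congr fun j hj => ?_
      rw [tsub_apply, single_eq_of_ne hj.ne, Nat.sub_zero]
    simp only [h2, hxi, ne_eq, not_false_eq_true, true_and]

lemma eq_C_add_sum (f : MvPowerSeries (Fin n) R) :
    f = C (constantCoeff f) + ∑ i, X i * part i f := by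
  ext x
  rw [map_add, map_sum]
  simp only [coeff_X_mul_part]
  by_cases hx : x = 0
  · subst hx
    simp [coeff_zero_eq_constantCoeff]
  · have hne : x.support.Nonempty := by
      rwa [Finset.nonempty_iff_ne_empty, ne_eq, support_eq_empty]
    let i₀ := x.support.min' hne
    have hi₀ : x i₀ ≠ 0 := mem_support_iff.1 (x.support.min'_mem hne)
    have hmin : ∀ j < i₀, x j = 0 := by
      intro j hj
      by_contra hxj
      have := x.support.min'_le j (mem_support_iff.2 hxj)
      exact absurd hj (not_lt.2 this)
    rw [Finset.sum_eq_single i₀]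
    · rw [if_pos ⟨hi₀, hmin⟩, coeff_C, if_neg hx, zero_add]
    · intro i _ hi
      rw [if_neg]
      rintro ⟨h1, h2⟩
      rcases lt_or_gt_of_ne hi with h | h
      · exact h1 (hmin i h)
      · exact hi₀ (h2 i₀ h)
    · intro h
      exact absurd (Finset.mem_univ _) h

/-- A power series in finitely many variables whose coefficients of degree `< N` all vanish lies in
the `N`-th power of the ideal generated by the variables (the kernel of the constant coefficient). -/
theorem mem_ker_pow_of_coeff_eq_zero (N : ℕ) (f : MvPowerSeries (Fin n) R)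
    (hf : ∀ x : Fin n →₀ ℕ, degree x < N → coeff x f = 0) :
    f ∈ RingHom.ker (constantCoeff : MvPowerSeries (Fin n) R →+* R) ^ N := by
  induction N generalizing f with
  | zero => simp
  | succ N ih =>
    have h0 : constantCoeff f = 0 := by
      rw [← coeff_zero_eq_constantCoeff]
      exact hf 0 (by simp)
    rw [eq_C_add_sum f, h0, map_zero, zero_add]
    refine Submodule.sum_mem _ fun i _ => ?_
    rw [pow_succ']
    refine Ideal.mul_mem_mul ?_ (ih _ ?_)
    · rw [RingHom.mem_ker]
      exact constantCoeff_X i
    · intro y hy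
      rw [coeff_part]
      split_ifs with h
      · apply hf
        rw [map_add, degree_single]
        omega
      · rfl

section Eval

variable {S : Type*} [CommRing S] [Algebra R S]

/-- A polynomial without monomials of degree `< N` vanishes at a family `c` with `c i ^ K = 0`,
if `n * K < N`. -/
lemma aeval_eq_zero_of_coeff_eq_zero (c : Fin n → S) (K N : ℕ) (hc : ∀ i, c i ^ K = 0)
    (hN : n * K < N) (p : MvPolynomial (Fin n) R)
    (hp : ∀ x : Fin n →₀ ℕ, degree x < N → p.coeff x = 0) : MvPolynomial.aeval c p = 0 := by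
  rw [MvPolynomial.aeval_def, MvPolynomial.eval₂_eq']
  apply Finset.sum_eq_zero
  intro x hx
  have hdeg : N ≤ degree x := by
    by_contra h
    exact (MvPolynomial.mem_support_iff.1 hx) (hp x (not_le.1 h))
  have hex : ∃ i, K ≤ x i := by
    by_contra h
    have h' : ∀ i, x i ≤ K := fun i => (not_le.1 (not_exists.1 h i)).le
    have : degree x ≤ n * K := by
      rw [degree_eq_sum]
      calc ∑ i, x i ≤ ∑ _i : Fin n, K := Finset.sum_le_sum (fun i _ => h' i)
        _ = n * K := by simp
    omega
  obtain ⟨i, hi⟩ := hex
  have : ∏ j, c j ^ x j = 0 := by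
    apply Finset.prod_eq_zero (Finset.mem_univ i)
    rw [← Nat.sub_add_cancel hi, pow_add, hc, mul_zero]
  rw [this, mul_zero]

/-- Evaluation of power series in finitely many variables at nilpotent elements. -/
noncomputable def evalNilp (c : Fin n → S) (K : ℕ) (hc : ∀ i, c i ^ K = 0) :
    MvPowerSeries (Fin n) R →ₐ[R] S :=
  AlgHom.ofLinearMap ((MvPolynomial.aeval c).toLinearMap.comp (truncTotal (n * K + 1)))
    (by
      change MvPolynomial.aeval c (truncTotal (n * K + 1) (1 : MvPowerSeries (Fin n) R)) = 1
      rw [truncTotal_one (Nat.succ_ne_zero _), map_one])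
    (fun f g => by
      change MvPolynomial.aeval c (truncTotal (n * K + 1) (f * g)) =
        MvPolynomial.aeval c (truncTotal (n * K + 1) f) *
          MvPolynomial.aeval c (truncTotal (n * K + 1) g)
      rw [← sub_eq_zero, ← map_mul, ← map_sub]
      apply aeval_eq_zero_of_coeff_eq_zero c K _ hc (Nat.lt_succ_self _)
      intro x hx
      rw [MvPolynomial.coeff_sub, coeff_truncTotal _ hx,
        coeff_truncTotal_mul_truncTotal_eq_coeff_mul _ _ hx, sub_self])

lemma evalNilp_apply (c : Fin n → S) (K : ℕ) (hc : ∀ i, c i ^ K = 0)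
    (f : MvPowerSeries (Fin n) R) :
    evalNilp c K hc f = MvPolynomial.aeval c (truncTotal (n * K + 1) f) := rfl

lemma evalNilp_eq_aeval_truncTotal (c : Fin n → S) (K : ℕ) (hc : ∀ i, c i ^ K = 0) (N : ℕ)
    (hN : n * K < N) (f : MvPowerSeries (Fin n) R) :
    evalNilp c K hc f = MvPolynomial.aeval c (truncTotal N f) := by
  rw [evalNilp_apply, ← sub_eq_zero, ← map_sub]
  apply aeval_eq_zero_of_coeff_eq_zero c K _ hc (Nat.lt_succ_self _)
  intro x hx
  rw [MvPolynomial.coeff_sub, coeff_truncTotal _ hx, coeff_truncTotal _ (by omega), sub_self]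

lemma evalNilp_coe (c : Fin n → S) (K : ℕ) (hc : ∀ i, c i ^ K = 0) (p : MvPolynomial (Fin n) R) :
    evalNilp c K hc (p : MvPowerSeries (Fin n) R) = MvPolynomial.aeval c p := by
  rw [evalNilp_apply, ← sub_eq_zero, ← map_sub]
  apply aeval_eq_zero_of_coeff_eq_zero c K _ hc (Nat.lt_succ_self _)
  intro x hx
  rw [MvPolynomial.coeff_sub, coeff_truncTotal _ hx, MvPolynomial.coeff_coe, sub_self]

lemma evalNilp_X (c : Fin n → S) (K : ℕ) (hc : ∀ i, c i ^ K = 0) (i : Fin n) :
    evalNilp (R := R) c K hc (X i) = c i := by
  rw [← MvPolynomial.coe_X, evalNilp_coe, MvPolynomial.aeval_X]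

end Eval

end PSAdic

end Groth.Agent.Lib.Helper21
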