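import Mathlib.RingTheory.Ideal.Quotient.Operations
import Mathlib.RingTheory.Ideal.Operations

/-!
# Gluing algebra maps into two quotients (helper21)

`R ⧸ (I₁ ⊓ I₂)` is the fibre product of `R ⧸ I₁` and `R ⧸ I₂` over `R ⧸ (I₁ ⊔ I₂)`: two algebra
maps `B → R ⧸ I₁`, `B → R ⧸ I₂` whose values always have a common lift to `R` come from a unique
algebra map `B → R ⧸ (I₁ ⊓ I₂)`.
-/

set_option autoImplicit false
universe u v w

namespace Groth.Agent.Lib.Helper21

variable {A : Type u} {B : Type v} {R : Type w} [CommRing A] [CommRing B] [CommRing R]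
  [Algebra A B] [Algebra A R]

theorem exists_algHom_quotient_inf (I₁ I₂ : Ideal R)
    (f₁ : B →ₐ[A] R ⧸ I₁) (f₂ : B →ₐ[A] R ⧸ I₂)
    (h : ∀ b : B, ∃ c : R, Ideal.Quotient.mk I₁ c = f₁ b ∧ Ideal.Quotient.mk I₂ c = f₂ b) :
    ∃ f : B →ₐ[A] R ⧸ (I₁ ⊓ I₂), ∀ (b : B) (c : R), Ideal.Quotient.mk I₁ c = f₁ b →
      Ideal.Quotient.mk I₂ c = f₂ b → f b = Ideal.Quotient.mk (I₁ ⊓ I₂) c := by
  choose g hg₁ hg₂ using h
  have key : ∀ (b : B) (c : R), Ideal.Quotient.mk I₁ c = f₁ b →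
      Ideal.Quotient.mk I₂ c = f₂ b →
      Ideal.Quotient.mk (I₁ ⊓ I₂) (g b) = Ideal.Quotient.mk (I₁ ⊓ I₂) c := by
    intro b c h₁ h₂
    rw [Ideal.Quotient.eq, Ideal.mem_inf]
    constructor
    · rw [← Ideal.Quotient.eq, hg₁, h₁]
    · rw [← Ideal.Quotient.eq, hg₂, h₂]
  refine ⟨{ toFun := fun b => Ideal.Quotient.mk (I₁ ⊓ I₂) (g b)
            map_one' := ?_
            map_mul' := ?_
            map_zero' := ?_
            map_add' := ?_
            commutes' := ?_ }, key⟩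
  · rw [key 1 1 (by rw [map_one, map_one]) (by rw [map_one, map_one]), map_one]
  · intro x y
    rw [key (x * y) (g x * g y) (by rw [map_mul, map_mul, hg₁, hg₁])
      (by rw [map_mul, map_mul, hg₂, hg₂]), map_mul]
  · rw [key 0 0 (by rw [map_zero, map_zero]) (by rw [map_zero, map_zero]), map_zero]
  · intro x y
    rw [key (x + y) (g x + g y) (by rw [map_add, map_add, hg₁, hg₁])
      (by rw [map_add, map_add, hg₂, hg₂]), map_add]
  · intro a
    rw [key (algebraMap A B a) (algebraMap A R a)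
      (by rw [AlgHom.commutes]; rfl) (by rw [AlgHom.commutes]; rfl)]
    rfl

end Groth.Agent.Lib.Helper21
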