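import Mathlib.AlgebraicGeometry.Morphisms.QuasiCompact
import Mathlib.AlgebraicGeometry.Morphisms.UnderlyingMap
import Mathlib.Topology.Inseparable
import Mathlib.Topology.Sober
import Mathlib.RingTheory.Ideal.MinimalPrime.Localization
import Mathlib.RingTheory.Spectrum.Prime.Topology

/-!
# Maximal points (points without proper generizations) and quasi-compact dominant morphisms
-/

set_option autoImplicit false
universe u
open AlgebraicGeometry CategoryTheory

namespace Groth.Agent.Lib.Helper21

/-- A point without proper generizations. -/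
def IsMaximalPoint {α : Type*} [TopologicalSpace α] (x : α) : Prop := ∀ x' : α, x' ⤳ x → x' = x

/-- In a quasi-sober T0 space every point has a generization which is a maximal point. -/
theorem exists_maximal_generization {α : Type*} [TopologicalSpace α] [QuasiSober α] [T0Space α]
    (x : α) : ∃ x' : α, x' ⤳ x ∧ IsMaximalPoint x' := by
  have hirr : IsIrreducible (irreducibleComponent x) := isIrreducible_irreducibleComponent
  have hgen := hirr.isGenericPoint_genericPoint isClosed_irreducibleComponent
  refine ⟨hirr.genericPoint, hgen.specializes mem_irreducibleComponent, fun x'' hx'' => ?_⟩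
  have hsub : irreducibleComponent x ⊆ closure {x''} := by
    rw [← hgen.def]
    exact hx''.closure_subset
  have heq : closure {x''} = irreducibleComponent x :=
    eq_irreducibleComponent isIrreducible_singleton.closure.isPreirreducible hsub
  exact IsGenericPoint.eq (isGenericPoint_def.mpr heq) hgen

/-- A maximal point of `Spec S` in the closure of the image of `Spec R → Spec S` lies in
the image. -/
theorem PrimeSpectrum.mem_range_comap_of_isMaximalPoint {R S : Type*} [CommRing R] [CommRing S]
    (φ : S →+* R) (q : PrimeSpectrum S) (hq : IsMaximalPoint q)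
    (hcl : q ∈ closure (Set.range (PrimeSpectrum.comap φ))) :
    q ∈ Set.range (PrimeSpectrum.comap φ) := by
  rw [PrimeSpectrum.closure_range_comap, PrimeSpectrum.mem_zeroLocus, SetLike.coe_subset_coe] at hcl
  have hmin : q.asIdeal ∈ ((⊥ : Ideal R).comap φ).minimalPrimes := by
    refine ⟨⟨q.2, hcl⟩, fun p ⟨hp, _⟩ hpq => ?_⟩
    have : (⟨p, hp⟩ : PrimeSpectrum S) ⤳ q := (PrimeSpectrum.le_iff_specializes _ _).mp hpq
    have := hq _ this
    rw [← this]
  obtain ⟨p', hp', _, hcomap⟩ := Ideal.exists_comap_eq_of_mem_minimalPrimes φ q.asIdeal hmin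
  exact ⟨⟨p', hp'⟩, PrimeSpectrum.ext hcomap⟩

/-- Affine target: a maximal point in the closure of the image of a quasi-compact morphism lies in
the image. -/
theorem mem_range_of_isMaximalPoint_of_affine {X : Scheme.{u}} {S : CommRingCat.{u}}
    (f : X ⟶ Spec S) [QuasiCompact f]
    (y : Spec S) (hy : IsMaximalPoint y) (hcl : y ∈ closure (Set.range f)) :
    y ∈ Set.range f := by
  have : CompactSpace X := HasAffineProperty.iff_of_isAffine.mp ‹QuasiCompact f›
  obtain ⟨R, g, hg⟩ := compactSpace_iff_exists.mp this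
  have hrange : Set.range (g ≫ f) = Set.range f := by
    rw [Scheme.Hom.comp_base, TopCat.coe_comp, hg.range_comp]
  obtain ⟨φ, hφ⟩ := Spec.map_surjective (g ≫ f)
  rw [← hrange, ← hφ] at hcl ⊢
  exact PrimeSpectrum.mem_range_comap_of_isMaximalPoint φ.hom y hy hcl

/-- A maximal point in the closure of the image of a quasi-compact morphism lies in the image. -/
theorem mem_range_of_isMaximalPoint {X Y : Scheme.{u}} (f : X ⟶ Y) [QuasiCompact f]
    (y : Y) (hy : IsMaximalPoint y) (hcl : y ∈ closure (Set.range f)) :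
    y ∈ Set.range f := by
  obtain ⟨_, ⟨V₀, hV₀, rfl⟩, hyV, -⟩ :=
    Y.isBasis_affineOpens.exists_subset_of_mem_open (Set.mem_univ y) isOpen_univ
  let V : Y.Opens := V₀
  have hV : IsAffineOpen V := hV₀
  have : IsAffine V.toScheme := hV
  let y' : V.toScheme := ⟨y, hyV⟩
  have hy' : IsMaximalPoint y' := by
    intro z hz
    have : V.ι z ⤳ V.ι y' := hz.map V.ι.continuous
    exact V.ι.isOpenEmbedding.injective (hy _ this)
  have hcl' : y' ∈ closure (Set.range (f ∣_ V)) := by
    rw [V.ι.isOpenEmbedding.isEmbedding.closure_eq_preimage_closure_image, Set.mem_preimage, mem_closure_iff]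
    intro O hO hyO
    obtain ⟨_, ⟨hz1, hz2⟩, x, rfl⟩ := mem_closure_iff.mp hcl (O ∩ V) (hO.inter V.2) ⟨hyO, hyV⟩
    refine ⟨f x, hz1, (f ∣_ V) ⟨x, hz2⟩, ⟨⟨x, hz2⟩, rfl⟩, ?_⟩
    exact morphismRestrict_base_coe f V ⟨x, hz2⟩
  -- transport along `V ≅ Spec Γ(V, ⊤)`
  let e := V.toScheme.isoSpec
  have : QuasiCompact ((f ∣_ V) ≫ e.hom) := inferInstance
  have hmax : IsMaximalPoint (e.hom y') := by
    intro z hz
    have h1 : e.inv z ⤳ e.inv (e.hom y') := hz.map e.inv.continuous
    have h2 : e.inv (e.hom y') = y' := by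
      rw [← Scheme.Hom.comp_apply, e.hom_inv_id]; rfl
    rw [h2] at h1
    rw [← hy' _ h1, ← Scheme.Hom.comp_apply, e.inv_hom_id]; rfl
  have hcl'' : e.hom y' ∈ closure (Set.range ((f ∣_ V) ≫ e.hom)) := by
    rw [Scheme.Hom.comp_base, TopCat.coe_comp, Set.range_comp]
    exact image_closure_subset_closure_image e.hom.continuous ⟨y', hcl', rfl⟩
  obtain ⟨x, hx⟩ := mem_range_of_isMaximalPoint_of_affine _ _ hmax hcl''
  rw [Scheme.Hom.comp_apply] at hx
  have hx' : (f ∣_ V) x = y' := by
    have := congrArg e.inv hx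
    rw [← Scheme.Hom.comp_apply, ← Scheme.Hom.comp_apply, e.hom_inv_id] at this
    simpa using this
  refine ⟨x.1, ?_⟩
  rw [← morphismRestrict_base_coe f V x, hx']

end Groth.Agent.Lib.Helper21
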