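import Mathlib.AlgebraicGeometry.Morphisms.RingHomProperties
import Mathlib.AlgebraicGeometry.Morphisms.FinitePresentation
import Mathlib.AlgebraicGeometry.Morphisms.FiniteType

/-!
# A two-property version of `HasRingHomProperty.of_comp`
-/

set_option autoImplicit false
universe u
open AlgebraicGeometry CategoryTheory CategoryTheory.Limits

namespace Groth.Agent.Lib.Helper21

open AlgebraicGeometry.HasRingHomProperty in
/-- If `P`, `P'` are local properties with associated ring hom properties `Q`, `Q'`, and
`Q (g ∘ f)`, `Q' f` imply `Q g` for ring maps, then `P (f ≫ g)` and `P' g` imply `P f`. -/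
theorem hasRingHomProperty_of_comp_of
    {P P' : MorphismProperty Scheme.{u}}
    {Q Q' : ∀ {R S : Type u} [CommRing R] [CommRing S], (R →+* S) → Prop}
    [HasRingHomProperty P Q] [HasRingHomProperty P' Q']
    (H : ∀ {R S T : Type u} [CommRing R] [CommRing S] [CommRing T],
      ∀ (f : R →+* S) (g : S →+* T), Q (g.comp f) → Q' f → Q g)
    {X Y Z : Scheme.{u}} {f : X ⟶ Y} {g : Y ⟶ Z} (h : P (f ≫ g)) (h' : P' g) : P f := by
  wlog hZ : IsAffine Z generalizing X Y Z
  · rw [IsZariskiLocalAtTarget.iff_of_iSup_eq_top (P := P) _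
      (g.iSup_preimage_eq_top (iSup_affineOpens_eq_top Z))]
    intro U
    have H' := IsZariskiLocalAtTarget.restrict h U.1
    rw [morphismRestrict_comp] at H'
    exact this H' (IsZariskiLocalAtTarget.restrict h' U.1) inferInstance
  wlog hY : IsAffine Y generalizing X Y
  · rw [IsZariskiLocalAtTarget.iff_of_iSup_eq_top (P := P) _ (iSup_affineOpens_eq_top Y)]
    intro U
    have H' := comp_of_isOpenImmersion P (f ⁻¹ᵁ U.1).ι (f ≫ g) h
    rw [← morphismRestrict_ι_assoc] at H'
    exact this H' (comp_of_isOpenImmersion P' U.1.ι g h') inferInstance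
  wlog hY : IsAffine X generalizing X
  · rw [IsZariskiLocalAtSource.iff_of_iSup_eq_top (P := P) _ (iSup_affineOpens_eq_top X)]
    intro U
    have H' := comp_of_isOpenImmersion P U.1.ι (f ≫ g) h
    rw [← Category.assoc] at H'
    exact this H' inferInstance
  rw [iff_of_isAffine (P := P)] at h ⊢
  rw [iff_of_isAffine (P := P')] at h'
  refine H _ _ ?_ h'
  rw [← CommRingCat.hom_comp, ← Scheme.Hom.comp_appTop]
  exact h

/-- If `f ≫ g` is locally of finite presentation and `g` is locally of finite type, then
`f` is locally of finite presentation. -/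
theorem locallyOfFinitePresentation_of_comp_of_locallyOfFiniteType
    {X Y Z : Scheme.{u}} (f : X ⟶ Y) (g : Y ⟶ Z)
    [LocallyOfFinitePresentation (f ≫ g)] [LocallyOfFiniteType g] :
    LocallyOfFinitePresentation f :=
  hasRingHomProperty_of_comp_of (P := @LocallyOfFinitePresentation) (P' := @LocallyOfFiniteType)
    (fun f _ h h' ↦ RingHom.FinitePresentation.of_comp_finiteType f h h') ‹_› ‹_›

end Groth.Agent.Lib.Helper21
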