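import Mathlib.RingTheory.Ideal.AssociatedPrime.Basic
import Mathlib.RingTheory.IntegralClosure.IntegrallyClosed
import Mathlib.RingTheory.LocalProperties.IntegrallyClosed
import Mathlib.RingTheory.Ideal.KrullsHeightTheorem
import Mathlib.RingTheory.Localization.AtPrime.Basic
import Mathlib.RingTheory.Ideal.Height

set_option autoImplicit false

namespace Groth.Agent.Lib.Helper21.Hartogs

variable {R : Type*} [CommRing R] [IsDomain R]

/-- In a Noetherian integrally closed domain, a prime of the form `(b : c)` with `b ≠ 0`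
has height one. -/
theorem height_eq_one_of_colon_aux (K : Type*) [Field K] [Algebra R K] [IsFractionRing R K]
    [IsNoetherianRing R] [IsIntegrallyClosed R]
    (P : Ideal R) [hP : P.IsPrime] (b c : R) (hb0 : b ≠ 0)
    (hPmem : ∀ r, r ∈ P ↔ b ∣ r * c) : P.height = 1 := by
  classical
  let S := Localization.AtPrime P
  have hunit : ∀ y : P.primeCompl, IsUnit (algebraMap R K y) := fun y =>
    IsUnit.mk0 _ (by
      intro h
      have : (y : R) = 0 := (IsFractionRing.injective R K) (by rw [h, map_zero])
      exact y.2 (this ▸ P.zero_mem))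
  letI : Algebra S K := (IsLocalization.lift (M := P.primeCompl) (g := algebraMap R K) hunit).toAlgebra
  haveI : IsScalarTower R S K := IsScalarTower.of_algebraMap_eq
    (fun r => (IsLocalization.lift_eq (M := P.primeCompl) hunit r).symm)
  haveI : IsFractionRing S K :=
    IsFractionRing.isFractionRing_of_isDomain_of_isLocalization P.primeCompl S K
  haveI : IsIntegrallyClosed S :=
    isIntegrallyClosed_of_isLocalization S P.primeCompl P.primeCompl_le_nonZeroDivisors
  have hinjR : Function.Injective (algebraMap R K) := IsFractionRing.injective R K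
  have hinjS : Function.Injective (algebraMap S K) := IsFractionRing.injective S K
  have hbK : algebraMap R K b ≠ 0 := fun h => hb0 (hinjR (by rw [h, map_zero]))
  have hRSK : ∀ r : R, algebraMap S K (algebraMap R S r) = algebraMap R K r := fun r =>
    (IsScalarTower.algebraMap_apply R S K r).symm
  -- `c ∉ (b)` and `b ∈ P`
  have hcb : ¬ b ∣ c := by
    intro h
    have : (1 : R) ∈ P := (hPmem 1).mpr (by rwa [one_mul])
    exact hP.ne_top ((Ideal.eq_top_iff_one P).mpr this)
  have hbP : b ∈ P := (hPmem b).mpr (Dvd.intro _ rfl)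
  let y : K := algebraMap R K c / algebraMap R K b
  let m := IsLocalRing.maximalIdeal S
  have hmk : ∀ (p : R) (s : P.primeCompl), algebraMap S K (IsLocalization.mk' S p s) =
      algebraMap R K p / algebraMap R K s := by
    intro p s
    have hsK : algebraMap R K s ≠ 0 := (hunit s).ne_zero
    rw [eq_div_iff hsK, ← hRSK s, ← map_mul, IsLocalization.mk'_spec, hRSK]
  -- (i) `y • m ⊆ S`
  have hi : ∀ t ∈ m, ∃ s : S, algebraMap S K s = y * algebraMap S K t := by
    intro t ht
    obtain ⟨p, s, rfl⟩ := IsLocalization.exists_mk'_eq P.primeCompl t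
    have hp : p ∈ P := (IsLocalization.AtPrime.mk'_mem_maximal_iff S P p s).mp ht
    obtain ⟨r, hr⟩ := (hPmem p).mp hp
    refine ⟨IsLocalization.mk' S r s, ?_⟩
    have hsK : algebraMap R K s ≠ 0 := (hunit s).ne_zero
    rw [hmk, hmk]
    have : algebraMap R K p * algebraMap R K c = algebraMap R K b * algebraMap R K r := by
      rw [← map_mul, ← map_mul, hr]
    change _ = algebraMap R K c / algebraMap R K b * _
    field_simp
    linear_combination (-1 : K) * this
  -- (ii) `y ∉ S`
  have hii : ∀ s : S, algebraMap S K s ≠ y := by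
    intro t ht
    obtain ⟨r, s, rfl⟩ := IsLocalization.exists_mk'_eq P.primeCompl t
    rw [hmk] at ht
    have hsK : algebraMap R K s ≠ 0 := (hunit s).ne_zero
    change _ = algebraMap R K c / algebraMap R K b at ht
    rw [div_eq_div_iff hsK hbK, ← map_mul, ← map_mul] at ht
    have h1 : r * b = c * s := hinjR ht
    have : (s : R) ∈ P := (hPmem s).mpr ⟨r, by rw [mul_comm, ← h1, mul_comm]⟩
    exact s.2 this
  -- (iii) there is `t ∈ m` with `y t` a unit
  have hiii : ∃ t ∈ m, ∃ u : S, IsUnit u ∧ algebraMap S K u = y * algebraMap S K t := by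
    by_contra hcon
    push Not at hcon
    -- then `y • m ⊆ m`
    have hstab : ∀ t ∈ m, ∃ s ∈ m, algebraMap S K s = y * algebraMap S K t := by
      intro t ht
      obtain ⟨s, hs⟩ := hi t ht
      refine ⟨s, ?_, hs⟩
      by_contra hsm
      have hu : IsUnit s := by
        by_contra hnu
        exact hsm ((IsLocalRing.mem_maximalIdeal s).mpr hnu)
      exact hcon t ht s hu hs
    let N : Submodule S K := Submodule.map (Algebra.linearMap S K) m
    have hN : N ≠ ⊥ := by
      intro h
      have hb' : algebraMap S K (algebraMap R S b) ∈ N :=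
        ⟨algebraMap R S b, (IsLocalization.AtPrime.to_map_mem_maximal_iff S P b).mpr hbP, rfl⟩
      rw [h, Submodule.mem_bot, hRSK] at hb'
      exact hbK hb'
    have hNfg : N.FG := (IsNoetherian.noetherian m).map _
    have hint : IsIntegral S y := by
      refine isIntegral_of_smul_mem_submodule N hN hNfg y ?_
      rintro _ ⟨t, ht, rfl⟩
      obtain ⟨s, hs, hs'⟩ := hstab t ht
      exact ⟨s, hs, by rw [smul_eq_mul]; exact hs'⟩
    obtain ⟨s, hs⟩ := IsIntegrallyClosed.isIntegral_iff.mp hint
    exact hii s hs
  obtain ⟨t, htm, u, hu, hut⟩ := hiii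
  -- (iv) `m = (t)`
  have hmt : m = Ideal.span {t} := by
    refine le_antisymm ?_ ?_
    · intro s' hs'
      obtain ⟨w, hw⟩ := hi s' hs'
      obtain ⟨v, hv⟩ := hu.exists_left_inv
      rw [Ideal.mem_span_singleton]
      refine ⟨v * w, ?_⟩
      apply hinjS
      have h1 : algebraMap S K v * algebraMap S K u = 1 := by rw [← map_mul, hv, map_one]
      rw [map_mul, map_mul, hw]
      calc algebraMap S K s' = (algebraMap S K v * algebraMap S K u) * algebraMap S K s' := by
            rw [h1, one_mul]
        _ = _ := by rw [hut]; ring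
    · rw [Ideal.span_singleton_le_iff_mem]
      exact htm
  -- (v) height
  have hm1 : m.height ≤ 1 := by
    refine Ideal.height_le_one_of_isPrincipal_of_mem_minimalPrimes (Ideal.span {t}) m ?_
    rw [← hmt]
    exact ⟨⟨inferInstance, le_rfl⟩, fun q hq hqm => hq.2⟩
  have hm0 : m ≠ ⊥ := by
    intro h
    have : algebraMap R S b ∈ m := (IsLocalization.AtPrime.to_map_mem_maximal_iff S P b).mpr hbP
    rw [h, Ideal.mem_bot] at this
    have : algebraMap R K b = 0 := by rw [← hRSK, this, map_zero]
    exact hbK this
  have hm1' : (1 : ℕ∞) ≤ m.height := by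
    rw [Order.one_le_iff_pos, pos_iff_ne_zero, Ne, Ideal.height_eq_zero_iff_eq_bot]
    exact hm0
  have hPh : P.height = m.height := by
    have h1 := IsLocalization.AtPrime.ringKrullDim_eq_height P S
    have h2 := IsLocalRing.maximalIdeal_height_eq_ringKrullDim (R := S)
    have h3 : ((IsLocalRing.maximalIdeal S).height : WithBot ℕ∞) = P.height := h2.trans h1
    exact (WithBot.coe_injective h3).symm
  rw [hPh]
  exact le_antisymm hm1 hm1'



/-- **Algebraic Hartogs**: an element of the fraction field of a Noetherian integrally closed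
domain that lies in the localization at every height-one prime lies in the ring. -/
theorem mem_range_of_forall_height_one (K : Type*) [Field K] [Algebra R K] [IsFractionRing R K]
    [IsNoetherianRing R] [IsIntegrallyClosed R] (k : K)
    (h : ∀ P : Ideal R, P.IsPrime → P.height = 1 →
      ∃ a s : R, s ∉ P ∧ k * algebraMap R K s = algebraMap R K a) :
    k ∈ (algebraMap R K).range := by
  obtain ⟨a, b, hb, rfl⟩ := IsFractionRing.div_surjective (A := R) k
  have hb0 : b ≠ 0 := nonZeroDivisors.ne_zero hb
  have hinjR : Function.Injective (algebraMap R K) := IsFractionRing.injective R K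
  have hbK : algebraMap R K b ≠ 0 := fun h => hb0 (hinjR (by rw [h, map_zero]))
  by_contra hk
  have hab : Ideal.Quotient.mk (Ideal.span {b}) a ≠ 0 := by
    intro h0
    rw [Ideal.Quotient.eq_zero_iff_mem, Ideal.mem_span_singleton] at h0
    obtain ⟨r, rfl⟩ := h0
    apply hk
    refine ⟨r, ?_⟩
    rw [map_mul, mul_div_cancel_left₀ _ hbK]
  obtain ⟨P, hP, hle⟩ := exists_le_isAssociatedPrime_of_isNoetherianRing
    (R := R) (M := R ⧸ Ideal.span {b}) _ hab
  rw [isAssociatedPrime_iff] at hP
  obtain ⟨hPprime, c', hPc⟩ := hP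
  obtain ⟨c, rfl⟩ := Ideal.Quotient.mk_surjective c'
  have hmem : ∀ (z r : R), r ∈ (⊥ : Submodule R (R ⧸ Ideal.span {b})).colon
      {Ideal.Quotient.mk (Ideal.span {b}) z} ↔ b ∣ r * z := by
    intro z r
    rw [Submodule.mem_colon_singleton, Submodule.mem_bot, Algebra.smul_def,
      Ideal.Quotient.algebraMap_eq, ← map_mul, Ideal.Quotient.eq_zero_iff_mem,
      Ideal.mem_span_singleton]
  have hPmem : ∀ r, r ∈ P ↔ b ∣ r * c := by
    intro r
    rw [hPc]
    exact hmem c r
  have hP1 : P.height = 1 := height_eq_one_of_colon_aux K P b c hb0 hPmem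
  obtain ⟨a', s, hsP, hks⟩ := h P hPprime hP1
  apply hsP
  apply hle
  rw [hmem]
  refine ⟨a', ?_⟩
  apply hinjR
  rw [map_mul, map_mul, ← hks]
  field_simp

end Groth.Agent.Lib.Helper21.Hartogs
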