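import Mathlib.AlgebraicGeometry.OrderOfVanishing
import Mathlib.AlgebraicGeometry.FunctionField

set_option autoImplicit false
universe u
open CategoryTheory CategoryTheory.Limits AlgebraicGeometry TopologicalSpace

namespace Groth.Agent.Lib.Helper21

section RingLevel

variable {R R' : Type*} [CommRing R] [CommRing R']

/-- `Ring.ord` is invariant under ring isomorphisms. -/
lemma ring_ord_ringEquiv (e : R ≃+* R') (x : R) : Ring.ord R' (e x) = Ring.ord R x := by
  letI : Algebra R R' := e.toRingHom.toAlgebra
  have h1 : Module.length R (R' ⧸ Ideal.span {e x}) = Module.length R' (R' ⧸ Ideal.span {e x}) :=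
    Module.length_eq_of_surjective (S := R) (R := R') (M := R' ⧸ Ideal.span {e x}) e.surjective
  have hI : Ideal.span {e x} = Ideal.map (e : R →+* R') (Ideal.span {x}) := by
    rw [Ideal.map_span, Set.image_singleton]; rfl
  let q : (R ⧸ Ideal.span {x}) ≃+* (R' ⧸ Ideal.span {e x}) :=
    Ideal.quotientEquiv _ _ e hI
  let ql : (R ⧸ Ideal.span {x}) ≃ₗ[R] (R' ⧸ Ideal.span {e x}) :=
    { q.toAddEquiv with
      map_smul' := by
        intro r y
        obtain ⟨y, rfl⟩ := Ideal.Quotient.mk_surjective y
        change q (r • Ideal.Quotient.mk _ y) = r • q (Ideal.Quotient.mk _ y)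
        rw [Algebra.smul_def, Algebra.smul_def, map_mul]
        rfl }
  rw [Ring.ord, Ring.ord, ← h1, ql.length_eq]

variable [IsDomain R] [IsNoetherianRing R] [Ring.KrullDimLE 1 R]
  [IsDomain R'] [IsNoetherianRing R'] [Ring.KrullDimLE 1 R']
  {K K' : Type*} [Field K] [Field K'] [Algebra R K] [IsFractionRing R K]
  [Algebra R' K'] [IsFractionRing R' K']

lemma ring_ordMonoidWithZeroHom_ringEquiv (e : R ≃+* R') (x : R) :
    Ring.ordMonoidWithZeroHom R' (e x) = Ring.ordMonoidWithZeroHom R x := by
  by_cases hx : x = 0
  · subst hx; simp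
  · have hx' : e x ≠ 0 := by simpa using hx
    rw [Ring.ordMonoidWithZeroHom_eq_ord (mem_nonZeroDivisors_of_ne_zero hx),
      Ring.ordMonoidWithZeroHom_eq_ord (mem_nonZeroDivisors_of_ne_zero hx'), ring_ord_ringEquiv]

/-- `Ring.ordFrac` is invariant under compatible isomorphisms. -/
lemma ring_ordFrac_ringEquiv (e : R ≃+* R') (φ : K →+* K')
    (h : ∀ r, φ (algebraMap R K r) = algebraMap R' K' (e r)) (k : K) :
    Ring.ordFrac R' (φ k) = Ring.ordFrac R k := by
  obtain ⟨a, b, hb, rfl⟩ := IsFractionRing.div_surjective (A := R) k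
  have hb0 : b ≠ 0 := nonZeroDivisors.ne_zero hb
  have hb0' : e b ≠ 0 := by simpa using hb0
  by_cases ha : a = 0
  · subst ha; simp
  have ha' : e a ≠ 0 := by simpa using ha
  rw [map_div₀, map_div₀, map_div₀, h, h, Ring.ordFrac_eq_ord R' ha', Ring.ordFrac_eq_ord R' hb0',
    Ring.ordFrac_eq_ord R ha, Ring.ordFrac_eq_ord R hb0, ring_ordMonoidWithZeroHom_ringEquiv,
    ring_ordMonoidWithZeroHom_ringEquiv]

end RingLevel



section OpenImmersion

variable {U Y : Scheme.{u}} (f : U ⟶ Y) [IsOpenImmersion f] [IsIntegral U] [IsIntegral Y]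

/-- The comparison map of function fields along an open immersion. -/
noncomputable def functionFieldMap : Y.functionField ⟶ U.functionField :=
  Y.presheaf.stalkSpecializes
    (specializes_of_eq (genericPoint_eq_of_isOpenImmersion f)) ≫ f.stalkMap (genericPoint U)

instance : IsIso (functionFieldMap f) := by
  have : IsIso (Y.presheaf.stalkSpecializes
      (specializes_of_eq (genericPoint_eq_of_isOpenImmersion f))) :=
    (Y.presheaf.stalkCongr (Inseparable.of_eq (genericPoint_eq_of_isOpenImmersion f).symm)).isIso_hom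
  unfold functionFieldMap
  infer_instance

lemma functionFieldMap_algebraMap (u : U) (r : Y.presheaf.stalk (f u)) :
    (functionFieldMap f).hom (algebraMap (Y.presheaf.stalk (f u)) Y.functionField r) =
      algebraMap (U.presheaf.stalk u) U.functionField ((f.stalkMap u).hom r) := by
  simp only [RingHom.algebraMap_toAlgebra]
  have hU : genericPoint U ⤳ u := (genericPoint_spec U).specializes trivial
  have := Scheme.Hom.stalkSpecializes_stalkMap f (genericPoint U) u hU
  have h2 : (Y.presheaf.stalkSpecializes ((genericPoint_spec Y).specializes trivial)) ≫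
      functionFieldMap f = f.stalkMap u ≫ U.presheaf.stalkSpecializes hU := by
    rw [← this, functionFieldMap, ← Category.assoc, TopCat.Presheaf.stalkSpecializes_comp]
  exact congr($(h2).hom r)

variable [IsLocallyNoetherian U] [IsLocallyNoetherian Y]

theorem ordHom_functionFieldMap (u : U) (hu : Order.coheight u = 1) (k : Y.functionField) :
    U.ordHom u hu ((functionFieldMap f).hom k) =
      Y.ordHom (f u) (by rw [coheight_eq_of_isOpenImmersion]; exact hu) k := by
  have hfu : Order.coheight (f u) = 1 := by rw [coheight_eq_of_isOpenImmersion]; exact hu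
  haveI : Ring.KrullDimLE 1 (U.presheaf.stalk u) := krullDimLE_of_coheight_le hu.le
  haveI : Ring.KrullDimLE 1 (Y.presheaf.stalk (f u)) := krullDimLE_of_coheight_le hfu.le
  exact ring_ordFrac_ringEquiv (asIso (f.stalkMap u)).commRingCatIsoToRingEquiv
    (functionFieldMap f).hom (fun r => functionFieldMap_algebraMap f u r) k

theorem ord_functionFieldMap (u : U) (k : Y.functionField) :
    Scheme.ord ((functionFieldMap f).hom k) u = Scheme.ord k (f u) := by
  by_cases hu : Order.coheight u = 1
  · have hfu : Order.coheight (f u) = 1 := by rw [coheight_eq_of_isOpenImmersion]; exact hu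
    rw [Scheme.ord_eq_ordHom_of_coheight_eq_one hu, Scheme.ord_eq_ordHom_of_coheight_eq_one hfu,
      ordHom_functionFieldMap]
  · have hfu : Order.coheight (f u) ≠ 1 := by rw [coheight_eq_of_isOpenImmersion]; exact hu
    rw [Scheme.ord_eq_zero_of_coheight_neq_one hu, Scheme.ord_eq_zero_of_coheight_neq_one hfu]

lemma functionFieldMap_surjective : Function.Surjective (functionFieldMap f).hom :=
  ((ConcreteCategory.isIso_iff_bijective (functionFieldMap f)).mp inferInstance).2

lemma functionFieldMap_ne_zero {k : Y.functionField} (hk : k ≠ 0) :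
    (functionFieldMap f).hom k ≠ 0 := by
  rwa [map_ne_zero_iff _ ((functionFieldMap f).hom.injective)]

end OpenImmersion

end Groth.Agent.Lib.Helper21
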