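import Groth.Agent.Lib.Helper21.Hartogs
import Groth.Agent.Lib.Helper21.OrdOpen
import Mathlib.RingTheory.Valuation.Discrete.IsDiscreteValuationRing
import Mathlib.RingTheory.DiscreteValuationRing.TFAE
import Mathlib.RingTheory.KrullDimension.Field

set_option autoImplicit false
universe u
open CategoryTheory AlgebraicGeometry TopologicalSpace

namespace Groth.Agent.Lib.Helper21.OrdNormal

/-- In a DVR, an element of the fraction field with non-negative order lies in the ring. -/
lemma exists_algebraMap_eq_of_one_le_ordFrac {A K : Type*} [CommRing A] [IsDomain A]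
    [IsDiscreteValuationRing A] [Field K] [Algebra A K] [IsFractionRing A K] (x : K)
    (h : 1 ≤ Ring.ordFrac A x) : ∃ a : A, algebraMap A K a = x := by
  by_cases hx : x = 0
  · exact ⟨0, by rw [hx, map_zero]⟩
  rw [Ring.ordFrac_eq_valuation_inv] at h
  apply IsDiscreteValuationRing.exists_lift_of_le_one
  have hv : (IsDiscreteValuationRing.maximalIdeal A).valuation K x ≠ 0 := by
    rwa [Ne, Valuation.zero_iff]
  rwa [one_le_inv₀ (zero_lt_iff.mpr hv)] at h

/-- A Noetherian integrally closed local domain of dimension one is a DVR. -/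
lemma isDiscreteValuationRing_of_krullDimLE_one (A : Type*) [CommRing A] [IsDomain A]
    [IsNoetherianRing A] [IsLocalRing A] [IsIntegrallyClosed A] [Ring.KrullDimLE 1 A]
    (hA : ¬ IsField A) : IsDiscreteValuationRing A := by
  have htfae := (IsDiscreteValuationRing.TFAE A hA).out 3 0
  refine htfae.mp ⟨inferInstance, ?_⟩
  have hm : IsLocalRing.maximalIdeal A ≠ ⊥ := IsLocalRing.isField_iff_maximalIdeal_eq.not.mp hA
  refine ⟨IsLocalRing.maximalIdeal A, ⟨hm, inferInstance⟩, ?_⟩
  rintro P ⟨hP0, hP⟩
  have : P.IsMaximal := Ring.krullDimLE_one_iff_of_isPrime_bot.mp inferInstance P hP0 hP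
  exact IsLocalRing.eq_maximalIdeal this



variable {X : Scheme.{u}} [IsIntegral X] [IsLocallyNoetherian X]

lemma not_isField_stalk_of_coheight_eq_one (y : X) (hy : Order.coheight y = 1) :
    ¬ IsField (X.presheaf.stalk y) := by
  intro hF
  have h := ringKrullDim_stalk_eq_coheight y
  rw [ringKrullDim_eq_zero_of_isField hF, hy] at h
  exact absurd h (by decide)

lemma isDiscreteValuationRing_stalk (y : X) (hy : Order.coheight y = 1)
    [IsIntegrallyClosed (X.presheaf.stalk y)] : IsDiscreteValuationRing (X.presheaf.stalk y) := by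
  haveI : Ring.KrullDimLE 1 (X.presheaf.stalk y) := krullDimLE_of_coheight_le hy.le
  exact isDiscreteValuationRing_of_krullDimLE_one _ (not_isField_stalk_of_coheight_eq_one y hy)

/-- On a normal scheme, a rational function with non-negative order at the codimension one
points of a neighbourhood of `x` is regular at `x`. -/
theorem mem_range_of_ord_nonneg (hnorm : ∀ x : X, IsIntegrallyClosed (X.presheaf.stalk x))
    (f : X.functionField) (x : X) (U : X.Opens) (hxU : x ∈ U)
    (hord : ∀ y ∈ U, Order.coheight y = 1 → 0 ≤ Scheme.ord f y) :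
    f ∈ (algebraMap (X.presheaf.stalk x) X.functionField).range := by
  by_cases hf : f = 0
  · exact ⟨0, by rw [hf, map_zero]⟩
  obtain ⟨_, ⟨W, hW, rfl⟩, hxW, hWU⟩ :=
    X.isBasis_affineOpens.exists_subset_of_mem_open hxU U.isOpen
  haveI : Nonempty W := ⟨⟨x, hxW⟩⟩
  haveI : IsNoetherianRing Γ(X, W) := IsLocallyNoetherian.component_noetherian ⟨W, hW⟩
  haveI : IsFractionRing Γ(X, W) X.functionField :=
    functionField_isFractionRing_of_isAffineOpen X W hW
  have hmem : ∀ p : PrimeSpectrum Γ(X, W), hW.fromSpec p ∈ W := fun p => by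
    have : hW.fromSpec p ∈ Set.range hW.fromSpec := ⟨p, rfl⟩
    rwa [hW.range_fromSpec] at this
  haveI : IsIntegrallyClosed Γ(X, W) :=
    @IsIntegrallyClosed.of_isLocalization_maximal Γ(X, W) _
      (fun P hP => X.presheaf.stalk (hW.fromSpec ⟨P, hP.isPrime⟩))
      (fun P hP => inferInstance)
      (fun P hP => TopCat.Presheaf.algebra_section_stalk X.presheaf (U := W)
        ⟨hW.fromSpec ⟨P, hP.isPrime⟩, hmem _⟩)
      (fun P hP => hW.isLocalization_stalk' ⟨P, hP.isPrime⟩ (hmem _))
      _ (fun P hP => hnorm _)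
  have key := Hartogs.mem_range_of_forall_height_one (R := Γ(X, W)) X.functionField f ?_
  · obtain ⟨r, hr⟩ := key
    refine ⟨X.presheaf.germ W x hxW r, ?_⟩
    rw [Scheme.algebraMap_germ_eq_germToFunctionField]
    exact hr
  · intro P hP hP1
    let p : PrimeSpectrum Γ(X, W) := ⟨P, hP⟩
    have hyW : hW.fromSpec p ∈ W := by
      have : hW.fromSpec p ∈ Set.range hW.fromSpec := ⟨p, rfl⟩
      rw [hW.range_fromSpec] at this
      exact this
    have hy1 : Order.coheight (hW.fromSpec p) = 1 := by
      rw [coheight_eq_of_isOpenImmersion hW.fromSpec, ← idealHeight_eq_coheight]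
      exact hP1
    haveI := hnorm (hW.fromSpec p)
    haveI : Ring.KrullDimLE 1 (X.presheaf.stalk (hW.fromSpec p)) :=
      krullDimLE_of_coheight_le hy1.le
    haveI : IsDiscreteValuationRing (X.presheaf.stalk (hW.fromSpec p)) :=
      isDiscreteValuationRing_stalk _ hy1
    have h0 := hord _ (hWU hyW) hy1
    rw [Scheme.le_ord_iff hy1 hf] at h0
    have h1 : 1 ≤ Ring.ordFrac (X.presheaf.stalk (hW.fromSpec p)) f := by
      have h0' : (1 : WithZero (Multiplicative ℤ)) ≤ Scheme.ordHom (hW.fromSpec p) hy1 f := by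
        simpa using h0
      exact h0'
    obtain ⟨b, hb⟩ := exists_algebraMap_eq_of_one_le_ordFrac f h1
    letI := TopCat.Presheaf.algebra_section_stalk X.presheaf (U := W) ⟨hW.fromSpec p, hyW⟩
    haveI hloc : IsLocalization P.primeCompl (X.presheaf.stalk (hW.fromSpec p)) :=
      hW.isLocalization_stalk' p hyW
    haveI : IsScalarTower Γ(X, W) (X.presheaf.stalk (hW.fromSpec p)) X.functionField :=
      functionField_isScalarTower X W ⟨hW.fromSpec p, hyW⟩
    obtain ⟨a, s, hs⟩ := IsLocalization.exists_mk'_eq P.primeCompl b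
    refine ⟨a, s, s.2, ?_⟩
    rw [← hb, ← hs, IsScalarTower.algebraMap_apply Γ(X, W) (X.presheaf.stalk (hW.fromSpec p))
      X.functionField, ← map_mul, IsLocalization.mk'_spec,
      ← IsScalarTower.algebraMap_apply]

end Groth.Agent.Lib.Helper21.OrdNormal
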