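import Groth.Agent.Lib.Helper21.AffSpaceSpec

/-!
# Charts of the affine space `𝔸(n; X)` over affine opens of `X` (helper21)
-/

set_option autoImplicit false
universe u
open CategoryTheory CategoryTheory.Limits AlgebraicGeometry TopologicalSpace

namespace Groth.Agent.Lib.Helper21.AffChart

open AffSpec FFMap

variable (n : Type u) {X : Scheme.{u}} {U : X.Opens} (hU : IsAffineOpen U)

/-- The chart `Spec Γ(X,U)[n] ⟶ 𝔸(n; X)` over an affine open `U`. -/
noncomputable def chart : Spec (PA n Γ(X, U)) ⟶ 𝔸(n; X) :=
  (AffineSpace.SpecIso n Γ(X, U)).inv ≫ AffineSpace.map n hU.fromSpec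

instance : IsOpenImmersion (AffineSpace.map n hU.fromSpec) :=
  MorphismProperty.of_isPullback (AffineSpace.isPullback_map (n := n) hU.fromSpec).flip
    inferInstance

instance : IsOpenImmersion (chart n hU) := by
  unfold chart; infer_instance

lemma chart_over : chart n hU ≫ (𝔸(n; X) ↘ X) = cMap n Γ(X, U) ≫ hU.fromSpec := by
  unfold chart
  rw [Category.assoc, AffineSpace.map_over, ← Category.assoc, AffineSpace.SpecIso_inv_over]

lemma over_chart_apply (q : Spec (PA n Γ(X, U))) :
    (𝔸(n; X) ↘ X) (chart n hU q) = hU.fromSpec (cMap n Γ(X, U) q) := by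
  have := congrArg (fun f => f q) (chart_over n hU)
  simpa only [Scheme.Hom.comp_apply] using this

lemma range_chart : Set.range (chart n hU) = (𝔸(n; X) ↘ X) ⁻¹' (U : Set X) := by
  have h1 : Set.range (chart n hU) = Set.range (AffineSpace.map n hU.fromSpec) := by
    unfold chart
    rw [Scheme.Hom.comp_base, TopCat.coe_comp, Set.range_comp]
    have : Set.range (AffineSpace.SpecIso n Γ(X, U)).inv = Set.univ :=
      Set.range_eq_univ.mpr (AffineSpace.SpecIso n Γ(X, U)).inv.surjective
    rw [this, Set.image_univ]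
  have h2 := Scheme.image_preimage_eq_of_isPullback
    (AffineSpace.isPullback_map (n := n) hU.fromSpec).flip Set.univ
  rw [Set.preimage_univ, Set.image_univ, Set.image_univ, hU.range_fromSpec] at h2
  rw [h1]
  exact h2

lemma exists_chart_eq (y : 𝔸(n; X)) (hy : (𝔸(n; X) ↘ X) y ∈ U) : ∃ q, chart n hU q = y := by
  have : y ∈ Set.range (chart n hU) := by rw [range_chart]; exact hy
  exact this

section Integral

variable [IsIntegral X] [Nonempty U]

lemma chart_genericPoint :
    chart n hU (genericPoint (Spec (PA n Γ(X, U)))) = genericPoint 𝔸(n; X) :=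
  genericPoint_eq_of_isOpenImmersion (chart n hU)

lemma fromSpec_genericPoint : hU.fromSpec (genericPoint (Spec Γ(X, U))) = genericPoint X :=
  genericPoint_eq_of_isOpenImmersion hU.fromSpec

include hU in
lemma over_genericPoint : (𝔸(n; X) ↘ X) (genericPoint 𝔸(n; X)) = genericPoint X := by
  rw [← chart_genericPoint n hU, over_chart_apply, cMap_genericPoint, fromSpec_genericPoint]

lemma ffMap_chart_square :
    ffMap (𝔸(n; X) ↘ X) (over_genericPoint n hU) ≫ ffMap (chart n hU) (chart_genericPoint n hU) =
      ffMap hU.fromSpec (fromSpec_genericPoint hU) ≫ ιA n Γ(X, U) :=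
  ffMap_square (chart n hU) (𝔸(n; X) ↘ X) (cMap n Γ(X, U)) hU.fromSpec (chart_over n hU)
    _ _ _ _

end Integral

end Groth.Agent.Lib.Helper21.AffChart
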