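import Groth.Agent.Lib.Helper21.AffSpaceChart

/-!
# Weil divisors on `𝔸(n; X)`: the generic fibre and the vertical divisors (helper21)
-/

set_option autoImplicit false
universe u
open CategoryTheory CategoryTheory.Limits AlgebraicGeometry TopologicalSpace

namespace Groth.Agent.Lib.Helper21.AffDiv

open AffSpec FFMap AffChart

variable (n : Type u) [Finite n] {X : Scheme.{u}} [IsIntegral X] [IsLocallyNoetherian X]
  [IsLocallyNoetherian 𝔸(n; X)]

lemma ord_ffMap_of_isOpenImmersion {U Y : Scheme.{u}} (f : U ⟶ Y) [IsOpenImmersion f]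
    [IsIntegral U] [IsIntegral Y] [IsLocallyNoetherian U] [IsLocallyNoetherian Y]
    (hf : f (genericPoint U) = genericPoint Y) (u : U) (k : Y.functionField) :
    Scheme.ord ((ffMap f hf).hom k) u = Scheme.ord k (f u) :=
  ord_functionFieldMap f u k

lemma ffMap_surjective_of_isOpenImmersion {U Y : Scheme.{u}} (f : U ⟶ Y) [IsOpenImmersion f]
    [IsIntegral U] [IsIntegral Y] [IsLocallyNoetherian U] [IsLocallyNoetherian Y]
    (hf : f (genericPoint U) = genericPoint Y) : Function.Surjective (ffMap f hf).hom :=
  functionFieldMap_surjective f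

omit [IsLocallyNoetherian X] in
lemma coheight_genericPoint : Order.coheight (genericPoint X) = 0 := by
  rw [Order.coheight_eq_zero]
  intro b _
  exact (genericPoint_spec X).specializes trivial

variable {U : X.Opens} (hU : IsAffineOpen U) [Nonempty U]

/-- A rational function on `𝔸(n; X)` of order zero along the generic fibre comes from `X`. -/
theorem exists_const_of_ord_eq_zero (g : 𝔸(n; X).functionField) (hg : g ≠ 0)
    (h : ∀ y : 𝔸(n; X), Order.coheight y = 1 → (𝔸(n; X) ↘ X) y = genericPoint X →
      Scheme.ord g y = 0) :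
    ∃ f : X.functionField, f ≠ 0 ∧
      (ffMap (𝔸(n; X) ↘ X) (over_genericPoint n hU)).hom f = g := by
  haveI : IsNoetherianRing Γ(X, U) := IsLocallyNoetherian.component_noetherian ⟨U, hU⟩
  set j := chart n hU with hj
  set g₀ := (ffMap j (chart_genericPoint n hU)).hom g with hg₀
  have hg₀0 : g₀ ≠ 0 := by
    rw [hg₀, map_ne_zero_iff _ (ffMap_injective j _)]
    exact hg
  obtain ⟨f₀, hf₀, hfg⟩ := AffSpec.exists_const_of_ord_eq_zero n Γ(X, U) g₀ hg₀0 (by
    intro q hq hqg
    rw [hg₀, ord_ffMap_of_isOpenImmersion]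
    apply h
    · rw [coheight_eq_of_isOpenImmersion]; exact hq
    · rw [over_chart_apply, hqg, fromSpec_genericPoint])
  obtain ⟨f, rfl⟩ := ffMap_surjective_of_isOpenImmersion hU.fromSpec (fromSpec_genericPoint hU) f₀
  refine ⟨f, fun h0 => hf₀ (by rw [h0, map_zero]), ?_⟩
  apply ffMap_injective j (chart_genericPoint n hU)
  have hsq := ffMap_chart_square n hU
  have := congr($(hsq).hom f)
  simp only [CommRingCat.hom_comp, RingHom.comp_apply] at this
  rw [this]
  exact hfg

/-- The vertical prime divisor over a codimension one point, and the order along it. -/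
theorem ord_ffMap_chart_extPt (p : Spec Γ(X, U)) (hp : Order.coheight p = 1)
    [IsDiscreteValuationRing (X.presheaf.stalk (hU.fromSpec p))]
    (f : X.functionField) (hf : f ≠ 0) :
    Order.coheight (chart n hU (extPt n Γ(X, U) p)) = 1 ∧
    (𝔸(n; X) ↘ X) (chart n hU (extPt n Γ(X, U) p)) = hU.fromSpec p ∧
    Scheme.ord ((ffMap (𝔸(n; X) ↘ X) (over_genericPoint n hU)).hom f)
      (chart n hU (extPt n Γ(X, U) p)) = Scheme.ord f (hU.fromSpec p) := by
  haveI : IsNoetherianRing Γ(X, U) := IsLocallyNoetherian.component_noetherian ⟨U, hU⟩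
  refine ⟨?_, ?_, ?_⟩
  · rw [coheight_eq_of_isOpenImmersion, coheight_extPt, hp]
  · rw [over_chart_apply, cMap_extPt]
  · rw [← ord_ffMap_of_isOpenImmersion (chart n hU) (chart_genericPoint n hU)]
    have hsq := ffMap_chart_square n hU
    have := congr($(hsq).hom f)
    simp only [CommRingCat.hom_comp, RingHom.comp_apply] at this
    rw [this]
    have hprinc : (IsLocalRing.maximalIdeal ((Spec Γ(X, U)).presheaf.stalk p)).IsPrincipal := by
      haveI : IsDiscreteValuationRing ((Spec Γ(X, U)).presheaf.stalk p) :=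
        IsDiscreteValuationRing.RingEquivClass.isDiscreteValuationRing
          (asIso (hU.fromSpec.stalkMap p)).commRingCatIsoToRingEquiv
      exact IsPrincipalIdealRing.principal _
    rw [ord_ιA_extPt n Γ(X, U) p hp hprinc _
      (by rw [map_ne_zero_iff _ (ffMap_injective hU.fromSpec _)]; exact hf),
      ord_ffMap_of_isOpenImmersion]

end Groth.Agent.Lib.Helper21.AffDiv
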