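import Groth.Agent.Lib.Helper21.AffSpaceDiv
import Groth.Agent.H8.OrdLocFinite

/-!
# Weil divisors on `𝔸(n; X)`: surjectivity of the pullback on class groups (helper21)
-/

set_option autoImplicit false
universe u
open CategoryTheory CategoryTheory.Limits AlgebraicGeometry TopologicalSpace

namespace Groth.Agent.Lib.Helper21.AffDiv

open AffSpec FFMap AffChart

/-- On a quasi-compact integral locally Noetherian scheme the divisor of a nonzero rational
function has finite support. -/
theorem finite_ord_ne_zero {Y : Scheme.{u}} [IsIntegral Y] [IsLocallyNoetherian Y]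
    [CompactSpace Y] (g : Y.functionField) (hg : g ≠ 0) :
    {y : Y | Order.coheight y = 1 ∧ Scheme.ord g y ≠ 0}.Finite := by
  have hlf := Groth.Agent.H8.ord_ne_zero_locallyFinite Y g hg
  have hfin := hlf.finite_of_compact (fun i => ⟨i.1, subset_closure rfl⟩)
  have : {y : Y | Order.coheight y = 1 ∧ Scheme.ord g y ≠ 0} =
      Subtype.val '' (Set.univ : Set {ξ : ↥Y // Order.coheight ξ = 1 ∧ Scheme.ord g ξ ≠ 0}) := by
    ext y
    simp
  rw [this]
  exact hfin.image _

variable (n : Type u) [Finite n] {X : Scheme.{u}} [IsIntegral X] [IsLocallyNoetherian X]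
  [IsLocallyNoetherian 𝔸(n; X)]

variable {U : X.Opens} (hU : IsAffineOpen U) [Nonempty U]

include hU in
/-- Prescribing the orders of a rational function along the generic fibre of `𝔸(n; X) → X`. -/
theorem exists_ord_eq_on_generic_fibre (D' : 𝔸(n; X) → ℤ) (hfin : {y | D' y ≠ 0}.Finite) :
    ∃ g : 𝔸(n; X).functionField, g ≠ 0 ∧ ∀ y : 𝔸(n; X), Order.coheight y = 1 →
      (𝔸(n; X) ↘ X) y = genericPoint X → Scheme.ord g y = D' y := by
  haveI : IsNoetherianRing Γ(X, U) := IsLocallyNoetherian.component_noetherian ⟨U, hU⟩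
  set j := chart n hU with hj
  have hjinj : Function.Injective j := j.isOpenEmbedding.injective
  obtain ⟨g₀, hg₀, hord⟩ := AffSpec.exists_ord_eq_on_generic_fibre n Γ(X, U)
    (fun q => D' (j q)) (hfin.preimage hjinj.injOn)
  obtain ⟨g, rfl⟩ := ffMap_surjective_of_isOpenImmersion j (chart_genericPoint n hU) g₀
  refine ⟨g, fun h0 => hg₀ (by rw [h0, map_zero]), ?_⟩
  intro y hy hyg
  have hyU : (𝔸(n; X) ↘ X) y ∈ U := by
    rw [hyg]
    exact ((genericPoint_spec X).mem_open_set_iff U.isOpen).mpr
      ⟨(Nonempty.some ‹Nonempty U›).1, trivial, (Nonempty.some ‹Nonempty U›).2⟩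
  obtain ⟨q, rfl⟩ := exists_chart_eq n hU y hyU
  have hq : Order.coheight q = 1 := by
    rw [← coheight_eq_of_isOpenImmersion (chart n hU)]; exact hy
  have hqg : cMap n Γ(X, U) q = genericPoint (Spec Γ(X, U)) := by
    apply hU.fromSpec.isOpenEmbedding.injective
    rw [← over_chart_apply, fromSpec_genericPoint]
    exact hyg
  rw [← ord_ffMap_of_isOpenImmersion (chart n hU) (chart_genericPoint n hU)]
  exact hord q hq hqg

omit [IsLocallyNoetherian 𝔸(n; X)] in
/-- A codimension one point of `𝔸(n; X)` not in the generic fibre lies over a codimension one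
point and is the only such point over it. -/
theorem vertical_classification (y : 𝔸(n; X)) (hy : Order.coheight y = 1)
    (hyg : (𝔸(n; X) ↘ X) y ≠ genericPoint X) :
    Order.coheight ((𝔸(n; X) ↘ X) y) = 1 ∧
      ∀ y' : 𝔸(n; X), Order.coheight y' = 1 → (𝔸(n; X) ↘ X) y' = (𝔸(n; X) ↘ X) y → y' = y := by
  obtain ⟨V, hV, hyV, -⟩ :=
    exists_isAffineOpen_mem_and_subset (X := X) (x := (𝔸(n; X) ↘ X) y) (U := ⊤) trivial
  haveI : Nonempty V := ⟨⟨_, hyV⟩⟩
  haveI : IsNoetherianRing Γ(X, V) := IsLocallyNoetherian.component_noetherian ⟨V, hV⟩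
  obtain ⟨q, rfl⟩ := exists_chart_eq n hV y hyV
  have hq : Order.coheight q = 1 := by
    rw [← coheight_eq_of_isOpenImmersion (chart n hV)]; exact hy
  rcases cMap_classification n Γ(X, V) q hq with hgen | ⟨h1, h2⟩
  · exfalso
    apply hyg
    rw [over_chart_apply, hgen, fromSpec_genericPoint]
  · refine ⟨?_, ?_⟩
    · rw [over_chart_apply, coheight_eq_of_isOpenImmersion]
      exact h1
    · intro y' hy' hyy'
      have hy'V : (𝔸(n; X) ↘ X) y' ∈ V := by rw [hyy']; exact hyV
      obtain ⟨q', rfl⟩ := exists_chart_eq n hV y' hy'V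
      have hq' : Order.coheight q' = 1 := by
        rw [← coheight_eq_of_isOpenImmersion (chart n hV)]; exact hy'
      have hc : cMap n Γ(X, V) q' = cMap n Γ(X, V) q := by
        apply hV.fromSpec.isOpenEmbedding.injective
        rw [← over_chart_apply, ← over_chart_apply]
        exact hyy'
      rcases cMap_classification n Γ(X, V) q' hq' with hgen' | ⟨h1', h2'⟩
      · exfalso
        apply hyg
        rw [over_chart_apply, ← hc, hgen', fromSpec_genericPoint]
      · rw [h2', hc, ← h2]

end Groth.Agent.Lib.Helper21.AffDiv
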