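import Groth.Prelude.Def_CDiv
import Mathlib.AlgebraicGeometry.Noetherian
import Mathlib.Topology.KrullDimension

set_option autoImplicit false
universe u
open CategoryTheory AlgebraicGeometry TopologicalSpace

namespace Groth.Agent.Lib.Helper21.CDivLib

open CDiv

variable {X : Scheme.{u}} [IsIntegral X]

lemma germOf_eq_one_iff {x : X} {f : KUnits X} : germOf X x f = 1 ↔ f ∈ stalkUnits X x :=
  QuotientGroup.eq_one_iff f

lemma germOf_eq_germOf_iff {x : X} {f g : KUnits X} :
    germOf X x f = germOf X x g ↔ f⁻¹ * g ∈ stalkUnits X x :=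
  QuotientGroup.eq

lemma mem_stalkUnits_iff {x : X} {f : KUnits X} :
    f ∈ stalkUnits X x ↔
      ∃ u : (X.presheaf.stalk x)ˣ, algebraMap (X.presheaf.stalk x) X.functionField u = f := by
  constructor
  · rintro ⟨u, rfl⟩
    exact ⟨u, rfl⟩
  · rintro ⟨u, hu⟩
    exact ⟨u, Units.ext hu⟩

/-- A section that is invertible at `y` gives a unit germ in the function field. -/
lemma mem_stalkUnits_of_mem_basicOpen {V : X.Opens} [Nonempty V] (s : Γ(X, V)) {y : X}
    (hy : y ∈ X.basicOpen s) (f : KUnits X) (hf : (f : X.functionField) = X.germToFunctionField V s) :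
    f ∈ stalkUnits X y := by
  have hyV : y ∈ V := X.basicOpen_le s hy
  have hu : IsUnit (X.presheaf.germ V y hyV s) := (X.mem_basicOpen s y hyV).mp hy
  rw [mem_stalkUnits_iff]
  refine ⟨hu.unit, ?_⟩
  rw [hf, IsUnit.unit_spec, Scheme.algebraMap_germ_eq_germToFunctionField]

lemma exists_open_mem_stalkUnits {x : X} {f : KUnits X} (h : f ∈ stalkUnits X x) :
    ∃ W : X.Opens, x ∈ W ∧ ∀ y ∈ W, f ∈ stalkUnits X y := by
  obtain ⟨u, hu⟩ := mem_stalkUnits_iff.mp h
  obtain ⟨V, hxV, s, hs⟩ := X.presheaf.exists_germ_eq (u : X.presheaf.stalk x)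
  haveI : Nonempty V := ⟨⟨x, hxV⟩⟩
  have hf : (f : X.functionField) = X.germToFunctionField V s := by
    rw [← hu, ← hs, Scheme.algebraMap_germ_eq_germToFunctionField]
  refine ⟨X.basicOpen s, ?_, fun y hy => mem_stalkUnits_of_mem_basicOpen s hy f hf⟩
  rw [X.mem_basicOpen s x hxV, hs]
  exact u.isUnit

theorem isClosed_supp (D : Divisor X) : IsClosed (supp D) := by
  rw [← isOpen_compl_iff, isOpen_iff_forall_mem_open]
  intro x hx
  have hx1 : D.1 x = 1 := by
    by_contra h
    exact hx h
  obtain ⟨U, f, hxU, hU⟩ := D.2 x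
  have hf : f ∈ stalkUnits X x := by
    rw [← germOf_eq_one_iff, ← hU x hxU, hx1]
  obtain ⟨W, hxW, hW⟩ := exists_open_mem_stalkUnits hf
  refine ⟨(U ⊓ W : X.Opens), ?_, (U ⊓ W).isOpen, ⟨hxU, hxW⟩⟩
  intro y hy hys
  apply hys
  rw [hU y hy.1, germOf_eq_one_iff]
  exact hW y hy.2



lemma stalkUnits_genericPoint : stalkUnits X (genericPoint X) = ⊤ := by
  rw [eq_top_iff]
  intro f _
  rw [mem_stalkUnits_iff]
  have hid : ∀ a : X.functionField,
      @algebraMap _ _ _ _ (stalkFunctionFieldAlgebra X (genericPoint X)) a = a := by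
    intro a
    change (X.presheaf.stalkSpecializes _).hom a = a
    have := X.presheaf.stalkSpecializes_refl (C := CommRingCat) (genericPoint X)
    exact congr($(this).hom a)
  exact ⟨f, hid _⟩

lemma germ_genericPoint (D : Divisor X) : D.1 (genericPoint X) = 1 := by
  obtain ⟨f, hf⟩ := QuotientGroup.mk_surjective (D.1 (genericPoint X))
  rw [← hf]
  exact germOf_eq_one_iff.mpr (by rw [stalkUnits_genericPoint]; trivial)

lemma genericPoint_notMem_supp (D : Divisor X) : genericPoint X ∉ supp D :=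
  fun h => h (germ_genericPoint D)

/-- In an integral scheme of dimension at most one, every point other than the generic point is
closed. -/
theorem isClosed_singleton_of_dim_le_one (hdim : topologicalKrullDim ↥X ≤ 1) {x : X}
    (hx : x ≠ genericPoint X) : IsClosed ({x} : Set X) := by
  rw [← closure_eq_iff_isClosed]
  refine Set.Subset.antisymm ?_ subset_closure
  intro z hz
  by_contra hzx
  have hzx' : z ≠ x := hzx
  let A : IrreducibleCloseds X := ⟨closure {z}, isIrreducible_singleton.closure, isClosed_closure⟩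
  let B : IrreducibleCloseds X := ⟨closure {x}, isIrreducible_singleton.closure, isClosed_closure⟩
  let C : IrreducibleCloseds X := ⟨Set.univ, (IrreducibleSpace.isIrreducible_univ X), isClosed_univ⟩
  have hAB : A < B := by
    refine lt_of_le_of_ne ?_ ?_
    · change closure {z} ⊆ closure {x}
      exact closure_minimal (Set.singleton_subset_iff.mpr hz) isClosed_closure
    · intro h
      have h' : closure {z} = closure {x} := congrArg (fun S : IrreducibleCloseds X => (S : Set X)) h
      exact hzx' ((inseparable_iff_closure_eq.mpr h').eq)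
  have hBC : B < C := by
    refine lt_of_le_of_ne ?_ ?_
    · change closure {x} ⊆ Set.univ
      exact Set.subset_univ _
    · intro h
      have h' : closure {x} = Set.univ := congrArg (fun S : IrreducibleCloseds X => (S : Set X)) h
      have hgen : IsGenericPoint x Set.univ := h'
      exact hx ((genericPoint_spec X).eq hgen).symm
  let p : LTSeries (IrreducibleCloseds X) := LTSeries.mk 2 ![A, B, C] (by
    rw [Fin.strictMono_iff_lt_succ]
    intro i
    fin_cases i
    · exact hAB
    · exact hBC)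
  have hp : p.length = 2 := rfl
  have h2 : ((2 : ℕ) : WithBot ℕ∞) ≤ topologicalKrullDim ↥X := by
    rw [← hp]
    exact Order.LTSeries.length_le_krullDim p
  have : ((2 : ℕ) : WithBot ℕ∞) ≤ 1 := h2.trans hdim
  exact absurd this (by decide)



/-- In a Noetherian quasi-sober space, a closed set all of whose points are closed is finite. -/
lemma finite_of_isClosed_of_forall_isClosed_singleton {Y : Type*} [TopologicalSpace Y]
    [NoetherianSpace Y] [QuasiSober Y] {Z : Set Y} (hZ : IsClosed Z)
    (hpt : ∀ z ∈ Z, IsClosed ({z} : Set Y)) : Z.Finite := by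
  obtain ⟨S, hSf, hSc, hSi, hSU⟩ := NoetherianSpace.exists_finite_set_isClosed_irreducible hZ
  rw [hSU]
  refine Set.Finite.sUnion hSf (fun t ht => ?_)
  obtain ⟨c, hc⟩ := QuasiSober.sober (hSi t ht) (hSc t ht)
  have hcZ : c ∈ Z := by
    rw [hSU]
    exact ⟨t, ht, hc.mem⟩
  have : t = {c} := by
    rw [← hc.def, (hpt c hcZ).closure_eq]
  rw [this]
  exact Set.finite_singleton c

variable [IsLocallyNoetherian X]

/-- In dimension at most one, a divisor is trivial on a punctured neighbourhood of any point. -/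
theorem exists_open_forall_ne_germ_eq_one (hdim : topologicalKrullDim ↥X ≤ 1) (D : Divisor X)
    (x : X) : ∃ W : X.Opens, x ∈ W ∧ ∀ y ∈ W, y ≠ x → D.1 y = 1 := by
  obtain ⟨_, ⟨W₀, hW₀, rfl⟩, hxW₀, -⟩ :=
    X.isBasis_affineOpens.exists_subset_of_mem_open (Set.mem_univ x) isOpen_univ
  haveI : IsNoetherianRing Γ(X, W₀) := IsLocallyNoetherian.component_noetherian ⟨W₀, hW₀⟩
  haveI : NoetherianSpace ↥W₀ := noetherianSpace_of_isAffineOpen W₀ hW₀
  haveI : QuasiSober ↥W₀ := W₀.isOpenEmbedding'.quasiSober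
  have hclosedpt : ∀ y ∈ supp D, IsClosed ({y} : Set X) := fun y hy =>
    isClosed_singleton_of_dim_le_one hdim (fun h => genericPoint_notMem_supp D (h ▸ hy))
  let Z' : Set ↥W₀ := Subtype.val ⁻¹' supp D
  have hZ' : IsClosed Z' := (isClosed_supp D).preimage continuous_subtype_val
  have hZ'fin : Z'.Finite := by
    refine finite_of_isClosed_of_forall_isClosed_singleton hZ' (fun w hw => ?_)
    have : ({w} : Set ↥W₀) = Subtype.val ⁻¹' {w.1} := by
      ext v
      rw [Set.mem_singleton_iff, Set.mem_preimage, Set.mem_singleton_iff, Subtype.ext_iff]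
    rw [this]
    exact (hclosedpt w.1 hw).preimage continuous_subtype_val
  let F : Set X := (Subtype.val '' Z') \ {x}
  have hFfin : F.Finite := (hZ'fin.image _).subset Set.sdiff_subset
  have hFsub : F ⊆ supp D := by
    rintro y ⟨⟨w, hw, rfl⟩, -⟩
    exact hw
  have hFclosed : IsClosed F := by
    have : F = ⋃ y ∈ F, ({y} : Set X) := by simp
    rw [this]
    exact hFfin.isClosed_biUnion (fun y hy => hclosedpt y (hFsub hy))
  refine ⟨W₀ ⊓ ⟨Fᶜ, hFclosed.isOpen_compl⟩, ⟨hxW₀, fun h => h.2 rfl⟩, ?_⟩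
  intro y hy hyx
  by_contra hne
  have hyS : y ∈ supp D := hne
  exact hy.2 ⟨⟨⟨y, hy.1⟩, hyS, rfl⟩, hyx⟩

theorem discreteTopology_supp (hdim : topologicalKrullDim ↥X ≤ 1) (D : Divisor X) :
    DiscreteTopology ↥(supp D) := by
  rw [discreteTopology_iff_isOpen_singleton]
  rintro ⟨x, hx⟩
  obtain ⟨W, hxW, hW⟩ := exists_open_forall_ne_germ_eq_one hdim D x
  rw [isOpen_induced_iff]
  refine ⟨W, W.isOpen, ?_⟩
  ext ⟨y, hy⟩
  simp only [Set.mem_preimage, Set.mem_singleton_iff, Subtype.mk.injEq]
  constructor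
  · intro hyW
    by_contra hne
    exact hy (hW y hyW hne)
  · rintro rfl
    exact hxW



/-- In dimension at most one, germs prescribed on a closed discrete set (and trivial elsewhere)
form a divisor. -/
theorem exists_divisor_of_germs (hdim : topologicalKrullDim ↥X ≤ 1) (E : Set ↥X) (hE : IsClosed E)
    (hEd : DiscreteTopology ↥E) (d : ∀ x : ↥X, Germ X x) :
    ∃ D : Divisor X, (∀ x ∈ E, D.1 x = d x) ∧ (∀ x, x ∉ E → D.1 x = 1) := by
  classical
  let D₀ : ∀ x : X, Germ X x := fun y => if y ∈ E then d y else 1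
  have hD₀ : D₀ ∈ divisorGroup X := by
    intro x
    by_cases hx : x ∈ E
    · obtain ⟨f, hf⟩ := QuotientGroup.mk_surjective (d x)
      obtain ⟨W₁, hxW₁, hW₁⟩ := exists_open_forall_ne_germ_eq_one hdim (div f) x
      have hopen : IsOpen ({⟨x, hx⟩} : Set ↥E) :=
        (discreteTopology_iff_isOpen_singleton.mp hEd) ⟨x, hx⟩
      rw [isOpen_induced_iff] at hopen
      obtain ⟨W₂, hW₂o, hW₂⟩ := hopen
      have hxW₂ : x ∈ W₂ := by
        have : (⟨x, hx⟩ : ↥E) ∈ Subtype.val ⁻¹' W₂ := by rw [hW₂]; rfl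
        exact this
      refine ⟨W₁ ⊓ ⟨W₂, hW₂o⟩, f, ⟨hxW₁, hxW₂⟩, ?_⟩
      intro y hy
      by_cases hyx : y = x
      · subst hyx
        change (if y ∈ E then d y else 1) = _
        rw [if_pos hx, ← hf]
      · have hyE : y ∉ E := by
          intro hyE
          have : (⟨y, hyE⟩ : ↥E) ∈ Subtype.val ⁻¹' W₂ := hy.2
          rw [hW₂, Set.mem_singleton_iff, Subtype.mk.injEq] at this
          exact hyx this
        change (if y ∈ E then d y else 1) = _
        rw [if_neg hyE]
        exact (hW₁ y hy.1 hyx).symm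
    · refine ⟨⟨Eᶜ, hE.isOpen_compl⟩, 1, hx, ?_⟩
      intro y hy
      change (if y ∈ E then d y else 1) = _
      rw [if_neg hy]
      exact (QuotientGroup.mk_one (stalkUnits X y)).symm
  refine ⟨⟨D₀, hD₀⟩, fun x hx => if_pos hx, fun x hx => if_neg hx⟩

end Groth.Agent.Lib.Helper21.CDivLib
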