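import Mathlib.AlgebraicGeometry.OrderOfVanishing
import Mathlib.AlgebraicGeometry.FunctionField
import Mathlib.RingTheory.UniqueFactorizationDomain.Basic
import Mathlib.RingTheory.Ideal.UFD

set_option autoImplicit false
universe u
open CategoryTheory CategoryTheory.Limits AlgebraicGeometry TopologicalSpace

namespace Groth.Agent.Lib.Helper21

/-- In a local ring whose maximal ideal is generated by `ϖ`, `ord ϖ = 1`. -/
lemma ring_ord_eq_one_of_span_eq_maximalIdeal {R : Type*} [CommRing R] [IsLocalRing R] {ϖ : R}
    (h : Ideal.span {ϖ} = IsLocalRing.maximalIdeal R) : Ring.ord R ϖ = 1 := by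
  rw [Ring.ord, Module.length_eq_one_iff, h]
  exact isSimpleModule_iff_isCoatom.mpr (Ideal.isMaximal_def.mp inferInstance)

lemma ring_ordFrac_eq_exp_one_of_span_eq_maximalIdeal {R : Type*} [CommRing R] [IsDomain R]
    [IsLocalRing R] [IsNoetherianRing R] [Ring.KrullDimLE 1 R] {K : Type*} [Field K] [Algebra R K] [IsFractionRing R K] {ϖ : R}
    (h : Ideal.span {ϖ} = IsLocalRing.maximalIdeal R) (h0 : ϖ ≠ 0) :
    Ring.ordFrac R (algebraMap R K ϖ) = WithZero.exp 1 := by
  rw [Ring.ordFrac_eq_ord R h0,
    Ring.ordMonoidWithZeroHom_eq_coe R (mem_nonZeroDivisors_of_ne_zero h0) (n := 1)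
      (by simpa using ring_ord_eq_one_of_span_eq_maximalIdeal h)]
  rfl

section Affine

variable (R : CommRingCat.{u}) [IsDomain R]

lemma algebraMap_functionField_eq (x : Spec R) (a : R) :
    algebraMap R (Spec R).functionField a =
      algebraMap ((Spec R).presheaf.stalk x) (Spec R).functionField
        (StructureSheaf.toStalk R x a) := by
  have h : genericPoint (Spec R) ⤳ x := (genericPoint_spec (Spec R)).specializes trivial
  have := StructureSheaf.toStalk_stalkSpecializes (R := R) h
  simp only [RingHom.algebraMap_toAlgebra]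
  exact (congr($(this).hom a)).symm

variable [IsNoetherianRing R]

/-- The `R`-algebra structure on the stalk of `Spec R` at `x`. -/
noncomputable abbrev stalkAlg (x : Spec R) : Algebra R ((Spec R).presheaf.stalk x) :=
  StructureSheaf.stalkAlgebra (R := R) x

lemma stalk_isLocalization (x : Spec R) :
    letI := stalkAlg R x
    IsLocalization.AtPrime ((Spec R).presheaf.stalk x) x.asIdeal :=
  StructureSheaf.IsLocalization.to_stalk (R := R) x

lemma ordHom_algebraMap_of_notMem (x : Spec R) (hx : Order.coheight x = 1) (a : R)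
    (ha : a ∉ x.asIdeal) :
    (Spec R).ordHom x hx (algebraMap R (Spec R).functionField a) = 1 := by
  have : Ring.KrullDimLE 1 ((Spec R).presheaf.stalk x) := krullDimLE_of_coheight_le hx.le
  rw [algebraMap_functionField_eq R x a]
  letI := stalkAlg R x
  haveI := stalk_isLocalization R x
  exact Ring.ordFrac_of_isUnit
    (IsLocalization.map_units (M := x.asIdeal.primeCompl) ((Spec R).presheaf.stalk x) ⟨a, ha⟩)

lemma ordHom_algebraMap_of_span (x : Spec R) (hx : Order.coheight x = 1) (a : R)
    (ha : x.asIdeal = Ideal.span {a}) (h0 : a ≠ 0) :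
    (Spec R).ordHom x hx (algebraMap R (Spec R).functionField a) = WithZero.exp 1 := by
  have : Ring.KrullDimLE 1 ((Spec R).presheaf.stalk x) := krullDimLE_of_coheight_le hx.le
  rw [algebraMap_functionField_eq R x a]
  letI := stalkAlg R x
  haveI := stalk_isLocalization R x
  refine ring_ordFrac_eq_exp_one_of_span_eq_maximalIdeal ?_ ?_
  · have h1 := IsLocalization.AtPrime.map_eq_maximalIdeal x.asIdeal ((Spec R).presheaf.stalk x)
    rw [← h1, ha, Ideal.map_span, Set.image_singleton]
    rfl
  · intro h
    apply h0
    have hinj : Function.Injective (algebraMap R ((Spec R).presheaf.stalk x)) :=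
      IsLocalization.injective _ x.asIdeal.primeCompl_le_nonZeroDivisors
    exact hinj (by rw [map_zero]; exact h)

end Affine



section UFD

variable (A : CommRingCat.{u}) [IsDomain A] [IsNoetherianRing A]
    [UniqueFactorizationMonoid A]

lemma exists_prime_span_of_coheight_eq_one (x : Spec A)
    (hx : Order.coheight x = 1) : ∃ π : A, Prime π ∧ x.asIdeal = Ideal.span {π} := by
  have h1 : x.asIdeal.height = 1 := by
    rw [idealHeight_eq_coheight A x, hx]
  have hne : x.asIdeal ≠ ⊥ := x.asIdeal.ne_bot_of_height_eq_one h1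
  obtain ⟨π, hπmem, hπ⟩ := Ideal.IsPrime.exists_mem_prime_of_ne_bot x.isPrime hne
  exact ⟨π, hπ, x.asIdeal.eq_span_singleton_of_height_eq_one h1 hπmem hπ⟩

local notation "KK" => Scheme.functionField (Spec A)

theorem exists_principal_of_ufd
    (D : ↥(Spec A) → ℤ) (hD : ∀ x, Order.coheight x ≠ 1 → D x = 0)
    (hfin : {x | D x ≠ 0}.Finite) :
    ∃ f : ↑(Spec A).functionField, f ≠ 0 ∧
      ∀ x : ↥(Spec A), Order.coheight x = 1 → Scheme.ord f x = D x := by
  classical
  -- choose uniformizers
  have hπ : ∀ y : Spec A, ∃ π : A, π ≠ 0 ∧ (Order.coheight y = 1 → Prime π ∧ y.asIdeal = Ideal.span {π}) := by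
    intro y
    by_cases hy : Order.coheight y = 1
    · obtain ⟨π, h1, h2⟩ := exists_prime_span_of_coheight_eq_one A y hy
      exact ⟨π, h1.ne_zero, fun _ => ⟨h1, h2⟩⟩
    · exact ⟨1, one_ne_zero, fun h => absurd h hy⟩
  choose π hπ0 hπ using hπ
  have hinj : Function.Injective (algebraMap A KK) := IsFractionRing.injective A KK
  have hne : ∀ y, algebraMap A KK (π y) ≠ 0 := fun y h =>
    hπ0 y (hinj (by rw [map_zero]; exact h))
  refine ⟨∏ y ∈ hfin.toFinset, (algebraMap A KK (π y)) ^ (D y), ?_, ?_⟩
  · rw [Finset.prod_ne_zero_iff]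
    intro y _
    exact zpow_ne_zero _ (hne y)
  · intro x hx
    have hf0 : (∏ y ∈ hfin.toFinset, (algebraMap A KK (π y)) ^ (D y)) ≠ 0 := by
      rw [Finset.prod_ne_zero_iff]
      intro y _
      exact zpow_ne_zero _ (hne y)
    rw [Scheme.ord_eq_iff hx hf0, map_prod]
    have key : ∀ y ∈ hfin.toFinset, Scheme.ordHom (X := Spec A) x hx ((algebraMap A KK (π y)) ^ (D y)) =
        if y = x then WithZero.exp (D x) else 1 := by
      intro y hy
      have hy1 : Order.coheight y = 1 := by
        by_contra h
        exact (hfin.mem_toFinset.mp hy) (hD y h)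
      rw [map_zpow₀]
      split_ifs with hyx
      · subst hyx
        rw [ordHom_algebraMap_of_span A y hx (π y) (hπ y hy1).2 (hπ0 y), ← WithZero.exp_zsmul]
        simp
      · rw [ordHom_algebraMap_of_notMem A x hx (π y), one_zpow]
        intro hmem
        apply hyx
        have hle : y.asIdeal ≤ x.asIdeal := by
          rw [(hπ y hy1).2, Ideal.span_singleton_le_iff_mem]
          exact hmem
        have h1 : x.asIdeal.height = 1 := by
          rw [idealHeight_eq_coheight A x, hx]
        have h2 : y.asIdeal.height = 1 := by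
          rw [idealHeight_eq_coheight A y, hy1]
        by_contra hne'
        have hlt : y.asIdeal < x.asIdeal := lt_of_le_of_ne hle (fun h => hne' (PrimeSpectrum.ext h))
        have : x.asIdeal.FiniteHeight := by simp [x.asIdeal.finiteHeight_iff, h1]
        have := Ideal.height_strict_mono_of_isPrime_of_isPrime hlt
        rw [h1, h2] at this
        exact lt_irrefl _ this
    rw [Finset.prod_congr rfl key, Finset.prod_ite_eq']
    split_ifs with hmem
    · rfl
    · have : D x = 0 := by
        by_contra h
        exact hmem (hfin.mem_toFinset.mpr h)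
      simp [this]

end UFD

end Groth.Agent.Lib.Helper21
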