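import Groth.Agent.Lib.Helper21.OrdNormal
import Groth.Agent.Lib.Helper21.OrdAffine
import Groth.Agent.Lib.Helper21.CDivLib

set_option autoImplicit false
universe u
open CategoryTheory AlgebraicGeometry TopologicalSpace

namespace Groth.Agent.Lib.Helper21.Chart

variable {X : Scheme.{u}} {W : X.Opens} (hW : IsAffineOpen W)

/-- The prime of `Γ(X, W)` at a point `y ∈ W`. -/
noncomputable abbrev pr (y : X) (hy : y ∈ W) : Ideal Γ(X, W) := (hW.primeIdealOf ⟨y, hy⟩).asIdeal

include hW in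
lemma isUnit_germ_iff (y : X) (hy : y ∈ W) (r : Γ(X, W)) :
    IsUnit (X.presheaf.germ W y hy r) ↔ r ∉ pr hW y hy := by
  letI := TopCat.Presheaf.algebra_section_stalk X.presheaf (U := W) ⟨y, hy⟩
  haveI := hW.isLocalization_stalk ⟨y, hy⟩
  exact IsLocalization.AtPrime.isUnit_to_map_iff (X.presheaf.stalk y) (pr hW y hy) r

include hW in
lemma fromSpec_mem (p : PrimeSpectrum Γ(X, W)) : hW.fromSpec p ∈ W := by
  have : hW.fromSpec p ∈ Set.range hW.fromSpec := ⟨p, rfl⟩
  rwa [hW.range_fromSpec] at this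

lemma primeIdealOf_fromSpec (p : PrimeSpectrum Γ(X, W)) :
    hW.primeIdealOf ⟨hW.fromSpec p, fromSpec_mem hW p⟩ = p := by
  apply hW.fromSpec.isOpenEmbedding.injective
  exact hW.fromSpec_primeIdealOf ⟨hW.fromSpec p, fromSpec_mem hW p⟩

lemma specializes_of_pr_le {y z : X} (hy : y ∈ W) (hz : z ∈ W) (h : pr hW y hy ≤ pr hW z hz) :
    y ⤳ z := by
  have h1 : hW.primeIdealOf ⟨y, hy⟩ ⤳ hW.primeIdealOf ⟨z, hz⟩ :=
    (PrimeSpectrum.le_iff_specializes _ _).mp h
  have h2 := h1.map hW.fromSpec.continuous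
  rwa [hW.fromSpec_primeIdealOf ⟨y, hy⟩, hW.fromSpec_primeIdealOf ⟨z, hz⟩] at h2

lemma coheight_eq_height (y : X) (hy : y ∈ W) : Order.coheight y = (pr hW y hy).height := by
  have h1 := coheight_eq_of_isOpenImmersion hW.fromSpec (x := hW.primeIdealOf ⟨y, hy⟩)
  rw [hW.fromSpec_primeIdealOf ⟨y, hy⟩] at h1
  rw [h1, ← idealHeight_eq_coheight]



section Ord

variable {X : Scheme.{u}} [IsIntegral X] [IsLocallyNoetherian X]

lemma algebraMap_ne_zero {y : X} {a : X.presheaf.stalk y} (ha : a ≠ 0) :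
    algebraMap (X.presheaf.stalk y) X.functionField a ≠ 0 := fun h =>
  ha ((IsFractionRing.injective (X.presheaf.stalk y) X.functionField) (by rw [h, map_zero]))

lemma ord_algebraMap_nonneg (y : X) (a : X.presheaf.stalk y) (ha : a ≠ 0) :
    0 ≤ Scheme.ord (algebraMap (X.presheaf.stalk y) X.functionField a) y := by
  by_cases hy1 : Order.coheight y = 1
  · rw [Scheme.le_ord_iff hy1 (algebraMap_ne_zero ha)]
    haveI : Ring.KrullDimLE 1 (X.presheaf.stalk y) := krullDimLE_of_coheight_le hy1.le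
    have := Ring.ordFrac_ge_one_of_ne_zero (K := X.functionField) ha
    have h2 : ((Multiplicative.ofAdd (0 : ℤ) : Multiplicative ℤ) : WithZero (Multiplicative ℤ)) = 1 := by
      simp
    rw [h2]
    exact this
  · rw [Scheme.ord_eq_zero_of_coheight_neq_one hy1]

lemma ord_algebraMap_of_isUnit (y : X) (a : X.presheaf.stalk y) (ha : IsUnit a) :
    Scheme.ord (algebraMap (X.presheaf.stalk y) X.functionField a) y = 0 := by
  by_cases hy1 : Order.coheight y = 1
  · rw [Scheme.ord_eq_iff hy1 (algebraMap_ne_zero ha.ne_zero)]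
    haveI : Ring.KrullDimLE 1 (X.presheaf.stalk y) := krullDimLE_of_coheight_le hy1.le
    have := Ring.ordFrac_of_isUnit (K := X.functionField) ha
    have h2 : ((Multiplicative.ofAdd (0 : ℤ) : Multiplicative ℤ) : WithZero (Multiplicative ℤ)) = 1 := by
      simp
    rw [h2]
    exact this
  · rw [Scheme.ord_eq_zero_of_coheight_neq_one hy1]

lemma ord_eq_zero_of_mem_stalkUnits (y : X) (f : CDiv.KUnits X) (hf : f ∈ CDiv.stalkUnits X y) :
    Scheme.ord (f : X.functionField) y = 0 := by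
  obtain ⟨u, hu⟩ := CDivLib.mem_stalkUnits_iff.mp hf
  rw [← hu]
  exact ord_algebraMap_of_isUnit y u u.isUnit

lemma one_le_ord_algebraMap (y : X) (hy1 : Order.coheight y = 1)
    [IsDiscreteValuationRing (X.presheaf.stalk y)] (a : X.presheaf.stalk y) (ha0 : a ≠ 0)
    (ha : ¬ IsUnit a) :
    1 ≤ Scheme.ord (algebraMap (X.presheaf.stalk y) X.functionField a) y := by
  have h0 := ord_algebraMap_nonneg y a ha0
  have hne : Scheme.ord (algebraMap (X.presheaf.stalk y) X.functionField a) y ≠ 0 := by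
    intro h
    rw [Scheme.ord_eq_iff hy1 (algebraMap_ne_zero ha0)] at h
    apply ha
    haveI : Ring.KrullDimLE 1 (X.presheaf.stalk y) := krullDimLE_of_coheight_le hy1.le
    rw [Ring.isUnit_iff_ordFrac_one_of_isDiscreteValuationRing (K := X.functionField)]
    have h2 : ((Multiplicative.ofAdd (0 : ℤ) : Multiplicative ℤ) : WithZero (Multiplicative ℤ)) = 1 := by
      simp
    rw [h2] at h
    exact h
  omega

lemma ord_eq_one_of_span_eq_maximalIdeal (y : X) (hy1 : Order.coheight y = 1)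
    (a : X.presheaf.stalk y) (ha0 : a ≠ 0)
    (h : Ideal.span {a} = IsLocalRing.maximalIdeal (X.presheaf.stalk y)) :
    Scheme.ord (algebraMap (X.presheaf.stalk y) X.functionField a) y = 1 := by
  rw [Scheme.ord_eq_iff hy1 (algebraMap_ne_zero ha0)]
  haveI : Ring.KrullDimLE 1 (X.presheaf.stalk y) := krullDimLE_of_coheight_le hy1.le
  exact ring_ordFrac_eq_exp_one_of_span_eq_maximalIdeal (K := X.functionField) h ha0

lemma ord_div (y : X) {k f : X.functionField} (hk : k ≠ 0) (hf : f ≠ 0) :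
    Scheme.ord (k / f) y = Scheme.ord k y - Scheme.ord f y := by
  have h := Scheme.ord_mul (x := y) (div_ne_zero hk hf) hf
  rw [div_mul_cancel₀ _ hf] at h
  omega

end Ord

end Groth.Agent.Lib.Helper21.Chart
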