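import Mathlib
import Groth.Agent.Lib.Helper21.Hartogs

/-!
# Height-one primes of a polynomial ring `A[σ]` over a Noetherian domain (helper21)

Pure commutative algebra used for the divisor class group of affine space over a scheme.
-/

set_option autoImplicit false

namespace Groth.Agent.Lib.Helper21.MvPolyPrimes

open MvPolynomial

section Unif

variable {P : Type*} [CommRing P]

/-- `t` generates the prime `q` locally at `q`. -/
def IsUnif (q : Ideal P) (t : P) : Prop :=
  t ∈ q ∧ ∀ r ∈ q, ∃ s, s ∉ q ∧ ∃ c, s * r = c * t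

lemma IsUnif.map_eq_span {q : Ideal P} [q.IsPrime] {t : P} (h : IsUnif q t)
    (S : Type*) [CommRing S] [Algebra P S] [IsLocalization.AtPrime S q] :
    Ideal.map (algebraMap P S) q = Ideal.span {algebraMap P S t} := by
  apply le_antisymm
  · rw [Ideal.map_le_iff_le_comap]
    intro r hr
    obtain ⟨s, hs, c, hc⟩ := h.2 r hr
    rw [Ideal.mem_comap, Ideal.mem_span_singleton']
    have hu : IsUnit (algebraMap P S s) :=
      IsLocalization.map_units (M := q.primeCompl) S ⟨s, hs⟩
    obtain ⟨u, hu'⟩ := hu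
    refine ⟨↑u⁻¹ * algebraMap P S c, ?_⟩
    have h2 : algebraMap P S s * algebraMap P S r = algebraMap P S c * algebraMap P S t := by
      rw [← map_mul, ← map_mul, hc]
    rw [mul_assoc, ← h2, ← hu', ← mul_assoc, Units.inv_mul, one_mul]
  · rw [Ideal.span_singleton_le_iff_mem]
    exact Ideal.mem_map_of_mem _ h.1

lemma IsUnif.maximalIdeal_eq {q : Ideal P} [q.IsPrime] {t : P} (h : IsUnif q t)
    (S : Type*) [CommRing S] [Algebra P S] [IsLocalization.AtPrime S q] [IsLocalRing S] :
    IsLocalRing.maximalIdeal S = Ideal.span {algebraMap P S t} := by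
  rw [← h.map_eq_span S, IsLocalization.AtPrime.map_eq_maximalIdeal q S]

lemma exists_isUnif_of_isPrincipal (q : Ideal P) [q.IsPrime]
    (S : Type*) [CommRing S] [Algebra P S] [IsLocalization.AtPrime S q] [IsLocalRing S]
    (h : (IsLocalRing.maximalIdeal S).IsPrincipal) : ∃ t, IsUnif q t := by
  obtain ⟨ϖ, hϖ⟩ := h
  change IsLocalRing.maximalIdeal S = Ideal.span {ϖ} at hϖ
  obtain ⟨⟨a, s⟩, hs⟩ := IsLocalization.surj q.primeCompl ϖ
  dsimp only at hs
  refine ⟨a, ?_, ?_⟩
  · rw [← IsLocalization.AtPrime.to_map_mem_maximal_iff S q a, ← hs, hϖ]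
    exact Ideal.mul_mem_right _ _ (Ideal.mem_span_singleton_self ϖ)
  · intro r hr
    have h1 : algebraMap P S r ∈ IsLocalRing.maximalIdeal S :=
      (IsLocalization.AtPrime.to_map_mem_maximal_iff S q r).mpr hr
    rw [hϖ, Ideal.mem_span_singleton'] at h1
    obtain ⟨v, hv⟩ := h1
    obtain ⟨⟨v₁, v₂⟩, hv'⟩ := IsLocalization.surj q.primeCompl v
    dsimp only at hv'
    have h2 : algebraMap P S (r * (v₂ * s)) = algebraMap P S (v₁ * a) := by
      rw [map_mul, map_mul, map_mul, ← hv, ← hs, ← hv']
      ring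
    obtain ⟨c, hc⟩ := (IsLocalization.eq_iff_exists q.primeCompl S).mp h2
    refine ⟨c * (v₂ * s), ?_, c * v₁, ?_⟩
    · exact (q.primeCompl.mul_mem c.2 (q.primeCompl.mul_mem v₂.2 s.2))
    · calc (c : P) * (v₂ * s) * r = c * (r * (v₂ * s)) := by ring
        _ = c * (v₁ * a) := hc
        _ = c * v₁ * a := by ring

/-- Decomposition of elements with respect to a local generator of a prime in a
Noetherian domain. -/
lemma IsUnif.exists_decomp [IsDomain P] [IsNoetherianRing P] {q : Ideal P} [q.IsPrime] {t : P}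
    (h : IsUnif q t) {r : P} (hr : r ≠ 0) :
    ∃ (n : ℕ) (a b : P), a ∉ q ∧ b ∉ q ∧ b * r = a * t ^ n := by
  classical
  let S := Localization.AtPrime q
  have hinj : Function.Injective (algebraMap P S) :=
    IsLocalization.injective S q.primeCompl_le_nonZeroDivisors
  have hm : IsLocalRing.maximalIdeal S = Ideal.span {algebraMap P S t} := h.maximalIdeal_eq S
  have hkr : ⨅ i, (IsLocalRing.maximalIdeal S) ^ i = ⊥ :=
    Ideal.iInf_pow_eq_bot_of_isLocalRing _ (IsLocalRing.maximalIdeal.isMaximal S).ne_top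
  have hr' : algebraMap P S r ≠ 0 := fun h0 => hr (hinj (by rw [h0, map_zero]))
  have hex : ∃ n, algebraMap P S r ∉ (IsLocalRing.maximalIdeal S) ^ n := by
    by_contra hcon
    push Not at hcon
    apply hr'
    have : algebraMap P S r ∈ ⨅ i, (IsLocalRing.maximalIdeal S) ^ i := by
      rw [Ideal.mem_iInf]; exact hcon
    rwa [hkr, Ideal.mem_bot] at this
  let n₀ := Nat.find hex
  have hn₀ : algebraMap P S r ∉ (IsLocalRing.maximalIdeal S) ^ n₀ := Nat.find_spec hex
  have hn₀pos : n₀ ≠ 0 := by
    intro h0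
    rw [h0, pow_zero, Ideal.one_eq_top] at hn₀
    exact hn₀ (Submodule.mem_top)
  obtain ⟨k, hk⟩ := Nat.exists_eq_succ_of_ne_zero hn₀pos
  have hmem : algebraMap P S r ∈ (IsLocalRing.maximalIdeal S) ^ k := by
    by_contra hcon
    have := Nat.find_min' hex hcon
    change n₀ ≤ k at this
    omega
  rw [hm, Ideal.span_singleton_pow, Ideal.mem_span_singleton'] at hmem
  obtain ⟨v, hv⟩ := hmem
  have hvu : IsUnit v := by
    by_contra hvn
    have hvm : v ∈ IsLocalRing.maximalIdeal S := (IsLocalRing.mem_maximalIdeal v).mpr hvn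
    apply hn₀
    rw [hk, pow_succ', ← hv]
    refine Ideal.mul_mem_mul hvm ?_
    rw [hm, Ideal.span_singleton_pow]
    exact Ideal.mem_span_singleton_self _
  obtain ⟨⟨a, b⟩, hab⟩ := IsLocalization.surj q.primeCompl v
  dsimp only at hab
  have ha : a ∉ q := by
    have hu : IsUnit (algebraMap P S a) := by
      rw [← hab]
      exact hvu.mul (IsLocalization.map_units (M := q.primeCompl) S b)
    exact (IsLocalization.AtPrime.isUnit_to_map_iff S q a).mp hu
  refine ⟨k, a, b, ha, b.2, hinj ?_⟩
  rw [map_mul, map_mul, map_pow, ← hab, ← hv]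
  ring

end Unif

section MvPoly

variable {σ : Type*} {A : Type*} [CommRing A]

lemma isPrime_map_C (p : Ideal A) [p.IsPrime] :
    (p.map (C : A →+* MvPolynomial σ A)).IsPrime := by
  have h := MvPolynomial.ker_map (σ := σ) (Ideal.Quotient.mk p)
  rw [Ideal.mk_ker] at h
  rw [← h]
  exact RingHom.ker_isPrime _

lemma comap_map_C (p : Ideal A) :
    (p.map (C : A →+* MvPolynomial σ A)).comap C = p := by
  ext a
  rw [Ideal.mem_comap, MvPolynomial.mem_map_C_iff]
  constructor
  · intro h
    simpa using h 0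
  · intro ha m
    classical
    rw [coeff_C]
    split_ifs
    · exact ha
    · exact zero_mem _

lemma height_map_C [IsNoetherianRing A] [Finite σ] (p : Ideal A) [p.IsPrime] :
    (p.map (C : A →+* MvPolynomial σ A)).height = p.height := by
  haveI := isPrime_map_C (σ := σ) p
  have : (p.map (C : A →+* MvPolynomial σ A)).LiesOver p := ⟨(comap_map_C p).symm⟩
  have h := Ideal.height_eq_height_add_of_liesOver_of_hasGoingDown p
    (p.map (C : A →+* MvPolynomial σ A))
  rw [h, MvPolynomial.algebraMap_eq, Ideal.map_quotient_self]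
  haveI : IsDomain (MvPolynomial σ A ⧸ p.map (C : A →+* MvPolynomial σ A)) :=
    Ideal.Quotient.isDomain _
  rw [Ideal.height_bot, add_zero]

lemma map_C_eq_bot_iff (p : Ideal A) :
    p.map (C : A →+* MvPolynomial σ A) = ⊥ ↔ p = ⊥ := by
  constructor
  · intro h
    rw [← comap_map_C (σ := σ) p, h, eq_bot_iff]
    intro a ha
    rw [Ideal.mem_comap, Ideal.mem_bot, C_eq_zero] at ha
    rw [ha]; exact zero_mem _
  · rintro rfl
    exact Ideal.map_bot

/-- Height-one primes of `A[σ]` are either horizontal or extended from a height-one prime. -/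
theorem height_one_classification [IsDomain A] [IsNoetherianRing A] [Finite σ]
    (q : Ideal (MvPolynomial σ A)) [q.IsPrime] (hq : q.height = 1) :
    q.comap (C : A →+* MvPolynomial σ A) = ⊥ ∨
      ((q.comap (C : A →+* MvPolynomial σ A)).height = 1 ∧
        q = (q.comap (C : A →+* MvPolynomial σ A)).map C) := by
  set p := q.comap (C : A →+* MvPolynomial σ A) with hp
  by_cases h0 : p = ⊥
  · left; exact h0
  right
  haveI hpprime : p.IsPrime := Ideal.comap_isPrime C q
  have hle : p.map C ≤ q := Ideal.map_comap_le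
  haveI hqprime : (p.map (C : A →+* MvPolynomial σ A)).IsPrime := isPrime_map_C p
  have hq0 : p.map (C : A →+* MvPolynomial σ A) ≠ ⊥ := fun h => h0 ((map_C_eq_bot_iff p).mp h)
  have hheq : p.map C = q := by
    by_contra hne
    have hlt : p.map C < q := lt_of_le_of_ne hle hne
    have h2 := Ideal.height_add_one_le_of_lt_of_isPrime hlt
    rw [hq] at h2
    have h3 : (p.map (C : A →+* MvPolynomial σ A)).height = 0 := by
      have h4 : (p.map (C : A →+* MvPolynomial σ A)).height + 1 ≤ 0 + 1 := by simpa using h2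
      have := (ENat.add_le_add_iff_right ENat.one_ne_top).mp h4
      exact le_antisymm this bot_le
    rw [Ideal.height_eq_zero_iff_eq_bot] at h3
    exact hq0 h3
  refine ⟨?_, hheq.symm⟩
  rw [← height_map_C (σ := σ) p, hheq, hq]

lemma IsUnif.map_C {p : Ideal A} [p.IsPrime] {ϖ : A} (h : IsUnif p ϖ) :
    IsUnif (p.map (C : A →+* MvPolynomial σ A)) (C ϖ) := by
  refine ⟨Ideal.mem_map_of_mem _ h.1, ?_⟩
  intro r hr
  -- the set of good `r` is an ideal containing `C '' p`
  have key : ∀ r ∈ p.map (C : A →+* MvPolynomial σ A),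
      ∃ s : A, s ∉ p ∧ ∃ c, (C s : MvPolynomial σ A) * r = c * C ϖ := by
    intro r hr
    refine Submodule.span_induction ?_ ?_ ?_ ?_ hr
    · rintro _ ⟨a, ha, rfl⟩
      obtain ⟨s, hs, c, hc⟩ := h.2 a ha
      exact ⟨s, hs, C c, by rw [← map_mul, ← map_mul, hc]⟩
    · exact ⟨1, (Ideal.ne_top_iff_one p).mp (Ideal.IsPrime.ne_top ‹_›), 0, by simp⟩
    · rintro x y _ _ ⟨s₁, hs₁, c₁, hc₁⟩ ⟨s₂, hs₂, c₂, hc₂⟩
      refine ⟨s₁ * s₂, fun hmem => ?_, C s₂ * c₁ + C s₁ * c₂, ?_⟩
      · rcases Ideal.IsPrime.mem_or_mem ‹_› hmem with h' | h'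
        · exact hs₁ h'
        · exact hs₂ h'
      · rw [map_mul]
        calc (C s₁ * C s₂ : MvPolynomial σ A) * (x + y)
            = C s₂ * (C s₁ * x) + C s₁ * (C s₂ * y) := by ring
          _ = C s₂ * (c₁ * C ϖ) + C s₁ * (c₂ * C ϖ) := by rw [hc₁, hc₂]
          _ = (C s₂ * c₁ + C s₁ * c₂) * C ϖ := by ring
    · rintro a x _ ⟨s, hs, c, hc⟩
      refine ⟨s, hs, a * c, ?_⟩
      rw [smul_eq_mul]
      calc (C s : MvPolynomial σ A) * (a * x) = a * (C s * x) := by ring
        _ = a * (c * C ϖ) := by rw [hc]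
        _ = a * c * C ϖ := by ring
  obtain ⟨s, hs, c, hc⟩ := key r hr
  refine ⟨C s, fun hmem => hs ?_, c, hc⟩
  have : s ∈ (p.map (C : A →+* MvPolynomial σ A)).comap C := hmem
  rwa [comap_map_C] at this

end MvPoly

section Generic

attribute [local instance] MvPolynomial.algebraMvPolynomial

variable {σ : Type*} [Finite σ] {A : Type*} [CommRing A] [IsDomain A] [IsNoetherianRing A]
  (K : Type*) [Field K] [Algebra A K] [IsFractionRing A K]

local notation "PP" => MvPolynomial σ A
local notation "RR" => MvPolynomial σ K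
local notation "MM" => Submonoid.map (C : A →+* MvPolynomial σ A) (nonZeroDivisors A)

omit [Finite σ] [IsNoetherianRing A] in
lemma disjoint_of_comap_eq_bot (q : Ideal PP) (hq0 : q.comap (C : A →+* PP) = ⊥) :
    Disjoint ((MM : Submonoid PP) : Set PP) (q : Set PP) := by
  rw [Set.disjoint_left]
  rintro _ ⟨a, ha, rfl⟩ hmem
  have : a ∈ q.comap (C : A →+* PP) := hmem
  rw [hq0, Ideal.mem_bot] at this
  exact nonZeroDivisors.ne_zero ha this

omit [Finite σ] [IsNoetherianRing A] [IsDomain A] in
lemma algebraMap_injective : Function.Injective (algebraMap PP RR) := by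
  rw [MvPolynomial.algebraMap_def]
  exact MvPolynomial.map_injective _ (IsFractionRing.injective A K)

include K in
omit [Finite σ] [IsNoetherianRing A] in
theorem exists_isUnif_aux (q : Ideal PP) [q.IsPrime] (hq1 : q.height = 1)
    (hq0 : q.comap (C : A →+* PP) = ⊥) :
    ∃ t, IsUnif q t ∧ ∀ q' : Ideal PP, q'.IsPrime → q'.height = 1 →
      q'.comap (C : A →+* PP) = ⊥ → t ∈ q' → q' = q := by
  haveI : IsLocalization MM RR := MvPolynomial.isLocalization (nonZeroDivisors A) K

  have hdisj := disjoint_of_comap_eq_bot q hq0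
  set Q := q.map (algebraMap PP RR) with hQ
  haveI hQprime : Q.IsPrime := IsLocalization.isPrime_of_isPrime_disjoint MM RR q ‹_› hdisj
  have hcomap : Q.comap (algebraMap PP RR) = q :=
    IsLocalization.under_map_of_isPrime_disjoint MM RR ‹_› hdisj
  have hQ1 : Q.height = 1 := by
    have := IsLocalization.height_under MM Q
    rw [Ideal.under_def, hcomap, hq1] at this
    exact this.symm
  obtain ⟨p, hp⟩ := UniqueFactorizationMonoid.isPrincipal_of_height_eq_one hQ1
  change Q = Ideal.span {p} at hp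
  obtain ⟨⟨t, m⟩, hm⟩ := IsLocalization.surj MM p
  dsimp only at hm
  have hinj := algebraMap_injective (σ := σ) (A := A) K
  have hmq : ∀ x : MM, (x : PP) ∉ q := fun x hx => Set.disjoint_left.mp hdisj x.2 hx
  refine ⟨t, ⟨?_, ?_⟩, ?_⟩
  · rw [← hcomap, Ideal.mem_comap, ← hm, hp]
    exact Ideal.mul_mem_right _ _ (Ideal.mem_span_singleton_self p)
  · intro r hr
    have h1 : algebraMap PP RR r ∈ Q := Ideal.mem_map_of_mem _ hr
    rw [hp, Ideal.mem_span_singleton'] at h1
    obtain ⟨h, hh⟩ := h1
    obtain ⟨⟨h', m'⟩, hm'⟩ := IsLocalization.surj MM h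
    dsimp only at hm'
    refine ⟨m' * m, hmq (m' * m), h', hinj ?_⟩
    rw [map_mul, map_mul, map_mul, ← hh, ← hm, ← hm']
    ring
  · intro q' hq'prime hq'1 hq'0 htq'
    have hdisj' := disjoint_of_comap_eq_bot q' hq'0
    have hcomap' : (q'.map (algebraMap PP RR)).comap (algebraMap PP RR) = q' :=
      IsLocalization.under_map_of_isPrime_disjoint MM RR ‹_› hdisj'
    haveI : (q'.map (algebraMap PP RR)).IsPrime :=
      IsLocalization.isPrime_of_isPrime_disjoint MM RR q' ‹_› hdisj'
    have h1 : algebraMap PP RR t ∈ q'.map (algebraMap PP RR) := Ideal.mem_map_of_mem _ htq'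
    rw [← hm] at h1
    have hpmem : p ∈ q'.map (algebraMap PP RR) := by
      rcases Ideal.IsPrime.mem_or_mem ‹_› h1 with h2 | h2
      · exact h2
      · exfalso
        have hu : IsUnit (algebraMap PP RR m) := IsLocalization.map_units RR m
        exact Ideal.IsPrime.ne_top ‹_› (Ideal.eq_top_of_isUnit_mem _ h2 hu)
    have hle : q ≤ q' := by
      rw [← hcomap, ← hcomap', hp]
      apply Ideal.comap_mono
      rw [Ideal.span_singleton_le_iff_mem]
      exact hpmem
    by_contra hne
    have hlt : q < q' := lt_of_le_of_ne hle (fun h => hne h.symm)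
    have h2 := Ideal.height_add_one_le_of_lt_of_isPrime hlt
    rw [hq1, hq'1] at h2
    exact absurd h2 (by decide)

/-- A height-one prime of `A[σ]` meeting `A` trivially has a local generator, which lies in no
other such prime. -/
theorem exists_isUnif_of_comap_eq_bot (q : Ideal PP) [q.IsPrime] (hq1 : q.height = 1)
    (hq0 : q.comap (C : A →+* PP) = ⊥) :
    ∃ t, IsUnif q t ∧ ∀ q' : Ideal PP, q'.IsPrime → q'.height = 1 →
      q'.comap (C : A →+* PP) = ⊥ → t ∈ q' → q' = q := by
  have main : ∀ (K : Type _) [Field K] [Algebra A K] [IsFractionRing A K],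
      ∃ t, IsUnif q t ∧ ∀ q' : Ideal PP, q'.IsPrime → q'.height = 1 →
      q'.comap (C : A →+* PP) = ⊥ → t ∈ q' → q' = q := by
    intro K _ _ _
    exact exists_isUnif_aux K q hq1 hq0
  exact main (FractionRing A)

omit [IsNoetherianRing A] in
/-- Hartogs over the generic fibre: an element of `Frac A[σ]` that is a unit at all height-one
primes meeting `A` trivially is a nonzero constant of `Frac A`. -/
theorem exists_const_of_forall_height_one (L : Type*) [Field L] [Algebra PP L] [IsFractionRing PP L]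
    (ι : K →+* L) (hι : ∀ a : A, ι (algebraMap A K a) = algebraMap PP L (C a))
    (g : L) (hg0 : g ≠ 0)
    (hg : ∀ q : Ideal PP, q.IsPrime → q.height = 1 → q.comap (C : A →+* PP) = ⊥ →
      ∃ a b, a ∉ q ∧ b ∉ q ∧ g * algebraMap PP L b = algebraMap PP L a) :
    ∃ f : K, f ≠ 0 ∧ ι f = g := by
  haveI : IsLocalization MM RR := MvPolynomial.isLocalization (nonZeroDivisors A) K
  let ψ : RR →+* L := eval₂Hom ι (fun i => algebraMap PP L (X i))
  have hψ : ∀ x : PP, ψ (algebraMap PP RR x) = algebraMap PP L x := by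
    intro x
    have : ψ.comp (algebraMap PP RR) = algebraMap PP L := by
      apply MvPolynomial.ringHom_ext
      · intro a
        change ψ (MvPolynomial.map (algebraMap A K) (C a)) = _
        simp [ψ, hι]
      · intro i
        change ψ (MvPolynomial.map (algebraMap A K) (X i)) = _
        simp [ψ]
    exact congr($this x)
  letI : Algebra RR L := ψ.toAlgebra
  haveI : IsScalarTower PP RR L := IsScalarTower.of_algebraMap_eq (fun x => (hψ x).symm)
  haveI : IsFractionRing RR L := IsFractionRing.isFractionRing_of_isDomain_of_isLocalization MM RR L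
  have hinjL : Function.Injective (algebraMap PP L) := IsFractionRing.injective PP L
  have key : ∀ g' : L, (∀ q : Ideal PP, q.IsPrime → q.height = 1 → q.comap (C : A →+* PP) = ⊥ →
      ∃ a b, a ∉ q ∧ b ∉ q ∧ g' * algebraMap PP L b = algebraMap PP L a) →
      g' ∈ (algebraMap RR L).range := by
    intro g' hg'
    apply Hartogs.mem_range_of_forall_height_one L g'
    intro Q hQprime hQ1
    have hq1 : (Q.comap (algebraMap PP RR)).height = 1 := by
      have := IsLocalization.height_under MM Q
      rw [Ideal.under_def, hQ1] at this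
      exact this
    have hq0 : (Q.comap (algebraMap PP RR)).comap (C : A →+* PP) = ⊥ := by
      rw [eq_bot_iff]
      intro a ha
      rw [Ideal.mem_bot]
      by_contra ha0
      have h1 : algebraMap PP RR (C a) ∈ Q := ha
      have hu : IsUnit (algebraMap PP RR (C a)) :=
        IsLocalization.map_units RR (⟨C a, ⟨a, mem_nonZeroDivisors_of_ne_zero ha0, rfl⟩⟩ : MM)
      exact Ideal.IsPrime.ne_top ‹_› (Ideal.eq_top_of_isUnit_mem _ h1 hu)
    obtain ⟨a, b, ha, hb, hab⟩ := hg' _ (Ideal.comap_isPrime _ Q) hq1 hq0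
    refine ⟨algebraMap PP RR a, algebraMap PP RR b, hb, ?_⟩
    rw [← IsScalarTower.algebraMap_apply, ← IsScalarTower.algebraMap_apply]
    exact hab
  obtain ⟨u, hu⟩ := key g hg
  obtain ⟨u', hu'⟩ := key g⁻¹ (by
    intro q hqp hq1 hq0
    obtain ⟨a, b, ha, hb, hab⟩ := hg q hqp hq1 hq0
    refine ⟨b, a, hb, ha, ?_⟩
    rw [← hab]
    field_simp)
  have hinjR : Function.Injective (algebraMap RR L) := IsFractionRing.injective RR L
  have huu : u * u' = 1 := by
    apply hinjR
    rw [map_mul, hu, hu', map_one, mul_inv_cancel₀ hg0]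
  have hunit : IsUnit u := IsUnit.of_mul_eq_one _ huu
  obtain ⟨f, hf, rfl⟩ := MvPolynomial.isUnit_iff_eq_C_of_isReduced.mp hunit
  refine ⟨f, hf.ne_zero, ?_⟩
  rw [← hu]
  change ι f = ψ (C f)
  simp [ψ]

end Generic

end Groth.Agent.Lib.Helper21.MvPolyPrimes
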