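import Groth.Agent.Lib.Helper21.FFMap
import Groth.Agent.Lib.Helper21.MvPolyPrimes
import Groth.Agent.Lib.Helper21.Chart
import Mathlib.AlgebraicGeometry.AffineSpace

set_option autoImplicit false
universe u
open CategoryTheory CategoryTheory.Limits AlgebraicGeometry TopologicalSpace

namespace Groth.Agent.Lib.Helper21.AffSpec

open MvPolyPrimes FFMap

section General

variable (R : CommRingCat.{u}) [IsDomain R] [IsNoetherianRing R]

local notation "KR" => Scheme.functionField (Spec R)

omit [IsNoetherianRing R] in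
lemma IsUnif.ne_zero {q : Ideal R} {t : R} (h : IsUnif q t) (hq : q ≠ ⊥) : t ≠ 0 := by
  rintro rfl
  apply hq
  rw [eq_bot_iff]
  intro r hr
  obtain ⟨s, hs, c, hc⟩ := h.2 r hr
  rw [mul_zero] at hc
  rcases mul_eq_zero.mp hc with h0 | h0
  · exact absurd (h0 ▸ q.zero_mem) hs
  · rw [h0]; exact Ideal.zero_mem _

omit [IsNoetherianRing R] in
lemma asIdeal_ne_bot (x : Spec R) (hx : Order.coheight x = 1) : x.asIdeal ≠ ⊥ := by
  have h1 : x.asIdeal.height = 1 := by rw [idealHeight_eq_coheight R x, hx]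
  exact x.asIdeal.ne_bot_of_height_eq_one h1

lemma ordHom_algebraMap_of_isUnif (x : Spec R) (hx : Order.coheight x = 1) (t : R)
    (ht : IsUnif x.asIdeal t) :
    (Spec R).ordHom x hx (algebraMap R KR t) = WithZero.exp 1 := by
  have h0 : t ≠ 0 := IsUnif.ne_zero R ht (asIdeal_ne_bot R x hx)
  have : Ring.KrullDimLE 1 ((Spec R).presheaf.stalk x) := krullDimLE_of_coheight_le hx.le
  rw [algebraMap_functionField_eq R x t]
  letI := stalkAlg R x
  haveI := stalk_isLocalization R x
  refine ring_ordFrac_eq_exp_one_of_span_eq_maximalIdeal ?_ ?_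
  · exact (ht.maximalIdeal_eq ((Spec R).presheaf.stalk x)).symm
  · intro h
    apply h0
    have hinj : Function.Injective (algebraMap R ((Spec R).presheaf.stalk x)) :=
      IsLocalization.injective _ x.asIdeal.primeCompl_le_nonZeroDivisors
    exact hinj (by rw [map_zero]; exact h)

omit [IsNoetherianRing R] in
lemma algebraMap_ne_zero {r : R} (hr : r ≠ 0) : algebraMap R KR r ≠ 0 := fun h =>
  hr ((IsFractionRing.injective R KR) (by rw [h, map_zero]))

lemma ord_algebraMap_of_decomp (x : Spec R) (hx : Order.coheight x = 1) (t : R)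
    (ht : IsUnif x.asIdeal t) (r a b : R) (k : ℕ) (ha : a ∉ x.asIdeal) (hb : b ∉ x.asIdeal)
    (h : b * r = a * t ^ k) (hr : r ≠ 0) :
    Scheme.ord (algebraMap R KR r) x = k := by
  rw [Scheme.ord_eq_iff hx (algebraMap_ne_zero R hr)]
  have h1 := congrArg (fun z => (Spec R).ordHom x hx (algebraMap R KR z)) h
  simp only [map_mul, map_pow] at h1
  rw [ordHom_algebraMap_of_notMem R x hx a ha, ordHom_algebraMap_of_notMem R x hx b hb,
    ordHom_algebraMap_of_isUnif R x hx t ht, one_mul, one_mul] at h1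
  rw [h1, ← WithZero.exp_nsmul, nsmul_eq_mul, mul_one]
  rfl

lemma ord_algebraMap_of_notMem (x : Spec R) (r : R) (hr : r ∉ x.asIdeal) :
    Scheme.ord (algebraMap R KR r) x = 0 := by
  by_cases hx : Order.coheight x = 1
  · have hr0 : r ≠ 0 := fun h => hr (h ▸ x.asIdeal.zero_mem)
    rw [Scheme.ord_eq_iff hx (algebraMap_ne_zero R hr0), ordHom_algebraMap_of_notMem R x hx r hr]
    rfl
  · exact Scheme.ord_eq_zero_of_coheight_neq_one hx _

lemma ord_algebraMap_of_isUnif (x : Spec R) (hx : Order.coheight x = 1) (t : R)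
    (ht : IsUnif x.asIdeal t) : Scheme.ord (algebraMap R KR t) x = 1 := by
  have h0 : t ≠ 0 := IsUnif.ne_zero R ht (asIdeal_ne_bot R x hx)
  rw [Scheme.ord_eq_iff hx (algebraMap_ne_zero R h0), ordHom_algebraMap_of_isUnif R x hx t ht]
  rfl

/-- Decomposition of a nonzero rational function at a codimension one point with a local
generator. -/
lemma exists_ord_decomp (x : Spec R) (hx : Order.coheight x = 1) (t : R)
    (ht : IsUnif x.asIdeal t) (g : KR) (hg : g ≠ 0) :
    ∃ a b : R, a ∉ x.asIdeal ∧ b ∉ x.asIdeal ∧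
      g * algebraMap R KR b = algebraMap R KR a * (algebraMap R KR t) ^ (Scheme.ord g x) := by
  obtain ⟨r₁, r₂, hr₂, rfl⟩ := IsFractionRing.div_surjective (A := R) g
  have hr₂0 : r₂ ≠ 0 := nonZeroDivisors.ne_zero hr₂
  have hr₁0 : r₁ ≠ 0 := by
    rintro rfl
    simp at hg
  obtain ⟨k₁, a₁, b₁, ha₁, hb₁, h₁⟩ := ht.exists_decomp hr₁0
  obtain ⟨k₂, a₂, b₂, ha₂, hb₂, h₂⟩ := ht.exists_decomp hr₂0
  have ho₁ := ord_algebraMap_of_decomp R x hx t ht r₁ a₁ b₁ k₁ ha₁ hb₁ h₁ hr₁0
  have ho₂ := ord_algebraMap_of_decomp R x hx t ht r₂ a₂ b₂ k₂ ha₂ hb₂ h₂ hr₂0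
  have hord : Scheme.ord (algebraMap R KR r₁ / algebraMap R KR r₂) x = (k₁ : ℤ) - k₂ := by
    have h := Scheme.ord_mul (x := x) hg (algebraMap_ne_zero R hr₂0)
    rw [div_mul_cancel₀ _ (algebraMap_ne_zero R hr₂0)] at h
    omega
  have ht0 : t ≠ 0 := IsUnif.ne_zero R ht (asIdeal_ne_bot R x hx)
  have htK : algebraMap R KR t ≠ 0 := algebraMap_ne_zero R ht0
  refine ⟨a₁ * b₂, a₂ * b₁, ?_, ?_, ?_⟩
  · intro hm
    rcases Ideal.IsPrime.mem_or_mem x.isPrime hm with h | h
    · exact ha₁ h
    · exact hb₂ h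
  · intro hm
    rcases Ideal.IsPrime.mem_or_mem x.isPrime hm with h | h
    · exact ha₂ h
    · exact hb₁ h
  · rw [hord, zpow_sub₀ htK, zpow_natCast, zpow_natCast]
    have e₁ := congrArg (algebraMap R KR) h₁
    have e₂ := congrArg (algebraMap R KR) h₂
    simp only [map_mul, map_pow] at e₁ e₂
    have hb₁K : algebraMap R KR b₁ ≠ 0 :=
      algebraMap_ne_zero R (fun h => hb₁ (h ▸ x.asIdeal.zero_mem))
    have hb₂K : algebraMap R KR b₂ ≠ 0 :=
      algebraMap_ne_zero R (fun h => hb₂ (h ▸ x.asIdeal.zero_mem))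
    have hr₂K := algebraMap_ne_zero R hr₂0
    have hpow : (algebraMap R KR t) ^ k₂ ≠ 0 := pow_ne_zero _ htK
    rw [map_mul, map_mul, div_mul_eq_mul_div, mul_div_assoc', div_eq_div_iff hr₂K hpow]
    linear_combination (algebraMap R KR a₂ * algebraMap R KR t ^ k₂) * e₁
      - (algebraMap R KR a₁ * algebraMap R KR t ^ k₁) * e₂

end General


section OrdGeneral

variable {X : Scheme.{u}} [IsIntegral X] [IsLocallyNoetherian X]

lemma ord_one (y : X) : Scheme.ord (1 : X.functionField) y = 0 := by
  have h := Scheme.ord_mul (x := y) (one_ne_zero (α := X.functionField)) one_ne_zero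
  rw [mul_one] at h
  omega

lemma ord_inv (y : X) {f : X.functionField} (hf : f ≠ 0) :
    Scheme.ord f⁻¹ y = - Scheme.ord f y := by
  have h := Scheme.ord_mul (x := y) hf (inv_ne_zero hf)
  rw [mul_inv_cancel₀ hf, ord_one] at h
  omega

lemma ord_pow (y : X) {f : X.functionField} (hf : f ≠ 0) (k : ℕ) :
    Scheme.ord (f ^ k) y = k * Scheme.ord f y := by
  induction k with
  | zero => simp [ord_one]
  | succ k ih =>
    rw [pow_succ, Scheme.ord_mul (pow_ne_zero _ hf) hf, ih]
    push_cast
    ring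

lemma ord_zpow (y : X) {f : X.functionField} (hf : f ≠ 0) (m : ℤ) :
    Scheme.ord (f ^ m) y = m * Scheme.ord f y := by
  obtain ⟨k, rfl | rfl⟩ := m.eq_nat_or_neg
  · rw [zpow_natCast, ord_pow y hf]
  · rw [zpow_neg, zpow_natCast, ord_inv y (pow_ne_zero _ hf), ord_pow y hf]
    ring

lemma ord_prod_zpow {ι : Type*} (s : Finset ι) (x : ι → X.functionField) (m : ι → ℤ)
    (hx : ∀ i ∈ s, x i ≠ 0) (y : X) :
    Scheme.ord (∏ i ∈ s, x i ^ m i) y = ∑ i ∈ s, m i * Scheme.ord (x i) y := by
  classical
  induction s using Finset.induction_on with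
  | empty => simp [ord_one]
  | insert a s ha ih =>
    rw [Finset.prod_insert ha, Finset.sum_insert ha]
    have h1 : x a ^ m a ≠ 0 := zpow_ne_zero _ (hx a (Finset.mem_insert_self a s))
    have h2 : ∏ i ∈ s, x i ^ m i ≠ 0 := by
      rw [Finset.prod_ne_zero_iff]
      intro i hi
      exact zpow_ne_zero _ (hx i (Finset.mem_insert_of_mem hi))
    rw [Scheme.ord_mul h1 h2, ih (fun i hi => hx i (Finset.mem_insert_of_mem hi)),
      ord_zpow y (hx a (Finset.mem_insert_self a s))]

end OrdGeneral

section Poly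

variable (n : Type u) (A : CommRingCat.{u})

/-- The polynomial ring as an object of `CommRingCat`. -/
noncomputable abbrev PA : CommRingCat.{u} := CommRingCat.of (MvPolynomial n A)

/-- The projection `Spec A[n] ⟶ Spec A`. -/
noncomputable abbrev cMap : Spec (PA n A) ⟶ Spec A :=
  Spec.map (CommRingCat.ofHom (MvPolynomial.C : A →+* MvPolynomial n A))

lemma cMap_asIdeal (q : Spec (PA n A)) :
    (cMap n A q).asIdeal = q.asIdeal.comap (MvPolynomial.C : A →+* MvPolynomial n A) := rfl

variable [IsDomain A]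

instance : IsDomain (PA n A) := inferInstanceAs (IsDomain (MvPolynomial n A))

instance [IsNoetherianRing A] [Finite n] : IsNoetherianRing (PA n A) :=
  inferInstanceAs (IsNoetherianRing (MvPolynomial n A))

noncomputable instance instAlgPA : Algebra (MvPolynomial n A) (Spec (PA n A)).functionField :=
  AlgebraicGeometry.instAlgebraCarrierFunctionFieldSpec (PA n A)

instance instFracPA : IsFractionRing (MvPolynomial n A) (Spec (PA n A)).functionField :=
  functionField_isFractionRing_of_affine (PA n A)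

lemma cMap_genericPoint : cMap n A (genericPoint (Spec (PA n A))) = genericPoint (Spec A) := by
  rw [genericPoint_eq_bot_of_affine, genericPoint_eq_bot_of_affine]
  apply PrimeSpectrum.ext
  rw [cMap_asIdeal]
  exact Ideal.comap_bot_of_injective _ (MvPolynomial.C_injective n A)

lemma cMap_eq_genericPoint_iff (q : Spec (PA n A)) :
    cMap n A q = genericPoint (Spec A) ↔
      q.asIdeal.comap (MvPolynomial.C : A →+* MvPolynomial n A) = ⊥ := by
  rw [genericPoint_eq_bot_of_affine]
  constructor
  · intro h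
    rw [← cMap_asIdeal, h]
    rfl
  · intro h
    apply PrimeSpectrum.ext
    rw [cMap_asIdeal, h]
    rfl

/-- The inclusion of function fields `Frac A → Frac A[n]`. -/
noncomputable abbrev ιA : (Spec A).functionField ⟶ (Spec (PA n A)).functionField :=
  ffMap (cMap n A) (cMap_genericPoint n A)

lemma ιA_algebraMap (a : A) :
    (ιA n A).hom (algebraMap A (Spec A).functionField a) =
      algebraMap (PA n A) (Spec (PA n A)).functionField (MvPolynomial.C a) := by
  let q : Spec (PA n A) := genericPoint _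
  rw [algebraMap_functionField_eq A (cMap n A q) a, ffMap_algebraMap (cMap n A) _ q,
    algebraMap_functionField_eq (PA n A) q (MvPolynomial.C a)]
  congr 1
  exact stalkMap_toStalk_apply
    (CommRingCat.ofHom (MvPolynomial.C : A →+* MvPolynomial n A)) q a


variable [IsNoetherianRing A] [Finite n]

local notation "KA" => Scheme.functionField (Spec A)
local notation "LP" => Scheme.functionField (Spec (PA n A))

/-- A rational function on `Spec A[n]` of order zero along the generic fibre is a constant. -/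
theorem exists_const_of_ord_eq_zero (g : LP) (hg : g ≠ 0)
    (h : ∀ q : Spec (PA n A), Order.coheight q = 1 → cMap n A q = genericPoint (Spec A) →
      Scheme.ord g q = 0) :
    ∃ f : KA, f ≠ 0 ∧ (ιA n A).hom f = g := by
  refine exists_const_of_forall_height_one (σ := n) (A := A) KA LP (ιA n A).hom
    (ιA_algebraMap n A) g hg ?_
  intro q hqp hq1 hq0
  let x : Spec (PA n A) := ⟨q, hqp⟩
  have hx : Order.coheight x = 1 := by rw [← idealHeight_eq_coheight (PA n A) x]; exact hq1
  have hxg : cMap n A x = genericPoint (Spec A) := (cMap_eq_genericPoint_iff n A x).mpr hq0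
  obtain ⟨t, ht, -⟩ := exists_isUnif_of_comap_eq_bot (σ := n) (A := A) q hq1 hq0
  obtain ⟨a, b, ha, hb, hab⟩ := exists_ord_decomp (PA n A) x hx t ht g hg
  rw [h x hx hxg, zpow_zero, mul_one] at hab
  exact ⟨a, b, ha, hb, hab⟩

/-- The point of `Spec A[n]` defined by the extension of a prime of `A`. -/
noncomputable def extPt (p : Spec A) : Spec (PA n A) :=
  ⟨p.asIdeal.map (MvPolynomial.C : A →+* MvPolynomial n A), isPrime_map_C _⟩

omit [IsDomain A] [IsNoetherianRing A] [Finite n] in
lemma cMap_extPt (p : Spec A) : cMap n A (extPt n A p) = p := by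
  apply PrimeSpectrum.ext
  rw [cMap_asIdeal]
  exact comap_map_C _

omit [IsDomain A] in
lemma coheight_extPt (p : Spec A) : Order.coheight (extPt n A p) = Order.coheight p := by
  rw [← idealHeight_eq_coheight (PA n A), ← idealHeight_eq_coheight A]
  exact height_map_C _

theorem ord_ιA_extPt (p : Spec A) (hp : Order.coheight p = 1)
    (hprinc : (IsLocalRing.maximalIdeal ((Spec A).presheaf.stalk p)).IsPrincipal)
    (f : KA) (hf : f ≠ 0) :
    Scheme.ord ((ιA n A).hom f) (extPt n A p) = Scheme.ord f p := by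
  have hy : Order.coheight (extPt n A p) = 1 := by rw [coheight_extPt, hp]
  obtain ⟨ϖ, hϖ⟩ : ∃ ϖ : A, IsUnif p.asIdeal ϖ := by
    letI := stalkAlg A p
    haveI := stalk_isLocalization A p
    exact exists_isUnif_of_isPrincipal p.asIdeal ((Spec A).presheaf.stalk p) hprinc
  have hϖ' : IsUnif (extPt n A p).asIdeal (MvPolynomial.C ϖ : MvPolynomial n A) := hϖ.map_C
  have key : ∀ r : A, r ≠ 0 →
      Scheme.ord (algebraMap (MvPolynomial n A) LP (MvPolynomial.C r)) (extPt n A p) =
        Scheme.ord (algebraMap A KA r) p := by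
    intro r hr
    obtain ⟨k, a, b, ha, hb, hab⟩ := hϖ.exists_decomp hr
    rw [ord_algebraMap_of_decomp A p hp ϖ hϖ r a b k ha hb hab hr]
    have hmem : ∀ z : A, z ∉ p.asIdeal →
        (MvPolynomial.C z : MvPolynomial n A) ∉ (extPt n A p).asIdeal := by
      intro z hz hmem
      apply hz
      have : z ∈ (p.asIdeal.map (MvPolynomial.C : A →+* MvPolynomial n A)).comap
        MvPolynomial.C := hmem
      rwa [comap_map_C] at this
    refine ord_algebraMap_of_decomp (PA n A) (extPt n A p) hy (MvPolynomial.C ϖ) hϖ'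
      (MvPolynomial.C r) (MvPolynomial.C a) (MvPolynomial.C b) k (hmem a ha) (hmem b hb) ?_ ?_
    · rw [← map_mul, hab, map_mul, map_pow]
    · exact fun h => hr (MvPolynomial.C_injective n A (by rw [h, map_zero]))
  obtain ⟨r₁, r₂, hr₂, rfl⟩ := IsFractionRing.div_surjective (A := A) f
  have hr₂0 : r₂ ≠ 0 := nonZeroDivisors.ne_zero hr₂
  have hr₁0 : r₁ ≠ 0 := by
    rintro rfl
    simp at hf
  rw [map_div₀, ιA_algebraMap, ιA_algebraMap]
  have hC : ∀ r : A, r ≠ 0 → algebraMap (MvPolynomial n A) LP (MvPolynomial.C r) ≠ 0 := by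
    intro r hr h
    apply hr
    have h1 : (MvPolynomial.C r : MvPolynomial n A) = 0 :=
      (IsFractionRing.injective (MvPolynomial n A) LP) (by rw [h, map_zero])
    exact MvPolynomial.C_injective n A (by rw [h1, map_zero])
  rw [Chart.ord_div _ (hC r₁ hr₁0) (hC r₂ hr₂0),
    Chart.ord_div _ (algebraMap_ne_zero A hr₁0) (algebraMap_ne_zero A hr₂0), key r₁ hr₁0,
    key r₂ hr₂0]

theorem cMap_classification (q : Spec (PA n A)) (hq : Order.coheight q = 1) :
    cMap n A q = genericPoint (Spec A) ∨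
      (Order.coheight (cMap n A q) = 1 ∧ q = extPt n A (cMap n A q)) := by
  have hq1 : q.asIdeal.height = 1 := by rw [idealHeight_eq_coheight (PA n A) q, hq]
  rcases height_one_classification (σ := n) (A := A) q.asIdeal hq1 with h | ⟨h1, h2⟩
  · left
    exact (cMap_eq_genericPoint_iff n A q).mpr h
  · right
    refine ⟨?_, ?_⟩
    · rw [← idealHeight_eq_coheight A, cMap_asIdeal]
      exact h1
    · apply PrimeSpectrum.ext
      exact h2

/-- Prescribing orders along the generic fibre of `Spec A[n] → Spec A`. -/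
theorem exists_ord_eq_on_generic_fibre (D : Spec (PA n A) → ℤ) (hfin : {q | D q ≠ 0}.Finite) :
    ∃ g : LP, g ≠ 0 ∧ ∀ q : Spec (PA n A), Order.coheight q = 1 →
      cMap n A q = genericPoint (Spec A) → Scheme.ord g q = D q := by
  classical
  let good : Spec (PA n A) → Prop := fun q =>
    Order.coheight q = 1 ∧ cMap n A q = genericPoint (Spec A)
  have ht : ∀ q : Spec (PA n A), ∃ t : MvPolynomial n A, t ≠ 0 ∧ (good q →
      IsUnif q.asIdeal t ∧ ∀ q' : Spec (PA n A), good q' → t ∈ q'.asIdeal → q' = q) := by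
    intro q
    by_cases hq : good q
    · have hq1 : q.asIdeal.height = 1 := by rw [idealHeight_eq_coheight (PA n A) q, hq.1]
      have hq0 := (cMap_eq_genericPoint_iff n A q).mp hq.2
      obtain ⟨t, ht, huniq⟩ := exists_isUnif_of_comap_eq_bot (σ := n) (A := A) q.asIdeal hq1 hq0
      refine ⟨t, IsUnif.ne_zero (PA n A) ht (asIdeal_ne_bot (PA n A) q hq.1), fun _ => ⟨ht, ?_⟩⟩
      intro q' hq' hmem
      apply PrimeSpectrum.ext
      refine huniq q'.asIdeal q'.isPrime ?_ ((cMap_eq_genericPoint_iff n A q').mp hq'.2) hmem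
      rw [idealHeight_eq_coheight (PA n A) q', hq'.1]
    · exact ⟨1, one_ne_zero, fun h => absurd h hq⟩
  choose t ht0 ht using ht
  let S : Finset (Spec (PA n A)) := hfin.toFinset.filter good
  have hne : ∀ q ∈ S, algebraMap (MvPolynomial n A) LP (t q) ≠ 0 := fun q _ =>
    algebraMap_ne_zero (PA n A) (ht0 q)
  refine ⟨∏ q ∈ S, (algebraMap (MvPolynomial n A) LP (t q)) ^ (D q), ?_, ?_⟩
  · rw [Finset.prod_ne_zero_iff]
    intro q hq
    exact zpow_ne_zero _ (hne q hq)
  · intro q' hq'1 hq'g
    have hq' : good q' := ⟨hq'1, hq'g⟩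
    rw [ord_prod_zpow S _ _ hne q']
    have key : ∀ q ∈ S, D q * Scheme.ord (algebraMap (MvPolynomial n A) LP (t q)) q' =
        if q = q' then D q' else 0 := by
      intro q hq
      have hqgood : good q := (Finset.mem_filter.mp hq).2
      split_ifs with hqq
      · subst hqq
        rw [ord_algebraMap_of_isUnif (PA n A) q hq'1 (t q) (ht q hqgood).1, mul_one]
      · rw [ord_algebraMap_of_notMem (PA n A) q' (t q), mul_zero]
        intro hmem
        exact hqq ((ht q hqgood).2 q' hq' hmem).symm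
    rw [Finset.sum_congr rfl key, Finset.sum_ite_eq']
    split_ifs with hmem
    · rfl
    · by_contra hD
      apply hmem
      rw [Finset.mem_filter]
      exact ⟨hfin.mem_toFinset.mpr (fun h => hD h.symm), hq'⟩

end Poly

end Groth.Agent.Lib.Helper21.AffSpec
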