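import Mathlib

/-!
# Independence of the base field for integrality of global functions (algebra part)

* `eq_zero_or_isUnit_of_isIntegralElem`: an element of a domain integral over a field is `0` or a unit.
* `exists_root_of_unity_not_root`: roots of unity avoid the roots of a nonzero polynomial.
* `isAlgebraic_of_pow_sub_one`: in a finitely generated domain over a field `k`, an element `c` with all
  `c ^ n - 1` zero or units is algebraic over `k`.
* `exists_ne_zero_eval₂_eq_zero`: in a reduced finite type `k₂`-algebra, an element integral over a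
  field `k₁` is algebraic over `k₂`.
-/

set_option autoImplicit false
open Polynomial

namespace Groth.Agent.Lib.Helper21.BaseFieldIndep

/-- An element integral over a field in a domain is zero or a unit. -/
theorem eq_zero_or_isUnit_of_isIntegralElem {F D : Type*} [Field F] [CommRing D] [IsDomain D]
    (f : F →+* D) (y : D) (hy : f.IsIntegralElem y) : y = 0 ∨ IsUnit y := by
  letI := f.toAlgebra
  have hy' : IsIntegral F y := hy
  by_cases h0 : y = 0
  · exact Or.inl h0
  · right
    have hc : (minpoly F y).coeff 0 ≠ 0 := minpoly.coeff_zero_ne_zero hy' h0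
    -- y * (something) = - coeff 0
    have hdiv : (X : F[X]) ∣ minpoly F y - C ((minpoly F y).coeff 0) := by
      rw [X_dvd_iff]; simp
    obtain ⟨q, hq⟩ := hdiv
    have h1 : aeval y (minpoly F y - C ((minpoly F y).coeff 0)) = y * aeval y q := by
      rw [hq]; simp
    rw [map_sub, minpoly.aeval, zero_sub, aeval_C] at h1
    have hu : IsUnit (algebraMap F D ((minpoly F y).coeff 0)) :=
      (IsUnit.mk0 _ hc).map _
    have : IsUnit (y * aeval y q) := by rw [← h1]; exact hu.neg
    exact isUnit_of_mul_isUnit_left this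

/-- For a nonzero polynomial `g` over a field `k`, there are `n ≥ 1` and `ζ` in an algebraic closure
with `ζ ^ n = 1` and `g(ζ) ≠ 0`. -/
theorem exists_root_of_unity_not_root {k : Type*} [Field k] (g : k[X]) (hg : g ≠ 0) :
    ∃ (n : ℕ) (ζ : AlgebraicClosure k), 1 ≤ n ∧ ζ ^ n = 1 ∧ aeval ζ g ≠ 0 := by
  classical
  set K := AlgebraicClosure k
  set N := g.natDegree
  -- choose n > N with (n : k) ≠ 0
  obtain ⟨n, hnN, hn⟩ : ∃ n : ℕ, N < n ∧ (n : k) ≠ 0 := by
    by_cases h : ((N + 1 : ℕ) : k) = 0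
    · refine ⟨N + 2, by omega, ?_⟩
      intro h2
      have : ((N + 2 : ℕ) : k) = ((N + 1 : ℕ) : k) + 1 := by push_cast; ring
      rw [this, h, zero_add] at h2
      exact one_ne_zero h2
    · exact ⟨N + 1, by omega, h⟩
  have hsep : (X ^ n - C (1 : k)).Separable := separable_X_pow_sub_C 1 hn one_ne_zero
  have hsplit : Splits ((X ^ n - C (1 : k)).map (algebraMap k K)) := IsAlgClosed.splits _
  have hcard := card_rootSet_eq_natDegree (K := K) hsep hsplit
  have hdeg : (X ^ n - C (1 : k)).natDegree = n := natDegree_X_pow_sub_C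
  rw [hdeg] at hcard
  -- roots of g
  have hg' : g.map (algebraMap k K) ≠ 0 := by
    rwa [Ne, Polynomial.map_eq_zero]
  have hcard2 : Fintype.card (g.rootSet K) ≤ N := by
    simp_rw [rootSet_def, Finset.coe_sort_coe, Fintype.card_coe]
    calc (g.aroots K).toFinset.card ≤ Multiset.card (g.aroots K) := Multiset.toFinset_card_le _
      _ ≤ (g.map (algebraMap k K)).natDegree := card_roots' _
      _ = N := natDegree_map _
  -- find ζ
  have : ¬ ((X ^ n - C (1 : k)).rootSet K ⊆ g.rootSet K) := by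
    intro hsub
    have := Set.card_le_card hsub  -- Fintype.card
    omega
  obtain ⟨ζ, hζ1, hζ2⟩ := Set.not_subset.1 this
  refine ⟨n, ζ, by omega, ?_, ?_⟩
  · rw [mem_rootSet] at hζ1
    have := hζ1.2
    simpa [sub_eq_zero] using this
  · intro h0
    exact hζ2 (by rw [mem_rootSet]; exact ⟨hg, h0⟩)

/-- Key lemma: in a finitely generated domain over a field `k`, an element `c` all of whose
`c ^ n - 1` are zero or units is algebraic over `k`. -/
theorem isAlgebraic_of_pow_sub_one {k D : Type*} [Field k] [CommRing D] [IsDomain D] [Algebra k D]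
    [Algebra.FiniteType k D] (c : D)
    (h : ∀ n : ℕ, 1 ≤ n → c ^ n - 1 = 0 ∨ IsUnit (c ^ n - 1)) : IsAlgebraic k c := by
  by_contra hc
  have htr : Transcendental k c := hc
  have hinj : Function.Injective (aeval c : k[X] →ₐ[k] D) :=
    transcendental_iff_injective.1 htr
  letI alg : Algebra k[X] D := (aeval c : k[X] →ₐ[k] D).toRingHom.toAlgebra
  have halg : ∀ p : k[X], algebraMap k[X] D p = aeval c p := fun _ => rfl
  haveI : IsScalarTower k k[X] D := IsScalarTower.of_algebraMap_eq (fun r => by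
    rw [halg, ← Polynomial.C_eq_algebraMap, aeval_C])
  haveI : Module.IsTorsionFree k[X] D :=
    Module.isTorsionFree_iff_algebraMap_injective.2 hinj
  haveI : Module.Flat k[X] D := inferInstance
  haveI : Algebra.FiniteType k[X] D := Algebra.FiniteType.of_restrictScalars_finiteType k k[X] D
  haveI : Algebra.FinitePresentation k[X] D := Algebra.FinitePresentation.of_finiteType.1 inferInstance
  have hopen : IsOpenMap (PrimeSpectrum.comap (algebraMap k[X] D)) :=
    PrimeSpectrum.isOpenMap_comap_of_hasGoingDown_of_finitePresentation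
  have hrange : IsOpen (Set.range (PrimeSpectrum.comap (algebraMap k[X] D))) := hopen.isOpen_range
  have hbot : (⊥ : PrimeSpectrum k[X]) ∈ Set.range (PrimeSpectrum.comap (algebraMap k[X] D)) := by
    refine ⟨⊥, ?_⟩
    ext1
    change Ideal.comap _ ⊥ = ⊥
    rw [← RingHom.ker_eq_comap_bot]
    exact (RingHom.injective_iff_ker_eq_bot _).1 hinj
  obtain ⟨_, ⟨_, ⟨g, rfl⟩, rfl⟩, hg1, hg2⟩ :=
    PrimeSpectrum.isBasis_basic_opens.exists_subset_of_mem_open hbot hrange
  have hg0 : g ≠ 0 := by
    intro h0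
    rw [h0] at hg1
    simp at hg1
  obtain ⟨n, ζ, hn, hζ, hgζ⟩ := exists_root_of_unity_not_root g hg0
  let M : PrimeSpectrum k[X] := ⟨RingHom.ker (aeval ζ : k[X] →ₐ[k] AlgebraicClosure k),
    RingHom.ker_isPrime _⟩
  have hM : M ∈ (PrimeSpectrum.basicOpen g : Set _) := by
    change g ∉ RingHom.ker _
    rw [RingHom.mem_ker]
    exact hgζ
  obtain ⟨𝔮, h𝔮⟩ := hg2 hM
  have hmem : (X ^ n - 1 : k[X]) ∈ M.asIdeal := by
    change _ ∈ RingHom.ker _
    rw [RingHom.mem_ker]
    simp [hζ]
  rw [← h𝔮] at hmem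
  have hmem' : c ^ n - 1 ∈ 𝔮.asIdeal := by
    have : algebraMap k[X] D (X ^ n - 1) ∈ 𝔮.asIdeal := hmem
    rw [halg] at this
    simpa using this
  rcases h n hn with h0 | hu
  · apply hc
    refine ⟨X ^ n - 1, ?_, by simpa using h0⟩
    intro hz
    have := congrArg natDegree hz
    rw [← C_1, natDegree_X_pow_sub_C] at this
    simp at this
    omega
  · exact 𝔮.isPrime.ne_top (Ideal.eq_top_of_isUnit_mem _ hmem' hu)

/-- Affine step: over a reduced ring `A` of finite type over a field `k₂`, an element integral over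
another field `k₁` is algebraic over `k₂`. -/
theorem exists_ne_zero_eval₂_eq_zero {k₁ k₂ A : Type*} [Field k₁] [Field k₂] [CommRing A]
    [IsReduced A] (f₁ : k₁ →+* A) (f₂ : k₂ →+* A) (hf₂ : f₂.FiniteType) (y : A)
    (hy : f₁.IsIntegralElem y) : ∃ P : k₂[X], P ≠ 0 ∧ eval₂ f₂ y P = 0 := by
  classical
  letI := f₂.toAlgebra
  haveI : Algebra.FiniteType k₂ A := hf₂
  haveI : IsNoetherianRing A := Algebra.FiniteType.isNoetherianRing k₂ A
  have hfin : (minimalPrimes A).Finite := minimalPrimes.finite_of_isNoetherianRing A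
  have key : ∀ 𝔭 ∈ minimalPrimes A, ∃ P : k₂[X], P ≠ 0 ∧ aeval y P ∈ 𝔭 := by
    intro 𝔭 h𝔭
    haveI : 𝔭.IsPrime := h𝔭.1.1
    set c : A ⧸ 𝔭 := Ideal.Quotient.mk 𝔭 y with hcdef
    have hint : ∀ n : ℕ, ((Ideal.Quotient.mk 𝔭).comp f₁).IsIntegralElem (c ^ n - 1) := by
      intro n
      letI := f₁.toAlgebra
      have e : algebraMap k₁ (A ⧸ 𝔭) = (Ideal.Quotient.mk 𝔭).comp f₁ := rfl
      have hy' : IsIntegral k₁ y := hy
      have h1 : IsIntegral k₁ (y ^ n - 1) := (hy'.pow n).sub isIntegral_one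
      have h2 : IsIntegral k₁ (algebraMap A (A ⧸ 𝔭) (y ^ n - 1)) := h1.algebraMap
      have : algebraMap A (A ⧸ 𝔭) (y ^ n - 1) = c ^ n - 1 := by
        simp [hcdef]
      rw [this] at h2
      rw [← e]
      exact h2
    have halg : IsAlgebraic k₂ c :=
      isAlgebraic_of_pow_sub_one c (fun n _ => eq_zero_or_isUnit_of_isIntegralElem _ _ (hint n))
    obtain ⟨P, hP0, hP⟩ := halg
    refine ⟨P, hP0, ?_⟩
    rw [← Ideal.Quotient.eq_zero_iff_mem]
    have : Ideal.Quotient.mk 𝔭 (aeval y P) = aeval c P := by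
      rw [hcdef]
      exact (aeval_algebraMap_apply (A ⧸ 𝔭) y P).symm
    rw [this, hP]
  choose! P hP0 hP using key
  refine ⟨∏ 𝔭 ∈ hfin.toFinset, P 𝔭, ?_, ?_⟩
  · rw [Finset.prod_ne_zero_iff]
    intro 𝔭 h𝔭
    exact hP0 𝔭 (hfin.mem_toFinset.1 h𝔭)
  · have h0 : aeval y (∏ 𝔭 ∈ hfin.toFinset, P 𝔭) ∈ sInf (minimalPrimes A) := by
      rw [Ideal.mem_sInf]
      intro 𝔭 h𝔭
      rw [map_prod]
      exact Ideal.mem_of_dvd _ (Finset.dvd_prod_of_mem _ (hfin.mem_toFinset.2 h𝔭)) (hP 𝔭 h𝔭)
    unfold minimalPrimes at h0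
    rw [Ideal.sInf_minimalPrimes] at h0
    have hnil : (⊥ : Ideal A).radical = ⊥ := by
      have := nilradical_eq_zero A
      unfold nilradical at this
      exact this
    rw [hnil, Ideal.mem_bot] at h0
    exact h0

end Groth.Agent.Lib.Helper21.BaseFieldIndep
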