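import Groth.Prelude.Def_Coh
import Mathlib
import Groth.Agent.Lib.Helper21.BaseFieldIndep

set_option autoImplicit false
universe u
open CategoryTheory CategoryTheory.Limits AlgebraicGeometry TopologicalSpace Polynomial Opposite

namespace Groth.Agent.Lib.Helper21.BaseFieldIndepScheme

open Groth.Agent.Lib.Helper21.BaseFieldIndep

variable {X : Scheme.{u}}

/-- The structure ring map of a scheme over an affine base, on global sections. -/
noncomputable def glob {A : Type u} [CommRing A] (f : X ⟶ Spec (CommRingCat.of A)) : A →+* Γ(X, ⊤) :=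
  (f.appTop).hom.comp (Scheme.ΓSpecIso (CommRingCat.of A)).inv.hom

/-- Restriction of global sections. -/
noncomputable def res (U : X.Opens) : Γ(X, ⊤) →+* Γ(X, U) :=
  (X.presheaf.map (homOfLE (le_top : U ≤ ⊤)).op).hom

theorem basicOpen_res_eq (U : X.Opens) (s : Γ(X, ⊤)) :
    X.basicOpen (res U s) = U ⊓ X.basicOpen s :=
  Scheme.basicOpen_res _ _ _

theorem finiteType_res_glob {k : Type u} [Field k] (b : X ⟶ Spec (CommRingCat.of k))
    [LocallyOfFiniteType b] {U : X.Opens} (hU : IsAffineOpen U) :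
    ((res U).comp (glob b)).FiniteType := by
  have h1 : (b.appLE ⊤ U le_top).hom.FiniteType :=
    HasRingHomProperty.appLE (P := @LocallyOfFiniteType) b inferInstance
      ⟨⊤, isAffineOpen_top _⟩ ⟨U, hU⟩ le_top
  have h2 : (Scheme.ΓSpecIso (CommRingCat.of k)).inv.hom.FiniteType :=
    RingHom.FiniteType.of_surjective _
      (ConcreteCategory.bijective_of_isIso (Scheme.ΓSpecIso (CommRingCat.of k)).inv).surjective
  have := h1.comp h2
  convert this using 1
  ext r
  simp only [res, glob, RingHom.comp_apply, Scheme.Hom.appLE, Scheme.Hom.appTop]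
  rfl

section Main

variable [IsReduced X] {k₁ k₂ : Type u} [Field k₁] [Field k₂]
  (a : X ⟶ Spec (CommRingCat.of k₁)) (b : X ⟶ Spec (CommRingCat.of k₂))
  [LocallyOfFiniteType b] (x : Γ(X, ⊤))

/-- Evaluation of polynomials over `k₂` at the global function `x`. -/
noncomputable def ev : k₂[X] →+* Γ(X, ⊤) := Polynomial.eval₂RingHom (glob b) x

omit [IsReduced X] [LocallyOfFiniteType b] in
theorem ev_apply (P : k₂[X]) : ev b x P = eval₂ (glob b) x P := rfl

/-- L1: on every affine open, `x` is algebraic over `k₂`. -/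
theorem exists_ne_zero_res_ev_eq_zero (hx : (glob a).IsIntegralElem x)
    {U : X.Opens} (hU : IsAffineOpen U) :
    ∃ P : k₂[X], P ≠ 0 ∧ res U (ev b x P) = 0 := by
  have hy : ((res U).comp (glob a)).IsIntegralElem (res U x) := by
    obtain ⟨p, hp, hpx⟩ := hx
    refine ⟨p, hp, ?_⟩
    rw [← Polynomial.hom_eval₂, hpx, map_zero]
  obtain ⟨P, hP0, hP⟩ := exists_ne_zero_eval₂_eq_zero ((res U).comp (glob a))
    ((res U).comp (glob b)) (finiteType_res_glob b hU) (res U x) hy
  refine ⟨P, hP0, ?_⟩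
  rw [ev_apply, Polynomial.hom_eval₂]
  exact hP

omit [IsReduced X] [LocallyOfFiniteType b] in
theorem basicOpen_ev_mul (P Q : k₂[X]) :
    X.basicOpen (ev b x (P * Q)) = X.basicOpen (ev b x P) ⊓ X.basicOpen (ev b x Q) := by
  rw [map_mul, Scheme.basicOpen_mul]

omit [IsReduced X] in
theorem basicOpen_le_basicOpen_pow (s : Γ(X, ⊤)) (e : ℕ) :
    X.basicOpen s ≤ X.basicOpen (s ^ e) := by
  rcases Nat.eq_zero_or_pos e with rfl | he
  · rw [pow_zero, Scheme.basicOpen_of_isUnit _ isUnit_one]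
    exact le_top
  · rw [Scheme.basicOpen_pow (X := X) s he]

/-- L2: for a prime `Q`, the vanishing locus of `Q(x)` is open. -/
theorem isOpen_compl_basicOpen_ev (hx : (glob a).IsIntegralElem x) (Q : k₂[X]) (hQ : Prime Q) :
    IsOpen ((X.basicOpen (ev b x Q) : Set X)ᶜ) := by
  rw [isOpen_iff_forall_mem_open]
  intro p hp
  obtain ⟨_, ⟨U, hU : IsAffineOpen U, rfl⟩, hpU, -⟩ :=
    X.isBasis_affineOpens.exists_subset_of_mem_open (Set.mem_univ p) isOpen_univ
  obtain ⟨P, hP0, hP⟩ := exists_ne_zero_res_ev_eq_zero a b x hx hU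
  obtain ⟨e, R, hR, hPQR⟩ := WfDvdMonoid.max_power_factor hP0 hQ.irreducible
  have hcop : IsCoprime Q R := (hQ.irreducible.coprime_iff_not_dvd).2 hR
  obtain ⟨A, B, hAB⟩ := hcop
  have hAB' : ev b x A * ev b x Q + ev b x B * ev b x R = 1 := by
    rw [← map_mul, ← map_mul, ← map_add, hAB, map_one]
  -- p ∈ basicOpen (ev R)
  have hpR : p ∈ X.basicOpen (ev b x R) := by
    have hg := congrArg (X.presheaf.germ ⊤ p trivial).hom hAB'
    rw [map_add, map_one] at hg
    rcases IsLocalRing.isUnit_or_isUnit_of_add_one hg with h1 | h1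
    · exfalso
      apply hp
      have : p ∈ X.basicOpen (ev b x A * ev b x Q) := (Scheme.mem_basicOpen_top _ _ _).2 h1
      rw [Scheme.basicOpen_mul] at this
      exact this.2
    · have : p ∈ X.basicOpen (ev b x B * ev b x R) := (Scheme.mem_basicOpen_top _ _ _).2 h1
      rw [Scheme.basicOpen_mul] at this
      exact this.2
  refine ⟨(U ⊓ X.basicOpen (ev b x R) : X.Opens), ?_, (U ⊓ X.basicOpen (ev b x R)).2, ⟨hpU, hpR⟩⟩
  intro q hq hqQ
  have hq1 : q ∈ U ⊓ X.basicOpen (ev b x P) := by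
    refine ⟨hq.1, ?_⟩
    rw [hPQR, basicOpen_ev_mul, map_pow]
    exact ⟨basicOpen_le_basicOpen_pow _ e hqQ, hq.2⟩
  rw [← basicOpen_res_eq, hP, Scheme.basicOpen_zero] at hq1
  exact hq1

omit [IsReduced X] [LocallyOfFiniteType b] in
theorem exists_mem_notMem_basicOpen (p : X) (s : Multiset k₂[X])
    (hp : p ∉ X.basicOpen (ev b x s.prod)) : ∃ Q ∈ s, p ∉ X.basicOpen (ev b x Q) := by
  induction s using Multiset.induction_on with
  | empty =>
    exfalso
    apply hp
    rw [Multiset.prod_zero, map_one, Scheme.basicOpen_of_isUnit _ isUnit_one]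
    trivial
  | cons Q s ih =>
    rw [Multiset.prod_cons, basicOpen_ev_mul] at hp
    by_cases hQ : p ∈ X.basicOpen (ev b x Q)
    · have : p ∉ X.basicOpen (ev b x s.prod) := fun h => hp ⟨hQ, h⟩
      obtain ⟨Q', hQ', hpQ'⟩ := ih this
      exact ⟨Q', Multiset.mem_cons_of_mem hQ', hpQ'⟩
    · exact ⟨Q, Multiset.mem_cons_self _ _, hQ⟩

/-- One direction of the independence of the base field. -/
theorem isIntegralElem_of_isIntegralElem [ConnectedSpace X] (hx : (glob a).IsIntegralElem x) :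
    (glob b).IsIntegralElem x := by
  obtain ⟨p₀⟩ : Nonempty X := inferInstance
  obtain ⟨_, ⟨U, hU : IsAffineOpen U, rfl⟩, hpU, -⟩ :=
    X.isBasis_affineOpens.exists_subset_of_mem_open (Set.mem_univ p₀) isOpen_univ
  obtain ⟨P, hP0, hP⟩ := exists_ne_zero_res_ev_eq_zero a b x hx hU
  obtain ⟨s, hs, u, hsu⟩ := UniqueFactorizationMonoid.exists_prime_factors P hP0
  have hp₀ : p₀ ∉ X.basicOpen (ev b x s.prod) := by
    intro h
    have h1 : p₀ ∈ U ⊓ X.basicOpen (ev b x P) := by
      refine ⟨hpU, ?_⟩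
      rw [← hsu, basicOpen_ev_mul]
      refine ⟨h, ?_⟩
      rw [Scheme.basicOpen_of_isUnit _ (u.isUnit.map (ev b x))]
      trivial
    rw [← basicOpen_res_eq, hP, Scheme.basicOpen_zero] at h1
    exact h1
  obtain ⟨Q, hQs, hQp⟩ := exists_mem_notMem_basicOpen b x p₀ s hp₀
  have hQ : Prime Q := hs Q hQs
  have hclopen : IsClopen ((X.basicOpen (ev b x Q) : Set X)ᶜ) :=
    ⟨(X.basicOpen (ev b x Q)).2.isClosed_compl, isOpen_compl_basicOpen_ev a b x hx Q hQ⟩
  have huniv := hclopen.eq_univ ⟨p₀, hQp⟩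
  have hbot : X.basicOpen (ev b x Q) = ⊥ := by
    ext q
    simp only [Opens.coe_bot, Set.mem_empty_iff_false, iff_false]
    intro hq
    have : q ∈ ((X.basicOpen (ev b x Q) : Set X)ᶜ) := by rw [huniv]; trivial
    exact this hq
  have hzero : ev b x Q = 0 := (basicOpen_eq_bot_iff _).1 hbot
  refine ⟨Q * C Q.leadingCoeff⁻¹, monic_mul_leadingCoeff_inv hQ.ne_zero, ?_⟩
  change ev b x (Q * C Q.leadingCoeff⁻¹) = 0
  rw [map_mul, hzero, zero_mul]

end Main

end Groth.Agent.Lib.Helper21.BaseFieldIndepScheme
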