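import Mathlib
import Groth.Agent.S9133

set_option autoImplicit false
universe u

namespace Groth.Agent.Lib.Helper21.QFDimOne

open Algebra

lemma mk_mem_maximalIdeal_iff {A : Type u} [CommRing A] [IsLocalRing A] (I : Ideal A)
    [IsLocalRing (A ⧸ I)] (a : A) :
    Ideal.Quotient.mk I a ∈ IsLocalRing.maximalIdeal (A ⧸ I) ↔ a ∈ IsLocalRing.maximalIdeal A := by
  haveI : IsLocalHom (Ideal.Quotient.mk I) :=
    IsLocalHom.of_surjective _ Ideal.Quotient.mk_surjective
  rw [IsLocalRing.mem_maximalIdeal, IsLocalRing.mem_maximalIdeal, mem_nonunits_iff,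
    mem_nonunits_iff, not_iff_not]
  exact isUnit_map_iff (Ideal.Quotient.mk I) a

/-- Core: above a minimal prime at which the algebra is quasi-finite, there is no chain of primes
in the closed fibre of a finite type algebra over a Noetherian local ring of dimension `≤ 1`. -/
theorem eq_of_le_of_under_eq_maximalIdeal {A C : Type u} [CommRing A] [IsLocalRing A]
    [IsNoetherianRing A] (hdim : ringKrullDim A ≤ 1) [CommRing C] [Algebra A C]
    (𝔯 a b : Ideal C) [𝔯.IsPrime] [a.IsPrime] [b.IsPrime] [Algebra.QuasiFiniteAt A 𝔯]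
    (hra : 𝔯 ≤ a) (hab : a ≤ b)
    (ha : a.under A = IsLocalRing.maximalIdeal A) :
    a = b := by
  set p' : Ideal A := 𝔯.under A with hp'
  haveI hp'prime : p'.IsPrime := inferInstance
  haveI : 𝔯.LiesOver p' := ⟨rfl⟩
  haveI : Nontrivial (A ⧸ p') := Ideal.Quotient.nontrivial_iff.mpr hp'prime.ne_top
  haveI : IsLocalRing (A ⧸ p') :=
    IsLocalRing.of_surjective' (Ideal.Quotient.mk p') Ideal.Quotient.mk_surjective
  letI := Localization.AtPrime.algebraOfLiesOver p' 𝔯
  letI algAL : Algebra (A ⧸ p') 𝔯.ResidueField :=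
    ((algebraMap p'.ResidueField 𝔯.ResidueField).comp
      (algebraMap (A ⧸ p') p'.ResidueField)).toAlgebra
  haveI : IsScalarTower (A ⧸ p') p'.ResidueField 𝔯.ResidueField :=
    IsScalarTower.of_algebraMap_eq fun _ => rfl
  haveI : IsScalarTower (A ⧸ p') (C ⧸ 𝔯) 𝔯.ResidueField := by
    refine IsScalarTower.of_algebraMap_eq fun x => ?_
    obtain ⟨x, rfl⟩ := Ideal.Quotient.mk_surjective x
    rw [IsScalarTower.algebraMap_apply (A ⧸ p') p'.ResidueField 𝔯.ResidueField,
      Ideal.algebraMap_quotient_residueField_mk, Ideal.Quotient.algebraMap_mk_of_liesOver,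
      Ideal.algebraMap_quotient_residueField_mk,
      ← IsScalarTower.algebraMap_apply A p'.ResidueField 𝔯.ResidueField,
      ← IsScalarTower.algebraMap_apply A C 𝔯.ResidueField]
  haveI : Module.Finite p'.ResidueField 𝔯.ResidueField := inferInstance
  -- the images of `a`, `b` in `C ⧸ 𝔯`
  have hsurj : Function.Surjective (Ideal.Quotient.mk 𝔯) := Ideal.Quotient.mk_surjective
  have hker (c : Ideal C) (hc : 𝔯 ≤ c) : RingHom.ker (Ideal.Quotient.mk 𝔯) ≤ c := by
    rw [Ideal.mk_ker]; exact hc
  have hcm (c : Ideal C) (hc : 𝔯 ≤ c) : (c.map (Ideal.Quotient.mk 𝔯)).comap (Ideal.Quotient.mk 𝔯) = c :=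
    Ideal.comap_map_of_surjective' _ hsurj c |>.trans (by rw [Ideal.mk_ker]; exact sup_eq_left.mpr hc)
  have hprime (c : Ideal C) [c.IsPrime] (hc : 𝔯 ≤ c) : (c.map (Ideal.Quotient.mk 𝔯)).IsPrime :=
    Ideal.map_isPrime_of_surjective hsurj (hker c hc)
  have hunder (c : Ideal C) (hc : 𝔯 ≤ c) (hcm' : c.under A = IsLocalRing.maximalIdeal A) :
      (c.map (Ideal.Quotient.mk 𝔯)).under (A ⧸ p') = IsLocalRing.maximalIdeal (A ⧸ p') := by
    ext z
    obtain ⟨z, rfl⟩ := Ideal.Quotient.mk_surjective z
    rw [Ideal.mem_comap, Ideal.Quotient.algebraMap_mk_of_liesOver, mk_mem_maximalIdeal_iff, ← hcm',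
      Ideal.mem_comap, ← Ideal.mem_comap (f := Ideal.Quotient.mk 𝔯), hcm c hc]
  suffices h : a.map (Ideal.Quotient.mk 𝔯) = b.map (Ideal.Quotient.mk 𝔯) by
    rw [← hcm a hra, ← hcm b (hra.trans hab), h]
  haveI := hprime a hra
  haveI := hprime b (hra.trans hab)
  by_cases hfield : IsField (A ⧸ p')
  · -- `C ⧸ 𝔯` is a field
    haveI : Algebra.IsIntegral (A ⧸ p') p'.ResidueField :=
      Algebra.isIntegral_of_surjective (IsFractionRing.surjective_iff_isField.mpr hfield)
    haveI : Algebra.IsIntegral (A ⧸ p') 𝔯.ResidueField :=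
      Algebra.IsIntegral.trans p'.ResidueField
    haveI : Algebra.IsIntegral (A ⧸ p') (C ⧸ 𝔯) :=
      ⟨fun z => IsIntegral.tower_bot (A := C ⧸ 𝔯) (B := 𝔯.ResidueField)
        (IsFractionRing.injective (C ⧸ 𝔯) 𝔯.ResidueField)
        (Algebra.IsIntegral.isIntegral (R := A ⧸ p') _)⟩
    have hCr : IsField (C ⧸ 𝔯) := isField_of_isIntegral_of_isField' hfield
    letI := hCr.toField
    rw [Ideal.eq_bot_of_prime (a.map (Ideal.Quotient.mk 𝔯)),
      Ideal.eq_bot_of_prime (b.map (Ideal.Quotient.mk 𝔯))]
  · have hdim1 : ringKrullDim (A ⧸ p') = 1 := by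
      have h01 : ringKrullDim (A ⧸ p') ≤ 1 := (ringKrullDim_quotient_le p').trans hdim
      rcases h01.lt_or_eq with hlt | heq
      · exfalso
        apply hfield
        have h0 : ringKrullDim (A ⧸ p') ≤ 0 := by
          generalize ringKrullDim (A ⧸ p') = x at hlt
          induction x using WithBot.recBotCoe with
          | bot => exact bot_le
          | coe x =>
            have h' : x < 1 := by exact_mod_cast hlt
            have : x = 0 := Order.lt_one_iff.mp h'
            subst this; rfl
        haveI : Ring.KrullDimLE 0 (A ⧸ p') := (Ring.krullDimLE_iff).mpr (by exact_mod_cast h0)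
        exact Ring.KrullDimLE.isField_of_isDomain
      · exact heq
    have key := (Groth.Agent.S9133.result (A ⧸ p') (C ⧸ 𝔯) p'.ResidueField 𝔯.ResidueField hdim1).1
    have hamax := key (a.map (Ideal.Quotient.mk 𝔯)) ⟨inferInstance, ⟨(hunder a hra ha).symm⟩⟩
    exact hamax.eq_of_le (Ideal.IsPrime.ne_top inferInstance) (Ideal.map_mono hab)

/-- Core lemma, non-local form. -/
theorem eq_of_le_of_under_eq {R S : Type u} [CommRing R] [CommRing S] [Algebra R S]
    (p : Ideal R) [p.IsPrime] [IsNoetherianRing (Localization.AtPrime p)]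
    (hdim : ringKrullDim (Localization.AtPrime p) ≤ 1)
    (𝔯 a b : Ideal S) [𝔯.IsPrime] [a.IsPrime] [b.IsPrime] [Algebra.QuasiFiniteAt R 𝔯]
    (hra : 𝔯 ≤ a) (hab : a ≤ b) (ha : a.under R = p) (hb : b.under R = p) : a = b := by
  let A := Localization.AtPrime p
  let M : Submonoid S := Algebra.algebraMapSubmonoid S p.primeCompl
  let C := Localization M
  have hdisj (c : Ideal S) (hc : c.under R ≤ p) : Disjoint (M : Set S) (c : Set S) := by
    rw [Set.disjoint_left]
    rintro _ ⟨s, hs, rfl⟩ hsc
    exact hs (hc hsc)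
  have hprime (c : Ideal S) [c.IsPrime] (hc : c.under R ≤ p) :
      (c.map (algebraMap S C)).IsPrime :=
    IsLocalization.isPrime_of_isPrime_disjoint M C c inferInstance (hdisj c hc)
  have hcm (c : Ideal S) [c.IsPrime] (hc : c.under R ≤ p) :
      (c.map (algebraMap S C)).comap (algebraMap S C) = c :=
    IsLocalization.under_map_of_isPrime_disjoint M C inferInstance (hdisj c hc)
  have hrp : 𝔯.under R ≤ p := ha ▸ Ideal.comap_mono hra
  have hbp : b.under R ≤ p := hb.le
  haveI := hprime 𝔯 hrp
  haveI := hprime a ha.le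
  haveI := hprime b hbp
  -- the closed fibre
  have hunder : (a.map (algebraMap S C)).under A = IsLocalRing.maximalIdeal A := by
    have h1 : ((a.map (algebraMap S C)).under A).under R = p := by
      rw [Ideal.under_under, ← Ideal.under_under (B := S)]
      change (Ideal.comap (algebraMap S C) (a.map (algebraMap S C))).under R = p
      rw [hcm a ha.le, ha]
    have h2 : (IsLocalRing.maximalIdeal A).under R = p :=
      IsLocalization.AtPrime.under_maximalIdeal A p
    have hinj := PrimeSpectrum.localization_comap_injective A p.primeCompl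
    have := @hinj ⟨(a.map (algebraMap S C)).under A, inferInstance⟩
      ⟨IsLocalRing.maximalIdeal A, inferInstance⟩ (PrimeSpectrum.ext (h1.trans h2.symm))
    exact congrArg PrimeSpectrum.asIdeal this
  -- quasi-finiteness at `𝔯 C`
  haveI : Algebra.QuasiFiniteAt A (𝔯.map (algebraMap S C)) := by
    let T := Localization.AtPrime (𝔯.map (algebraMap S C))
    haveI h1 : IsLocalization.AtPrime T ((𝔯.map (algebraMap S C)).comap (algebraMap S C)) :=
      IsLocalization.isLocalization_isLocalization_atPrime_isLocalization M T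
        (𝔯.map (algebraMap S C))
    haveI h2 : IsLocalization.AtPrime T 𝔯 := by
      convert h1 using 1
      exact (hcm 𝔯 hrp).symm
    let e : Localization.AtPrime 𝔯 ≃ₐ[S] T := IsLocalization.algEquiv 𝔯.primeCompl _ _
    haveI : Algebra.QuasiFinite R T :=
      (Algebra.QuasiFinite.iff_of_algEquiv (e.restrictScalars R)).mp inferInstance
    exact Algebra.QuasiFinite.of_restrictScalars R A T
  have key := eq_of_le_of_under_eq_maximalIdeal (A := A) (C := C) hdim
    (𝔯.map (algebraMap S C)) (a.map (algebraMap S C)) (b.map (algebraMap S C))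
    (Ideal.map_mono hra) (Ideal.map_mono hab) hunder
  rw [← hcm a ha.le, ← hcm b hbp, key]


/-- In a space homeomorphic to the spectrum of a Noetherian Jacobson ring, a point with no proper
specializations or generizations is open. -/
lemma isOpen_singleton_of_forall_specializes {T : Type*} [TopologicalSpace T] {F : Type*}
    [CommRing F] [IsNoetherianRing F] [IsJacobsonRing F] (e : T ≃ₜ PrimeSpectrum F) (t : T)
    (h1 : ∀ t' : T, t ⤳ t' → t' = t) (h2 : ∀ t' : T, t' ⤳ t → t' = t) : IsOpen ({t} : Set T) := by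
  rw [← e.isOpen_image, Set.image_singleton]
  refine ((PrimeSpectrum.isOpen_singleton_tfae_of_isNoetherian_of_isJacobsonRing (e t)).out
    0 2 rfl rfl).mpr ?_
  constructor
  · rw [← closure_subset_iff_isClosed]
    intro z hz
    rw [← specializes_iff_mem_closure] at hz
    obtain ⟨z, rfl⟩ := e.surjective z
    rw [e.isInducing.specializes_iff] at hz
    rw [h1 z hz]; rfl
  · intro x y hyx hx
    rw [Set.mem_singleton_iff] at hx ⊢
    subst hx
    obtain ⟨y, rfl⟩ := e.surjective y
    rw [e.isInducing.specializes_iff] at hyx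
    rw [h2 y hyx]


/-- Ring-level theorem: a finite type algebra over a ring whose localization at `q ∩ R` is
Noetherian of dimension `≤ 1` is quasi-finite at `q` as soon as it is quasi-finite at all minimal
primes below `q`. -/
theorem quasiFiniteAt_of_forall_minimalPrimes {R S : Type u} [CommRing R] [CommRing S] [Algebra R S]
    [Algebra.FiniteType R S] (q : Ideal S) [q.IsPrime]
    [IsNoetherianRing (Localization.AtPrime (q.under R))]
    (hdim : ringKrullDim (Localization.AtPrime (q.under R)) ≤ 1)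
    (H : ∀ (𝔯 : Ideal S) [𝔯.IsPrime], 𝔯 ∈ minimalPrimes S → 𝔯 ≤ q → Algebra.QuasiFiniteAt R 𝔯) :
    Algebra.QuasiFiniteAt R q := by
  let q' : PrimeSpectrum S := ⟨q, inferInstance⟩
  refine Algebra.QuasiFiniteAt.of_isOpen_singleton_fiber q' ?_
  let p' := q'.comap (algebraMap R S)
  let e := PrimeSpectrum.preimageHomeomorphFiber R S p'
  haveI : IsNoetherianRing (p'.asIdeal.Fiber S) :=
    Algebra.FiniteType.isNoetherianRing p'.asIdeal.ResidueField _
  haveI : IsJacobsonRing (p'.asIdeal.Fiber S) :=
    isJacobsonRing_of_finiteType (A := p'.asIdeal.ResidueField)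
  -- comparable primes in the fibre through `q` are equal
  have key : ∀ a b : Ideal S, ∀ [a.IsPrime] [b.IsPrime], a ≤ b → b ≤ q ∨ a = q →
      a.under R = q.under R → b.under R = q.under R → a = b := by
    intro a b _ _ hab hq ha hb
    obtain ⟨𝔯, h𝔯, h𝔯a⟩ := Ideal.exists_minimalPrimes_le (J := a) bot_le
    haveI : 𝔯.IsPrime := h𝔯.1.1
    have h𝔯q : 𝔯 ≤ q := by
      rcases hq with hq | hq
      · exact h𝔯a.trans (hab.trans hq)
      · exact hq ▸ h𝔯a
    haveI := H 𝔯 h𝔯 h𝔯q
    exact eq_of_le_of_under_eq (q.under R) hdim 𝔯 a b h𝔯a hab ha hb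
  refine isOpen_singleton_of_forall_specializes e _ ?_ ?_
  · rintro ⟨t, ht⟩ hs
    rw [subtype_specializes_iff, ← PrimeSpectrum.le_iff_specializes] at hs
    have := key q t.asIdeal hs (Or.inr rfl) rfl (congrArg PrimeSpectrum.asIdeal ht)
    exact Subtype.ext (PrimeSpectrum.ext this.symm)
  · rintro ⟨t, ht⟩ hs
    rw [subtype_specializes_iff, ← PrimeSpectrum.le_iff_specializes] at hs
    have := key t.asIdeal q hs (Or.inl le_rfl) (congrArg PrimeSpectrum.asIdeal ht) rfl
    exact Subtype.ext (PrimeSpectrum.ext this)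

end Groth.Agent.Lib.Helper21.QFDimOne
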