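import Mathlib
import Groth.Agent.Lib.Helper21.QFDimOne

set_option autoImplicit false
universe u
open CategoryTheory CategoryTheory.Limits AlgebraicGeometry

namespace Groth.Agent.Lib.Helper21.QFDimOne

variable {X Y : Scheme.{u}} {f : X ⟶ Y}

set_option backward.isDefEq.respectTransparency.types false in
/-- Converse of `Scheme.Hom.QuasiFiniteAt.quasiFiniteAt`. -/
lemma quasiFiniteAt_of_appLE {x : X} {V : X.Opens} (hV : IsAffineOpen V) {U : Y.Opens}
    (hVU : V ≤ f ⁻¹ᵁ U) (hxV : x ∈ V.1)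
    (H : (f.appLE U V hVU).hom.QuasiFiniteAt (hV.primeIdealOf ⟨x, hxV⟩).asIdeal) :
    f.QuasiFiniteAt x := by
  algebraize [(f.appLE U V hVU).hom]
  algebraize [(X.presheaf.germ V x hxV).hom]
  have := hV.isLocalization_stalk ⟨x, hxV⟩
  let e := IsLocalization.algEquiv (hV.primeIdealOf ⟨x, hxV⟩).asIdeal.primeCompl
    (X.presheaf.stalk (⟨x, hxV⟩ : V.1)) (Localization.AtPrime (hV.primeIdealOf ⟨x, hxV⟩).asIdeal)
  rw [RingHom.QuasiFiniteAt, Algebra.QuasiFiniteAt, ← RingHom.quasiFinite_algebraMap] at H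
  have key : algebraMap Γ(Y, U) (Localization.AtPrime (hV.primeIdealOf ⟨x, hxV⟩).asIdeal) =
      (e : _ →+* _).comp ((f.stalkMap x).hom.comp (Y.presheaf.germ U _ (hVU hxV)).hom) := by
    rw [← CommRingCat.hom_comp, f.germ_stalkMap, ← X.presheaf.germ_res (homOfLE hVU) _ hxV,
      Scheme.Hom.app_eq_appLE, Scheme.Hom.appLE_map_assoc, CommRingCat.hom_comp, ← RingHom.comp_assoc,
      IsScalarTower.algebraMap_eq Γ(Y, U) Γ(X, V), e.toAlgHom.comp_algebraMap.symm]
    rfl
  rw [key] at H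
  have H2 := (RingHom.QuasiFinite.of_finite e.symm.finite).comp H
  have H3 : ((f.stalkMap x).hom.comp (Y.presheaf.germ U _ (hVU hxV)).hom).QuasiFinite := by
    convert H2 using 1
    ext z
    simp
  exact RingHom.QuasiFinite.of_comp H3

/-- The image under an affine chart of a minimal prime is the generic point of an irreducible
component. -/
lemma closure_fromSpec_mem_irreducibleComponents {V : X.Opens} (hV : IsAffineOpen V)
    (𝔯 : PrimeSpectrum Γ(X, V)) (h𝔯 : 𝔯.asIdeal ∈ minimalPrimes Γ(X, V)) :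
    closure {hV.fromSpec 𝔯} ∈ irreducibleComponents (X : Type u) := by
  refine ⟨isIrreducible_singleton.closure, fun Z hZ hle => ?_⟩
  -- generic point of the closure of `Z`
  have hZc : IsIrreducible (closure Z) := hZ.closure
  obtain ⟨ζ, hζ⟩ := QuasiSober.sober hZc isClosed_closure
  have hηZ : hV.fromSpec 𝔯 ∈ closure Z := subset_closure (hle (subset_closure rfl))
  have hspec : ζ ⤳ hV.fromSpec 𝔯 := by
    rw [specializes_iff_mem_closure, hζ.def]; exact hηZ
  have hηV : hV.fromSpec 𝔯 ∈ V := by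
    have : hV.fromSpec 𝔯 ∈ Set.range hV.fromSpec := ⟨𝔯, rfl⟩
    rwa [hV.range_fromSpec] at this
  have hζV : ζ ∈ (V : Set X) := hspec.mem_open V.2 hηV
  rw [← hV.range_fromSpec] at hζV
  obtain ⟨ζ', rfl⟩ := hζV
  rw [hV.fromSpec.isOpenEmbedding.isInducing.specializes_iff] at hspec
  replace hspec : PrimeSpectrum.asIdeal ζ' ≤ 𝔯.asIdeal :=
    (PrimeSpectrum.le_iff_specializes (ζ' : PrimeSpectrum Γ(X, V)) 𝔯).mpr hspec
  have heq : ζ' = 𝔯 := PrimeSpectrum.ext (le_antisymm hspec (h𝔯.2 ⟨ζ'.isPrime, bot_le⟩ hspec))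
  subst heq
  rw [hζ.def]
  exact subset_closure

set_option backward.isDefEq.respectTransparency.types false in
/-- A morphism locally of finite type, quasi-finite at the generic points of all irreducible
components of the source, is quasi-finite at every point over a point whose local ring is
Noetherian of dimension at most one. -/
theorem quasiFiniteAt_of_dim_le_one (f : X ⟶ Y) [LocallyOfFiniteType f]
    (x : X) [IsNoetherianRing (Y.presheaf.stalk (f x))]
    (hy : ringKrullDim (Y.presheaf.stalk (f x)) ≤ 1)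
    (hgen : ∀ Z ∈ irreducibleComponents (X : Type u), ∀ η : X, IsGenericPoint η Z →
      f.QuasiFiniteAt η) : f.QuasiFiniteAt x := by
  obtain ⟨_, ⟨U, hU : IsAffineOpen U, rfl⟩, hyU, -⟩ :=
    Y.isBasis_affineOpens.exists_subset_of_mem_open (Set.mem_univ (f x)) isOpen_univ
  obtain ⟨_, ⟨V, hV : IsAffineOpen V, rfl⟩, hxV, hVU'⟩ :=
    X.isBasis_affineOpens.exists_subset_of_mem_open (show x ∈ (f ⁻¹ᵁ U : Set X) from hyU)
      (f ⁻¹ᵁ U).2
  have hVU : V ≤ f ⁻¹ᵁ U := hVU'
  refine quasiFiniteAt_of_appLE hV hVU hxV ?_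
  have hft : (f.appLE U V hVU).hom.FiniteType := f.finiteType_appLE hU hV hVU
  algebraize [(f.appLE U V hVU).hom]
  rw [RingHom.QuasiFiniteAt]
  set q : Ideal Γ(X, V) := (hV.primeIdealOf ⟨x, hxV⟩).asIdeal with hq
  have hqu : q.under Γ(Y, U) = (hU.primeIdealOf ⟨f x, hVU hxV⟩).asIdeal :=
    congrArg PrimeSpectrum.asIdeal
      (IsAffineOpen.comap_primeIdealOf_appLE U hU V hV hVU hxV)
  -- the local ring at `q ∩ R` is the stalk of `Y` at `f x`
  letI := TopCat.Presheaf.algebra_section_stalk Y.presheaf (U := U) ⟨f x, hVU hxV⟩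
  have hloc0 := hU.isLocalization_stalk ⟨f x, hVU hxV⟩
  haveI hloc : IsLocalization.AtPrime (Y.presheaf.stalk (f x)) (q.under Γ(Y, U)) := by
    have hpc : (q.under Γ(Y, U)).primeCompl = (hU.primeIdealOf ⟨f x, hVU hxV⟩).asIdeal.primeCompl := by
      ext z
      simp only [Ideal.mem_primeCompl_iff, hqu]
    unfold IsLocalization.AtPrime
    rw [hpc]
    exact hloc0
  let e : Localization.AtPrime (q.under Γ(Y, U)) ≃ₐ[Γ(Y, U)] Y.presheaf.stalk (f x) :=
    IsLocalization.algEquiv (q.under Γ(Y, U)).primeCompl _ _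
  haveI : IsNoetherianRing (Localization.AtPrime (q.under Γ(Y, U))) :=
    isNoetherianRing_of_ringEquiv _ e.symm.toRingEquiv
  have hdim : ringKrullDim (Localization.AtPrime (q.under Γ(Y, U))) ≤ 1 := by
    rw [ringKrullDim_eq_of_ringEquiv e.toRingEquiv]; exact hy
  refine quasiFiniteAt_of_forall_minimalPrimes q hdim ?_
  intro 𝔯 _ h𝔯 _
  let 𝔯' : PrimeSpectrum Γ(X, V) := ⟨𝔯, inferInstance⟩
  have hηV : hV.fromSpec 𝔯' ∈ V := by
    have : hV.fromSpec 𝔯' ∈ Set.range hV.fromSpec := ⟨𝔯', rfl⟩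
    rwa [hV.range_fromSpec] at this
  have hqf : f.QuasiFiniteAt (hV.fromSpec 𝔯') :=
    hgen _ (closure_fromSpec_mem_irreducibleComponents hV 𝔯' h𝔯) _ rfl
  have h2 := hqf.quasiFiniteAt hV hU hVU hηV
  have h3 : hV.primeIdealOf ⟨hV.fromSpec 𝔯', hηV⟩ = 𝔯' := by
    apply hV.fromSpec.isOpenEmbedding.injective
    exact hV.fromSpec_primeIdealOf ⟨hV.fromSpec 𝔯', hηV⟩
  rw [RingHom.QuasiFiniteAt] at h2
  convert h2 using 2
  exact congrArg PrimeSpectrum.asIdeal h3.symm

end Groth.Agent.Lib.Helper21.QFDimOne
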