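import Mathlib
import Groth.Agent.Lib.Helper21.QFDimOneScheme

set_option autoImplicit false
universe u
open CategoryTheory CategoryTheory.Limits AlgebraicGeometry

namespace Groth.Agent.Lib.Helper21.BirFinite

open Groth.Agent.Lib.Helper21.QFDimOne

/-- In the spectrum of a Noetherian ring, a dense open contains every minimal prime. -/
lemma mem_of_minimalPrimes_of_dense {A : Type*} [CommRing A] [IsNoetherianRing A]
    (D : Set (PrimeSpectrum A)) (hDo : IsOpen D) (hD : Dense D) (𝔯 : PrimeSpectrum A)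
    (h𝔯 : 𝔯.asIdeal ∈ minimalPrimes A) : 𝔯 ∈ D := by
  classical
  have hfin : (minimalPrimes A).Finite := minimalPrimes.finite_of_isNoetherianRing A
  let T : Set (PrimeSpectrum A) :=
    ⋃ 𝔯' ∈ (minimalPrimes A \ {𝔯.asIdeal}), PrimeSpectrum.zeroLocus (𝔯' : Set A)
  have hT : IsClosed T :=
    (hfin.subset Set.sdiff_subset).isClosed_biUnion fun _ _ => PrimeSpectrum.isClosed_zeroLocus _
  have h𝔯T : 𝔯 ∈ Tᶜ := by
    simp only [T, Set.mem_compl_iff, Set.mem_iUnion, not_exists]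
    intro 𝔯' h𝔯' hmem
    rw [PrimeSpectrum.mem_zeroLocus, SetLike.coe_subset_coe] at hmem
    exact h𝔯'.2 (le_antisymm hmem (h𝔯.2 h𝔯'.1.1 hmem))
  obtain ⟨𝔭, h𝔭T, h𝔭D⟩ := hD.inter_open_nonempty Tᶜ hT.isOpen_compl ⟨𝔯, h𝔯T⟩
  obtain ⟨𝔯', h𝔯', hle⟩ := Ideal.exists_minimalPrimes_le (J := 𝔭.asIdeal) bot_le
  have : 𝔯' = 𝔯.asIdeal := by
    by_contra hne
    apply h𝔭T
    simp only [T, Set.mem_iUnion]
    exact ⟨𝔯', ⟨h𝔯', hne⟩, by rwa [PrimeSpectrum.mem_zeroLocus, SetLike.coe_subset_coe]⟩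
  subst this
  have hspec : 𝔯 ⤳ 𝔭 := (PrimeSpectrum.le_iff_specializes 𝔯 𝔭).mp hle
  exact hspec.mem_open hDo h𝔭D

/-- In a locally Noetherian scheme, a dense open contains the generic point of every irreducible
component. -/
lemma mem_of_isGenericPoint_of_dense {Y : Scheme.{u}} [IsLocallyNoetherian Y] (W : Y.Opens)
    (hW : Dense (W : Set Y)) (Z : Set Y) (hZ : Z ∈ irreducibleComponents (Y : Type u)) (η : Y)
    (hη : IsGenericPoint η Z) : η ∈ W := by
  -- `η` has no proper generizations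
  have hmax : ∀ ζ : Y, ζ ⤳ η → ζ = η := by
    intro ζ hζ
    have h1 : Z ⊆ closure {ζ} := by
      rw [← hη.def]
      exact closure_minimal (Set.singleton_subset_iff.mpr (specializes_iff_mem_closure.mp hζ))
        isClosed_closure
    have h2 : closure {ζ} ⊆ Z := hZ.2 isIrreducible_singleton.closure h1
    have h3 : η ⤳ ζ := by
      rw [specializes_iff_mem_closure, hη.def]; exact h2 (subset_closure rfl)
    exact (hζ.antisymm h3).eq
  -- a Noetherian affine open neighbourhood of η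
  obtain ⟨_, ⟨O, hO : IsAffineOpen O, rfl⟩, hηO, -⟩ :=
    Y.isBasis_affineOpens.exists_subset_of_mem_open (Set.mem_univ η) isOpen_univ
  haveI : IsNoetherianRing Γ(Y, O) := IsLocallyNoetherian.component_noetherian ⟨O, hO⟩
  let 𝔯 := hO.primeIdealOf ⟨η, hηO⟩
  have h𝔯η : hO.fromSpec 𝔯 = η := hO.fromSpec_primeIdealOf ⟨η, hηO⟩
  have hmin : 𝔯.asIdeal ∈ minimalPrimes Γ(Y, O) := by
    refine ⟨⟨𝔯.isPrime, bot_le⟩, fun 𝔭 h𝔭 hle => ?_⟩
    let 𝔭' : PrimeSpectrum Γ(Y, O) := ⟨𝔭, h𝔭.1⟩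
    have hs : 𝔭' ⤳ 𝔯 := (PrimeSpectrum.le_iff_specializes 𝔭' 𝔯).mp hle
    have hs' := hs.map hO.fromSpec.continuous
    rw [h𝔯η] at hs'
    have := hmax _ hs'
    rw [← h𝔯η] at this
    have h2 : 𝔭' = 𝔯 := hO.fromSpec.isOpenEmbedding.injective this
    rw [← h2]
  have hD : Dense (hO.fromSpec ⁻¹' (W : Set Y)) :=
    hW.preimage hO.fromSpec.isOpenEmbedding.isOpenMap
  have := mem_of_minimalPrimes_of_dense (hO.fromSpec ⁻¹' (W : Set Y))
    (W.2.preimage hO.fromSpec.continuous) hD 𝔯 hmin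
  rw [Set.mem_preimage, h𝔯η] at this
  exact this

/-- A morphism which is an isomorphism over an open `U` is quasi-finite at all points of the
preimage of `U`. -/
lemma quasiFiniteAt_of_isIso_restrict {X Y : Scheme.{u}} (f : Y ⟶ X) (U : X.Opens)
    [IsIso (f ∣_ U)] (y : Y) (hy : y ∈ f ⁻¹ᵁ U) : f.QuasiFiniteAt y := by
  have h1 : ((f ⁻¹ᵁ U).ι ≫ f).QuasiFiniteAt (⟨y, hy⟩ : (f ⁻¹ᵁ U : Y.Opens)) := by
    rw [← morphismRestrict_ι]
    haveI h0 : IsOpenImmersion (f ∣_ U ≫ U.ι) := inferInstance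
    haveI h00 : LocallyQuasiFinite (f ∣_ U ≫ U.ι) := inferInstance
    exact Scheme.Hom.quasiFiniteAt (f ∣_ U ≫ U.ι) (⟨y, hy⟩ : (f ⁻¹ᵁ U : Y.Opens))
  have h2 := (Scheme.Hom.quasiFiniteAt_comp_iff_of_isOpenImmersion (f := (f ⁻¹ᵁ U).ι) (g := f)
    (x := (⟨y, hy⟩ : (f ⁻¹ᵁ U : Y.Opens)))).mp h1
  rwa [Scheme.Opens.ι_apply] at h2

/-- A birational morphism of finite type between locally Noetherian schemes has finite fibres
over points of codimension `≤ 1`. -/
theorem finite_fibre_of_birational {X Y : Scheme.{u}}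
    [IsLocallyNoetherian X] [IsLocallyNoetherian Y] (f : Y ⟶ X) [LocallyOfFiniteType f]
    [QuasiCompact f] (U : X.Opens) (hU' : Dense ((f ⁻¹ᵁ U : Y.Opens) : Set Y))
    (hiso : IsIso (f ∣_ U)) (x : X) (hx : ringKrullDim (X.presheaf.stalk x) ≤ 1) :
    (f.base ⁻¹' {x}).Finite := by
  have hgen : ∀ Z ∈ irreducibleComponents (Y : Type u), ∀ η : Y, IsGenericPoint η Z →
      f.QuasiFiniteAt η := fun Z hZ η hη =>
    quasiFiniteAt_of_isIso_restrict f U η (mem_of_isGenericPoint_of_dense _ hU' Z hZ η hη)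
  have hcpt : IsCompact (f.base ⁻¹' {x}) := f.isCompact_preimage_singleton x
  haveI : CompactSpace (f.base ⁻¹' {x}) := isCompact_iff_compactSpace.mp hcpt
  haveI : DiscreteTopology (f.base ⁻¹' {x}) := by
    rw [discreteTopology_iff_isOpen_singleton]
    rintro ⟨y, hy⟩
    have hy' : f.base y = x := hy
    subst hy'
    have hq : f.QuasiFiniteAt y := quasiFiniteAt_of_dim_le_one f y hx hgen
    rw [Scheme.Hom.quasiFiniteAt_iff_isOpen_singleton_asFiber,
      ← (f.fiberHomeo (f y)).isOpen_image] at hq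
    simpa only [Set.image_singleton, Scheme.Hom.asFiber, Homeomorph.apply_symm_apply] using hq
  exact Set.finite_coe_iff.mp (finite_of_compact_of_discrete)

end Groth.Agent.Lib.Helper21.BirFinite
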