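import Mathlib.RingTheory.Flat.FaithfullyFlat.Algebra
import Mathlib.RingTheory.LocalRing.MaximalIdeal.Basic
import Mathlib.RingTheory.Ideal.Operations

set_option autoImplicit false

namespace Groth.Agent.Lib.Helper21.CartierDesc

/-- Descent of "principal, generated by a nonzerodivisor" along a faithfully flat map to a local
ring. -/
theorem exists_generator_of_map_principal {A B : Type*} [CommRing A] [CommRing B] [IsLocalRing B]
    [Algebra A B] [Module.FaithfullyFlat A B] (I : Ideal A) (f : B) (hf : f ∈ nonZeroDivisors B)
    (h : I.map (algebraMap A B) = Ideal.span {f}) :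
    ∃ a ∈ nonZeroDivisors A, I = Ideal.span {a} := by
  have hinj : Function.Injective (algebraMap A B) := FaithfulSMul.algebraMap_injective A B
  -- some element of `I` maps to a unit multiple of `f`
  have hex : ∃ a ∈ I, ∃ c : B, IsUnit c ∧ algebraMap A B a = f * c := by
    by_contra hcon
    push Not at hcon
    have hle : I.map (algebraMap A B) ≤ Ideal.span {f} * IsLocalRing.maximalIdeal B := by
      rw [Ideal.map_le_iff_le_comap]
      intro a ha
      have h1 : algebraMap A B a ∈ Ideal.span {f} := by
        rw [← h]; exact Ideal.mem_map_of_mem _ ha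
      obtain ⟨c, hc⟩ := Ideal.mem_span_singleton'.mp h1
      rw [Ideal.mem_comap, Ideal.mem_span_singleton_mul]
      refine ⟨c, ?_, by rw [← hc, mul_comm]⟩
      rw [IsLocalRing.mem_maximalIdeal, mem_nonunits_iff]
      intro hu
      exact hcon a ha c hu (by rw [← hc, mul_comm])
    have hf' : f ∈ Ideal.span {f} * IsLocalRing.maximalIdeal B := by
      apply hle; rw [h]; exact Ideal.mem_span_singleton_self f
    obtain ⟨z, hz, hfz⟩ := Ideal.mem_span_singleton_mul.mp hf'
    have h0 : (1 - z) * f = 0 := by rw [sub_mul, one_mul, mul_comm z f, hfz, sub_self]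
    have h1 : 1 - z = 0 := (mem_nonZeroDivisors_iff_right.mp hf) _ h0
    have : (1 : B) ∈ IsLocalRing.maximalIdeal B := by
      rw [show (1 : B) = z from (sub_eq_zero.mp h1)]; exact hz
    exact (Ideal.ne_top_iff_one _).mp (IsLocalRing.maximalIdeal.isMaximal B).ne_top this
  obtain ⟨a, haI, c, hc, hac⟩ := hex
  have hspan : Ideal.span {algebraMap A B a} = Ideal.span {f} := by
    rw [hac]
    exact Ideal.span_singleton_mul_right_unit hc f
  refine ⟨a, ?_, ?_⟩
  · rw [mem_nonZeroDivisors_iff_right]
    intro y hy
    apply hinj
    rw [map_zero]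
    have h1 : algebraMap A B y * c * f = 0 := by
      have := congrArg (algebraMap A B) hy
      rw [map_mul, map_zero, hac] at this
      rw [← this]; ring
    have h2 := (mem_nonZeroDivisors_iff_right.mp hf) _ h1
    exact (hc.mul_left_eq_zero).mp h2
  · have h1 : (I.map (algebraMap A B)).comap (algebraMap A B) = I :=
      Ideal.comap_map_eq_self_of_faithfullyFlat I
    have h2 : ((Ideal.span {a}).map (algebraMap A B)).comap (algebraMap A B) = Ideal.span {a} :=
      Ideal.comap_map_eq_self_of_faithfullyFlat _
    rw [← h1, ← h2, h, Ideal.map_span, Set.image_singleton, hspan]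

end Groth.Agent.Lib.Helper21.CartierDesc
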