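import Mathlib

set_option autoImplicit false
universe u v

namespace Groth.Agent.Lib.Helper21.EffCartierUFD

open Submodule

/-- In a Noetherian UFD, a proper ideal all of whose associated primes have height one is principal,
generated by a nonzero element. -/
theorem exists_eq_span_singleton_of_associatedPrimes_height_one {R : Type u} [CommRing R]
    [IsDomain R] [IsNoetherianRing R] [UniqueFactorizationMonoid R]
    (J : Ideal R) (hJ : J ≠ ⊤) (h : ∀ P ∈ associatedPrimes R (R ⧸ J), P.height = 1) :
    ∃ g : R, g ≠ 0 ∧ J = Ideal.span {g} := by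
  classical
  letI := UniqueFactorizationMonoid.strongNormalizationMonoid (α := R)
  letI := UniqueFactorizationMonoid.toNormalizedGCDMonoid R
  -- J ≠ ⊥
  have hJ0 : J ≠ ⊥ := by
    rintro rfl
    have hmem : (⊥ : Ideal R) ∈ associatedPrimes R (R ⧸ (⊥ : Ideal R)) := by
      rw [AssociatedPrimes.mem_iff, isAssociatedPrime_iff]
      refine ⟨Ideal.isPrime_bot, Ideal.Quotient.mk ⊥ 1, ?_⟩
      ext r
      rw [mem_colon_singleton]
      simp only [Ideal.mem_bot, Submodule.mem_bot]
      have : r • (Ideal.Quotient.mk (⊥ : Ideal R)) 1 = Ideal.Quotient.mk ⊥ r := by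
        rw [Algebra.smul_def, map_one, mul_one]; rfl
      rw [this, Ideal.Quotient.eq_zero_iff_mem, Ideal.mem_bot]
    have := h ⊥ hmem
    rw [Ideal.height_bot] at this
    exact zero_ne_one this
  obtain ⟨s, hs⟩ := IsNoetherian.noetherian J
  have hsne : s.Nonempty := by
    by_contra hne
    rw [Finset.not_nonempty_iff_eq_empty] at hne
    rw [hne] at hs
    simp at hs
    exact hJ0 hs.symm
  obtain ⟨g', hg', hgcd⟩ := Finset.extract_gcd (id : R → R) hsne
  set g := s.gcd id with hg
  have hg0 : g ≠ 0 := by
    intro h0
    rw [hg, Finset.gcd_eq_zero_iff] at h0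
    apply hJ0
    rw [← hs, Submodule.span_eq_bot]
    intro x hx
    exact h0 x hx
  set J' : Ideal R := Ideal.span (g' '' (s : Set R)) with hJ'
  have hJJ' : ∀ r, r ∈ J' ↔ g * r ∈ J := by
    intro r
    constructor
    · intro hr
      rw [hJ'] at hr
      induction hr using Submodule.span_induction with
      | mem x hx =>
        obtain ⟨b, hb, rfl⟩ := hx
        rw [← hg' b hb]
        rw [← hs]; exact Submodule.subset_span hb
      | zero => rw [mul_zero]; exact J.zero_mem
      | add x y _ _ hx hy => rw [mul_add]; exact J.add_mem hx hy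
      | smul a x _ hx => rw [smul_eq_mul, mul_left_comm]; exact J.mul_mem_left a hx
    · intro hr
      -- every element of J is g * (element of J')
      have key : ∀ y ∈ J, ∃ y' ∈ J', y = g * y' := by
        intro y hy
        rw [← hs] at hy
        induction hy using Submodule.span_induction with
        | mem x hx => exact ⟨g' x, Submodule.subset_span ⟨x, hx, rfl⟩, hg' x hx⟩
        | zero => exact ⟨0, J'.zero_mem, by rw [mul_zero]⟩
        | add x y _ _ hx hy =>
          obtain ⟨x', hx', rfl⟩ := hx
          obtain ⟨y', hy', rfl⟩ := hy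
          exact ⟨x' + y', J'.add_mem hx' hy', by rw [mul_add]⟩
        | smul a x _ hx =>
          obtain ⟨x', hx', rfl⟩ := hx
          exact ⟨a * x', J'.mul_mem_left a hx', by rw [smul_eq_mul, mul_left_comm]⟩
      obtain ⟨y', hy', hy⟩ := key _ hr
      have := mul_left_cancel₀ hg0 hy
      rw [this]; exact hy'
  -- J' = ⊤
  have hJ'top : J' = ⊤ := by
    by_contra hne
    haveI : Nontrivial (R ⧸ J') := Ideal.Quotient.nontrivial_iff.2 hne
    obtain ⟨P, hP⟩ := associatedPrimes.nonempty R (R ⧸ J')
    -- injection R/J' → R/J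
    let φ : (R ⧸ J') →ₗ[R] (R ⧸ J) :=
      Submodule.mapQ J' J (LinearMap.mulLeft R g) (fun r hr => by
        rw [Submodule.mem_comap]; exact (hJJ' r).1 hr)
    have hφ : Function.Injective φ := by
      rw [← LinearMap.ker_eq_bot, LinearMap.ker_eq_bot']
      intro m hm
      obtain ⟨r, rfl⟩ := Submodule.Quotient.mk_surjective _ m
      rw [Submodule.mapQ_apply, Submodule.Quotient.mk_eq_zero] at hm
      rw [Submodule.Quotient.mk_eq_zero]
      exact (hJJ' r).2 hm
    have hP' : P ∈ associatedPrimes R (R ⧸ J) := associatedPrimes.subset_of_injective hφ hP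
    have hPht := h P hP'
    haveI : P.IsPrime := hP.isPrime
    obtain ⟨p, hpP, hp⟩ := Ideal.IsPrime.exists_mem_prime_of_ne_bot ‹P.IsPrime›
      (Ideal.ne_bot_of_height_eq_one hPht)
    have hPspan : P = Ideal.span {p} := Ideal.eq_span_singleton_of_height_eq_one hPht hpP hp
    have hJ'P : J' ≤ P := by
      refine le_trans ?_ hP.annihilator_le
      intro r hr
      rw [Submodule.mem_annihilator]
      intro m _
      obtain ⟨m, rfl⟩ := Submodule.Quotient.mk_surjective _ m
      rw [← Submodule.Quotient.mk_smul, Submodule.Quotient.mk_eq_zero, smul_eq_mul]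
      exact J'.mul_mem_right m hr
    have hdvd : p ∣ s.gcd g' := by
      apply Finset.dvd_gcd
      intro b hb
      have : g' b ∈ P := hJ'P (Submodule.subset_span ⟨b, hb, rfl⟩)
      rw [hPspan, Ideal.mem_span_singleton] at this
      exact this
    rw [hgcd] at hdvd
    exact hp.not_isUnit (isUnit_of_dvd_one hdvd)
  refine ⟨g, hg0, ?_⟩
  ext r
  rw [Ideal.mem_span_singleton]
  constructor
  · intro hr
    rw [← hs] at hr
    induction hr using Submodule.span_induction with
    | mem x hx => exact Finset.gcd_dvd hx
    | zero => exact dvd_zero _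
    | add x y _ _ hx hy => exact dvd_add hx hy
    | smul a x _ hx => exact Dvd.dvd.mul_left hx a
  · rintro ⟨c, rfl⟩
    exact (hJJ' c).1 (hJ'top ▸ Submodule.mem_top)

/-- Associated primes of a localized quotient have the height of their contraction. -/
theorem height_eq_one_of_mem_associatedPrimes_map {A : Type u} {R : Type v} [CommRing A]
    [IsNoetherianRing A] [CommRing R] [Algebra A R]
    (S : Submonoid A) [IsLocalization S R] (I : Ideal A)
    (h : ∀ 𝔮 ∈ associatedPrimes A (A ⧸ I), 𝔮.height = 1)
    (P : Ideal R) (hP : P ∈ associatedPrimes R (R ⧸ I.map (algebraMap A R))) : P.height = 1 := by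
  have e := Ideal.localized'_eq_map R S I
  have hP' : P ∈ associatedPrimes R (R ⧸ Submodule.localized' R S (Algebra.linearMap A R) I) := by
    rw [e]; exact hP
  have := Module.associatedPrimes.comap_mem_associatedPrimes_of_mem_associatedPrimes_of_isLocalizedModule_of_fg
    S (I.toLocalizedQuotient' R S (Algebra.linearMap A R)) P hP' (IsNoetherian.noetherian _)
  rw [← IsLocalization.height_under S P]
  exact h _ this

end Groth.Agent.Lib.Helper21.EffCartierUFD
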