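import Groth.Agent.Lib.Helper21.EffCartierUFD
import Groth.Agent.Lib.Helper21.EffCartierUFDAlg2

set_option autoImplicit false
universe u
open CategoryTheory CategoryTheory.Limits AlgebraicGeometry TopologicalSpace

namespace Groth.Agent.Lib.Helper21.EffCartierUFD

open Groth.Agent.Lib.Helper21.Chart Submodule

variable {X : Scheme.{u}}

/-- Geometric input: associated primes of `Γ(X,W)/𝓘(W)` have height one under the hypotheses
"no embedded points" and "maximal points of `Z` have codimension one". -/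
theorem height_eq_one_of_mem_associatedPrimes [IsLocallyNoetherian X] (𝓘 : X.IdealSheafData)
    (h1 : ∀ z : ↥𝓘.subscheme,
      IsAssociatedPrime (IsLocalRing.maximalIdeal ↑(𝓘.subscheme.presheaf.stalk z))
        ↑(𝓘.subscheme.presheaf.stalk z) → ∀ z' : ↥𝓘.subscheme, z' ⤳ z → z' = z)
    (h2 : ∀ z : ↥𝓘.subscheme, (∀ z' : ↥𝓘.subscheme, z' ⤳ z → z' = z) →
      ringKrullDim (X.presheaf.stalk (𝓘.subschemeι z)) = 1)
    (W : X.affineOpens) (𝔮 : Ideal Γ(X, W.1))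
    (h𝔮 : 𝔮 ∈ associatedPrimes Γ(X, W.1) (Γ(X, W.1) ⧸ 𝓘.ideal W)) : 𝔮.height = 1 := by
  haveI : IsNoetherianRing Γ(X, W.1) := IsLocallyNoetherian.component_noetherian W
  haveI h𝔮prime : 𝔮.IsPrime := h𝔮.isPrime
  set ι := 𝓘.subschemeι with hι
  -- I ≤ 𝔮
  have hI𝔮 : 𝓘.ideal W ≤ 𝔮 := by
    refine le_trans ?_ (IsAssociatedPrime.annihilator_le h𝔮)
    intro r hr
    rw [Submodule.mem_annihilator]
    intro m _
    obtain ⟨m, rfl⟩ := Submodule.Quotient.mk_surjective _ m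
    rw [← Submodule.Quotient.mk_smul, Submodule.Quotient.mk_eq_zero, smul_eq_mul]
    exact (𝓘.ideal W).mul_mem_right m hr
  -- the point y
  set p : PrimeSpectrum Γ(X, W.1) := ⟨𝔮, h𝔮prime⟩ with hp
  have hyW : W.2.fromSpec p ∈ W.1 := fromSpec_mem W.2 p
  have hpr : W.2.primeIdealOf ⟨W.2.fromSpec p, hyW⟩ = p := primeIdealOf_fromSpec W.2 p
  have hysupp : W.2.fromSpec p ∈ 𝓘.support := by
    rw [Scheme.IdealSheafData.mem_support_iff_of_mem (U := W) hyW, Scheme.mem_zeroLocus_iff]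
    intro f hf hyf
    have := (mem_basicOpen_iff_notMem_primeIdealOf W _ hyW f).1 hyf
    rw [hpr] at this
    exact this (hI𝔮 hf)
  obtain ⟨z, hz⟩ : W.2.fromSpec p ∈ Set.range ι := by rw [hι, 𝓘.range_subschemeι]; exact hysupp
  have hzW : ι z ∈ W.1 := by rw [hz]; exact hyW
  have hprz : W.2.primeIdealOf ⟨ι z, hzW⟩ = p := by
    rw [← hpr]; congr 1; exact Subtype.ext hz
  -- the affine open V of Z and the ring B
  have hV : IsAffineOpen (ι ⁻¹ᵁ W.1) := W.2.preimage ι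
  have hzV : z ∈ ι ⁻¹ᵁ W.1 := hzW
  set φ : Γ(X, W.1) →+* Γ(𝓘.subscheme, ι ⁻¹ᵁ W.1) := (ι.app W.1).hom with hφ
  have hφsurj : Function.Surjective φ := 𝓘.subschemeι_app_surjective W
  have hφker : RingHom.ker φ = 𝓘.ideal W := 𝓘.ker_subschemeι_app W
  haveI : IsNoetherianRing Γ(𝓘.subscheme, ι ⁻¹ᵁ W.1) := isNoetherianRing_of_surjective _ _ φ hφsurj
  set 𝔮B := (hV.primeIdealOf ⟨z, hzV⟩).asIdeal with h𝔮B
  have hcomap : 𝔮B.comap φ = 𝔮 := by
    have := IsAffineOpen.comap_primeIdealOf_appLE (f := ι) W.1 W.2 (ι ⁻¹ᵁ W.1) hV le_rfl hzV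
    have h3 := congrArg PrimeSpectrum.asIdeal this
    rw [hprz, ← Scheme.Hom.app_eq_appLE] at h3
    exact h3
  -- 𝔮B is associated to B
  have hass : 𝔮B ∈ associatedPrimes Γ(𝓘.subscheme, ι ⁻¹ᵁ W.1) Γ(𝓘.subscheme, ι ⁻¹ᵁ W.1) := by
    rw [AssociatedPrimes.mem_iff, isAssociatedPrime_iff] at h𝔮 ⊢
    obtain ⟨-, m, hm⟩ := h𝔮
    obtain ⟨a, rfl⟩ := Submodule.Quotient.mk_surjective _ m
    refine ⟨inferInstance, φ a, ?_⟩
    ext b
    obtain ⟨r, rfl⟩ := hφsurj b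
    rw [mem_colon_singleton, Submodule.mem_bot, smul_eq_mul, ← map_mul, ← RingHom.mem_ker, hφker,
      ← Ideal.mem_comap, hcomap, hm, mem_colon_singleton, Submodule.mem_bot,
      ← Submodule.Quotient.mk_smul, Submodule.Quotient.mk_eq_zero, smul_eq_mul]
  -- localize at z
  letI : Algebra Γ(𝓘.subscheme, ι ⁻¹ᵁ W.1) (𝓘.subscheme.presheaf.stalk z) :=
    TopCat.Presheaf.algebra_section_stalk 𝓘.subscheme.presheaf ⟨z, hzV⟩
  haveI hlocZ : IsLocalization.AtPrime (𝓘.subscheme.presheaf.stalk z) 𝔮B :=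
    hV.isLocalization_stalk ⟨z, hzV⟩
  have hassz : IsAssociatedPrime (IsLocalRing.maximalIdeal ↑(𝓘.subscheme.presheaf.stalk z))
      ↑(𝓘.subscheme.presheaf.stalk z) := by
    apply Module.associatedPrimes.mem_associatedPrimes_of_comap_mem_associatedPrimes_of_isLocalizedModule
      𝔮B.primeCompl (Algebra.linearMap Γ(𝓘.subscheme, ι ⁻¹ᵁ W.1) (𝓘.subscheme.presheaf.stalk z))
    have : (IsLocalRing.maximalIdeal ↑(𝓘.subscheme.presheaf.stalk z)).comap
        (algebraMap Γ(𝓘.subscheme, ι ⁻¹ᵁ W.1) (𝓘.subscheme.presheaf.stalk z)) = 𝔮B :=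
      IsLocalization.AtPrime.under_maximalIdeal _ 𝔮B
    rw [this]
    exact hass
  have hdim := h2 z (h1 z hassz)
  -- height of 𝔮
  letI : Algebra Γ(X, W.1) (X.presheaf.stalk (ι z)) :=
    TopCat.Presheaf.algebra_section_stalk X.presheaf ⟨_, hzW⟩
  haveI : IsLocalization.AtPrime (X.presheaf.stalk (ι z))
      (W.2.primeIdealOf ⟨_, hzW⟩).asIdeal := W.2.isLocalization_stalk ⟨_, hzW⟩
  have := IsLocalization.AtPrime.ringKrullDim_eq_height (W.2.primeIdealOf ⟨_, hzW⟩).asIdeal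
    (X.presheaf.stalk (ι z))
  rw [hdim, hprz] at this
  exact_mod_cast this.symm

/-- S1700: no embedded points + maximal points of codimension one + factorial local rings give an
effective Cartier divisor. -/
theorem isEffCartierIdeal_of_noEmbedded_codim_one_ufd [IsLocallyNoetherian X]
    (𝓘 : X.IdealSheafData)
    (h1 : ∀ z : ↥𝓘.subscheme,
      IsAssociatedPrime (IsLocalRing.maximalIdeal ↑(𝓘.subscheme.presheaf.stalk z))
        ↑(𝓘.subscheme.presheaf.stalk z) → ∀ z' : ↥𝓘.subscheme, z' ⤳ z → z' = z)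
    (h2 : ∀ z : ↥𝓘.subscheme, (∀ z' : ↥𝓘.subscheme, z' ⤳ z → z' = z) →
      ringKrullDim (X.presheaf.stalk (𝓘.subschemeι z)) = 1)
    (h3 : ∀ x : ↥X, x ∈ 𝓘.support →
      IsDomain (X.presheaf.stalk x) ∧ UniqueFactorizationMonoid (X.presheaf.stalk x)) :
    BlowUp.IsEffCartierIdeal 𝓘 := by
  intro x
  by_cases hxs : x ∈ 𝓘.support
  swap
  · exact exists_generator_of_notMem_support 𝓘 x hxs
  obtain ⟨hdom, hufm⟩ := h3 x hxs
  obtain ⟨_, ⟨W, hW : IsAffineOpen W, rfl⟩, hxW, -⟩ :=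
    X.isBasis_affineOpens.exists_subset_of_mem_open (Set.mem_univ x) isOpen_univ
  haveI : IsNoetherianRing Γ(X, W) := IsLocallyNoetherian.component_noetherian ⟨W, hW⟩
  letI : Algebra Γ(X, W) (X.presheaf.stalk x) :=
    TopCat.Presheaf.algebra_section_stalk X.presheaf ⟨x, hxW⟩
  haveI hloc : IsLocalization.AtPrime (X.presheaf.stalk x)
      (hW.primeIdealOf ⟨x, hxW⟩).asIdeal := hW.isLocalization_stalk ⟨x, hxW⟩
  haveI : IsNoetherianRing (X.presheaf.stalk x) :=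
    IsLocalization.isNoetherianRing (hW.primeIdealOf ⟨x, hxW⟩).asIdeal.primeCompl _ inferInstance
  have hle : 𝓘.ideal ⟨W, hW⟩ ≤ (hW.primeIdealOf ⟨x, hxW⟩).asIdeal := by
    intro f hf
    by_contra hcon
    have hxf : x ∈ X.basicOpen f := (mem_basicOpen_iff_notMem_primeIdealOf ⟨W, hW⟩ x hxW f).2 hcon
    rw [Scheme.IdealSheafData.mem_support_iff_of_mem (U := ⟨W, hW⟩) hxW,
      Scheme.mem_zeroLocus_iff] at hxs
    exact hxs f hf hxf
  set J := (𝓘.ideal ⟨W, hW⟩).map (algebraMap Γ(X, W) (X.presheaf.stalk x)) with hJ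
  have hJtop : J ≠ ⊤ := by
    rw [hJ, IsLocalization.map_algebraMap_ne_top_iff_disjoint
      (hW.primeIdealOf ⟨x, hxW⟩).asIdeal.primeCompl, Set.disjoint_left]
    intro a ha1 ha2
    exact ha1 (hle ha2)
  have hht : ∀ P ∈ associatedPrimes (X.presheaf.stalk x) (X.presheaf.stalk x ⧸ J), P.height = 1 :=
    fun P hP => height_eq_one_of_mem_associatedPrimes_map
      (hW.primeIdealOf ⟨x, hxW⟩).asIdeal.primeCompl (𝓘.ideal ⟨W, hW⟩)
      (fun 𝔮 h𝔮 => height_eq_one_of_mem_associatedPrimes 𝓘 h1 h2 ⟨W, hW⟩ 𝔮 h𝔮) P hP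
  obtain ⟨g, hg0, hg⟩ := exists_eq_span_singleton_of_associatedPrimes_height_one J hJtop hht
  exact exists_generator_of_stalk 𝓘 ⟨W, hW⟩ x hxW g (mem_nonZeroDivisors_of_ne_zero hg0) hg

end Groth.Agent.Lib.Helper21.EffCartierUFD
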