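import Mathlib

set_option autoImplicit false
universe u v

namespace Groth.Agent.Lib.Helper21.ExtendCartier

open Submodule

/-- Associated primes of a localized quotient have the height of their contraction
(variant where heights are only controlled for primes disjoint from the submonoid). -/
theorem height_eq_one_of_mem_associatedPrimes_map' {A : Type u} {R : Type v} [CommRing A]
    [IsNoetherianRing A] [CommRing R] [Algebra A R]
    (S : Submonoid A) [IsLocalization S R] (I : Ideal A)
    (h : ∀ 𝔮 ∈ associatedPrimes A (A ⧸ I), Disjoint (S : Set A) (𝔮 : Set A) → 𝔮.height = 1)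
    (P : Ideal R) (hP : P ∈ associatedPrimes R (R ⧸ I.map (algebraMap A R))) : P.height = 1 := by
  have e := Ideal.localized'_eq_map R S I
  have hP' : P ∈ associatedPrimes R (R ⧸ Submodule.localized' R S (Algebra.linearMap A R) I) := by
    rw [e]; exact hP
  have hmem := Module.associatedPrimes.comap_mem_associatedPrimes_of_mem_associatedPrimes_of_isLocalizedModule_of_fg
    S (I.toLocalizedQuotient' R S (Algebra.linearMap A R)) P hP' (IsNoetherian.noetherian _)
  haveI hPp : P.IsPrime := hP.isPrime
  rw [← IsLocalization.height_under S P]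
  exact h _ hmem ((IsLocalization.disjoint_under_iff S R P).2 (Ideal.IsPrime.ne_top hPp))

/-- In a Noetherian UFD, associated primes of a nonzero principal ideal have height one. -/
theorem height_eq_one_of_mem_associatedPrimes_span_singleton {T : Type u} [CommRing T] [IsDomain T]
    [IsNoetherianRing T] [UniqueFactorizationMonoid T] (t : T) (ht : t ≠ 0) (P : Ideal T)
    (hP : P ∈ associatedPrimes T (T ⧸ Ideal.span {t})) : P.height = 1 := by
  classical
  letI := UniqueFactorizationMonoid.toGCDMonoid T
  rw [AssociatedPrimes.mem_iff, isAssociatedPrime_iff] at hP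
  obtain ⟨hprime, m, hm⟩ := hP
  obtain ⟨a, rfl⟩ := Submodule.Quotient.mk_surjective _ m
  have hmem : ∀ r, r ∈ P ↔ t ∣ r * a := by
    intro r
    rw [hm, mem_colon_singleton, Submodule.mem_bot, ← Submodule.Quotient.mk_smul,
      Submodule.Quotient.mk_eq_zero, smul_eq_mul, Ideal.mem_span_singleton]
  obtain ⟨a', t', ha', ht', hu⟩ := extract_gcd a t
  have hd0 : gcd a t ≠ 0 := by
    intro h
    rw [gcd_eq_zero_iff] at h
    exact ht h.2
  have hmem' : ∀ r, r ∈ P ↔ t' ∣ r := by
    intro r
    rw [hmem]
    constructor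
    · intro h
      have h1 : gcd a t * t' ∣ gcd a t * (r * a') := by
        rw [← ht', mul_left_comm, ← ha']; exact h
      have h2 := (mul_dvd_mul_iff_left hd0).1 h1
      have hrel : IsRelPrime t' a' := (gcd_isUnit_iff_isRelPrime.1 hu).symm
      exact hrel.dvd_of_dvd_mul_right h2
    · intro h
      obtain ⟨c, rfl⟩ := h
      refine ⟨c * a', ?_⟩
      conv_lhs => rw [ha']
      conv_rhs => rw [ht']
      ring
  have hPspan : P = Ideal.span {t'} := by
    ext r; rw [hmem', Ideal.mem_span_singleton]
  have ht'0 : t' ≠ 0 := by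
    rintro rfl; rw [mul_zero] at ht'; exact ht ht'
  apply le_antisymm
  · haveI : P.IsPrincipal := ⟨⟨t', hPspan⟩⟩
    exact Ideal.height_le_one_of_isPrincipal_of_mem_minimalPrimes P P
      ⟨⟨hprime, le_rfl⟩, fun q hq hqP => hq.2⟩
  · rw [Order.one_le_iff_ne_zero, Ne, Ideal.height_eq_zero_iff_eq_bot, hPspan,
      Ideal.span_singleton_eq_bot]
    exact ht'0

/-- A localization at a smaller prime of a factorial local ring `A_𝔭` is a factorial domain. -/
theorem ufd_of_atPrime_le {A : Type u} [CommRing A] (𝔭 𝔮 : Ideal A) [𝔭.IsPrime] [h𝔮 : 𝔮.IsPrime]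
    (hle : 𝔮 ≤ 𝔭) (S : Type v) [CommRing S] [Algebra A S] [IsLocalization.AtPrime S 𝔭]
    [IsDomain S] [UniqueFactorizationMonoid S]
    (T : Type v) [CommRing T] [Algebra A T] [IsLocalization.AtPrime T 𝔮] :
    IsDomain T ∧ UniqueFactorizationMonoid T := by
  set P := 𝔮.map (algebraMap A S) with hPdef
  have hdisj : Disjoint (𝔭.primeCompl : Set A) (𝔮 : Set A) := by
    rw [Set.disjoint_left]
    intro a ha1 ha2
    exact ha1 (hle ha2)
  haveI hPprime : P.IsPrime :=
    IsLocalization.isPrime_of_isPrime_disjoint 𝔭.primeCompl _ _ h𝔮 hdisj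
  have hcomap : P.comap (algebraMap A S) = 𝔮 :=
    IsLocalization.under_map_of_isPrime_disjoint 𝔭.primeCompl S h𝔮 hdisj
  haveI h1 : IsLocalization.AtPrime (Localization.AtPrime P) (P.comap (algebraMap A S)) :=
    IsLocalization.isLocalization_isLocalization_atPrime_isLocalization 𝔭.primeCompl _ P
  haveI h2 : IsLocalization 𝔮.primeCompl (Localization.AtPrime P) := by
    have : (P.comap (algebraMap A S)).primeCompl = 𝔮.primeCompl := by
      ext a; simp only [Ideal.primeCompl, hcomap]
    rw [← this]; exact h1
  let e : T ≃ₐ[A] Localization.AtPrime P := IsLocalization.algEquiv 𝔮.primeCompl T _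
  exact ⟨e.toMulEquiv.isDomain _, e.symm.toMulEquiv.uniqueFactorizationMonoid inferInstance⟩

end Groth.Agent.Lib.Helper21.ExtendCartier
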