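import Groth.Agent.Lib.Helper21.Factorial

set_option autoImplicit false
universe u v

namespace Groth.Agent.Lib.Helper21.EffCartierUFD

open Groth.Agent.Lib.Helper21.Factorial

/-- Spreading out a principal nonzerodivisor generator from a localization at a prime to a basic
open neighbourhood. -/
theorem exists_away_principal {A : Type u} {R : Type v} [CommRing A] [IsNoetherianRing A]
    [CommRing R] [Algebra A R]
    (𝔭 : Ideal A) [𝔭.IsPrime] [IsLocalization.AtPrime R 𝔭] (I : Ideal A) (g : R)
    (hg : g ∈ nonZeroDivisors R) (hI : I.map (algebraMap A R) = Ideal.span {g}) :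
    ∃ s ∉ 𝔭, ∃ a ∈ I, ∀ (B : Type u) [CommRing B] [Algebra A B] [IsLocalization.Away s B],
      I.map (algebraMap A B) = Ideal.span {algebraMap A B a} ∧
        algebraMap A B a ∈ nonZeroDivisors B := by
  classical
  have hgI : g ∈ I.map (algebraMap A R) := by rw [hI]; exact Ideal.mem_span_singleton_self g
  obtain ⟨⟨⟨a, haI⟩, ⟨s₀, hs₀⟩⟩, has⟩ :=
    (IsLocalization.mem_map_algebraMap_iff 𝔭.primeCompl R).1 hgI
  simp only at has
  have hs₀u : IsUnit (algebraMap A R s₀) := IsLocalization.map_units R ⟨s₀, hs₀⟩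
  -- `a/1` generates and is a nonzerodivisor
  have hI' : I.map (algebraMap A R) = Ideal.span {algebraMap A R a} := by
    rw [hI, ← has]
    exact (Ideal.span_singleton_mul_right_unit hs₀u g).symm
  have ha_nzd : algebraMap A R a ∈ nonZeroDivisors R := by
    rw [← has]
    exact mul_mem hg hs₀u.mem_nonZeroDivisors
  -- step 2
  obtain ⟨s₁, hs₁, h1⟩ := exists_mul_mem_of_map_le 𝔭.primeCompl I (Ideal.span {a})
    (IsNoetherian.noetherian I) (by rw [hI', Ideal.map_span, Set.image_singleton])
  -- step 3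
  set N : Ideal A := Ideal.span {a} |>.annihilator with hN
  have hNmem : ∀ z ∈ N, z * a = 0 := by
    intro z hz
    rw [hN, Ideal.span, Submodule.mem_annihilator_span_singleton] at hz  -- z • a = 0
    simpa using hz
  obtain ⟨s₂, hs₂, h2⟩ := exists_mul_mem_of_map_le (S := R) 𝔭.primeCompl N ⊥
    (IsNoetherian.noetherian N) (by
      rw [Ideal.map_bot, Ideal.map_le_iff_le_comap]
      intro z hz
      rw [Ideal.mem_comap, Ideal.mem_bot]
      have := hNmem z hz
      have h3 : algebraMap A R z * algebraMap A R a = 0 := by rw [← map_mul, this, map_zero]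
      exact (mem_nonZeroDivisors_iff_right.1 ha_nzd) _ h3)
  refine ⟨s₁ * s₂, ?_, a, haI, ?_⟩
  · exact (Submonoid.mul_mem 𝔭.primeCompl hs₁ hs₂)
  intro B _ _ _
  have hsu : IsUnit (algebraMap A B (s₁ * s₂)) := IsLocalization.Away.algebraMap_isUnit _
  have hs₁u : IsUnit (algebraMap A B s₁) := by
    rw [map_mul] at hsu; exact isUnit_of_mul_isUnit_left hsu
  have hs₂u : IsUnit (algebraMap A B s₂) := by
    rw [map_mul] at hsu; exact isUnit_of_mul_isUnit_right hsu
  constructor
  · apply le_antisymm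
    · rw [Ideal.map_le_iff_le_comap]
      intro b hb
      rw [Ideal.mem_comap]
      have := h1 b hb
      rw [Ideal.mem_span_singleton'] at this
      obtain ⟨c, hc⟩ := this
      rw [Ideal.mem_span_singleton']
      refine ⟨↑(hs₁u.unit⁻¹) * algebraMap A B c, ?_⟩
      rw [mul_assoc, ← map_mul, hc, map_mul, ← mul_assoc, IsUnit.val_inv_mul, one_mul]
    · rw [Ideal.span_singleton_le_iff_mem]
      exact Ideal.mem_map_of_mem _ haI
  · rw [mem_nonZeroDivisors_iff_right]
    intro y hy
    obtain ⟨⟨x, ⟨_, ⟨m, rfl⟩⟩⟩, hx⟩ := IsLocalization.surj (Submonoid.powers (s₁ * s₂)) y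
    simp only at hx
    have hsm : IsUnit (algebraMap A B ((s₁ * s₂) ^ m)) := by rw [map_pow]; exact hsu.pow m
    -- x/1 * a/1 = 0
    have h3 : algebraMap A B (x * a) = 0 := by
      rw [map_mul, ← hx, mul_right_comm, hy, zero_mul]
    obtain ⟨⟨_, ⟨m', rfl⟩⟩, hm'⟩ :=
      (IsLocalization.map_eq_zero_iff (Submonoid.powers (s₁ * s₂)) B _).1 h3
    simp only at hm'
    have h4 : (s₁ * s₂) ^ m' * x ∈ N := by
      rw [hN, Ideal.span, Submodule.mem_annihilator_span_singleton]
      rw [smul_eq_mul, mul_assoc]; exact hm'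
    have h5 := h2 _ h4
    rw [Ideal.mem_bot] at h5
    have h6 : algebraMap A B s₂ * algebraMap A B ((s₁ * s₂) ^ m') * algebraMap A B x = 0 := by
      rw [← map_mul, ← map_mul, ← mul_assoc] at *
      rw [h5, map_zero]
    have hu2 : IsUnit (algebraMap A B s₂ * algebraMap A B ((s₁ * s₂) ^ m')) := by
      rw [map_pow]; exact hs₂u.mul (hsu.pow m')
    have h7 : algebraMap A B x = 0 := by
      have := hu2.mul_right_eq_zero.1 h6
      exact this
    have h8 : y * algebraMap A B ((s₁ * s₂) ^ m) = 0 := by rw [hx, h7]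
    exact hsm.mul_left_eq_zero.1 h8

end Groth.Agent.Lib.Helper21.EffCartierUFD
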