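import Groth.Prelude.Def_BlowUp2
import Mathlib.AlgebraicGeometry.IdealSheaf.Subscheme
import Mathlib.AlgebraicGeometry.Noetherian
import Mathlib.RingTheory.KrullDimension.Basic
import Mathlib.RingTheory.UniqueFactorizationDomain.Basic
import Mathlib.RingTheory.Ideal.Height
import Groth.Agent.Lib.Helper21.EffCartierUFDAlg

set_option autoImplicit false
universe u
open CategoryTheory CategoryTheory.Limits AlgebraicGeometry TopologicalSpace

namespace Groth.Agent.Lib.Helper21.EffCartierUFD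

variable {X : Scheme.{u}}

lemma mem_basicOpen_iff_notMem_primeIdealOf (V : X.affineOpens) (x : X) (hxV : x ∈ V.1)
    (a : Γ(X, V.1)) :
    x ∈ X.basicOpen a ↔ a ∉ (V.2.primeIdealOf ⟨x, hxV⟩).asIdeal := by
  have hpx : V.2.fromSpec (V.2.primeIdealOf ⟨x, hxV⟩) = x := V.2.fromSpec_primeIdealOf ⟨x, hxV⟩
  have h2 : V.2.primeIdealOf ⟨x, hxV⟩ ∈ V.2.fromSpec ⁻¹ᵁ X.basicOpen a ↔
      a ∉ (V.2.primeIdealOf ⟨x, hxV⟩).asIdeal := by
    rw [V.2.fromSpec_preimage_basicOpen]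
    rfl
  rw [← h2]
  conv_lhs => rw [← hpx]
  rfl

/-- Outside the support, the ideal sheaf is trivially generated by `1` near the point. -/
theorem exists_generator_of_notMem_support (𝓘 : X.IdealSheafData) (x : X) (hx : x ∉ 𝓘.support) :
    ∃ U : X.affineOpens, x ∈ U.1 ∧
      ∃ f : Γ(X, U.1), f ∈ nonZeroDivisors Γ(X, U.1) ∧ 𝓘.ideal U = Ideal.span {f} := by
  obtain ⟨_, ⟨W, hW : IsAffineOpen W, rfl⟩, hxW, -⟩ :=
    X.isBasis_affineOpens.exists_subset_of_mem_open (Set.mem_univ x) isOpen_univ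
  rw [Scheme.IdealSheafData.mem_support_iff_of_mem (U := ⟨W, hW⟩) hxW,
    Scheme.mem_zeroLocus_iff] at hx
  push Not at hx
  obtain ⟨f, hf, hxf⟩ := hx
  refine ⟨X.affineBasicOpen (U := ⟨W, hW⟩) f, hxf, 1, one_mem _, ?_⟩
  rw [← 𝓘.map_ideal_basicOpen ⟨W, hW⟩ f, Ideal.span_singleton_one]
  have hu : IsUnit ((X.presheaf.map (homOfLE (X.basicOpen_le f)).op).hom f) :=
    RingedSpace.isUnit_res_basicOpen _ f
  exact Ideal.eq_top_of_isUnit_mem _ (Ideal.mem_map_of_mem _ hf) hu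

/-- Spreading out: if the stalk of the ideal sheaf at `x` is generated by one nonzerodivisor, then
so is the ideal on some affine open neighbourhood of `x`. -/
theorem exists_generator_of_stalk [IsLocallyNoetherian X] (𝓘 : X.IdealSheafData)
    (W : X.affineOpens) (x : X) (hx : x ∈ W.1) (g : X.presheaf.stalk x)
    (hg : g ∈ nonZeroDivisors (X.presheaf.stalk x))
    (hI : (𝓘.ideal W).map (X.presheaf.germ W.1 x hx).hom = Ideal.span {g}) :
    ∃ U : X.affineOpens, x ∈ U.1 ∧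
      ∃ f : Γ(X, U.1), f ∈ nonZeroDivisors Γ(X, U.1) ∧ 𝓘.ideal U = Ideal.span {f} := by
  letI : Algebra Γ(X, W.1) (X.presheaf.stalk x) :=
    TopCat.Presheaf.algebra_section_stalk X.presheaf ⟨x, hx⟩
  haveI hloc : IsLocalization.AtPrime (X.presheaf.stalk x)
      (W.2.primeIdealOf ⟨x, hx⟩).asIdeal := W.2.isLocalization_stalk ⟨x, hx⟩
  haveI : IsNoetherianRing Γ(X, W.1) := IsLocallyNoetherian.component_noetherian W
  obtain ⟨s, hs, a, haI, H⟩ := exists_away_principal (W.2.primeIdealOf ⟨x, hx⟩).asIdeal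
    (𝓘.ideal W) g hg hI
  letI : Algebra Γ(X, W.1) Γ(X, X.basicOpen s) :=
    (X.presheaf.map (homOfLE (X.basicOpen_le s)).op).hom.toAlgebra
  haveI : IsLocalization.Away s Γ(X, X.basicOpen s) := W.2.isLocalization_basicOpen s
  obtain ⟨h1, h2⟩ := H Γ(X, X.basicOpen s)
  refine ⟨X.affineBasicOpen s, (mem_basicOpen_iff_notMem_primeIdealOf W x hx s).2 hs,
    algebraMap Γ(X, W.1) Γ(X, X.basicOpen s) a, h2, ?_⟩
  rw [← 𝓘.map_ideal_basicOpen W s]
  exact h1

/-- For an integral closed subscheme, the ideal on an affine open containing the image `y` of the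
generic point is the prime ideal of `y`. -/
theorem ideal_eq_primeIdealOf_genericPoint (𝓘 : X.IdealSheafData) [IsIntegral 𝓘.subscheme]
    (W : X.affineOpens) (hy : 𝓘.subschemeι (genericPoint ↥𝓘.subscheme) ∈ W.1) :
    𝓘.ideal W = (W.2.primeIdealOf ⟨𝓘.subschemeι (genericPoint ↥𝓘.subscheme), hy⟩).asIdeal := by
  set ι := 𝓘.subschemeι with hι
  set ξ := genericPoint ↥𝓘.subscheme with hξ
  ext a
  rw [← not_iff_not, ← mem_basicOpen_iff_notMem_primeIdealOf W _ hy a]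
  rw [← 𝓘.ker_subschemeι_app W, RingHom.mem_ker]
  have h1 : (ι.app W.1).hom a = 0 ↔ 𝓘.subscheme.basicOpen ((ι.app W.1).hom a) = ⊥ :=
    (basicOpen_eq_bot_iff _).symm
  rw [h1]
  have h2 : ι ξ ∈ X.basicOpen a ↔ ξ ∈ 𝓘.subscheme.basicOpen ((ι.app W.1).hom a) := by
    rw [← Scheme.preimage_basicOpen]
    rfl
  rw [h2]
  have hgen : IsGenericPoint ξ (⊤ : Set ↥𝓘.subscheme) := genericPoint_spec _
  constructor
  · intro h
    obtain ⟨z, hz⟩ := (Opens.ne_bot_iff_nonempty _).1 h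
    exact (hgen.mem_open_set_iff (𝓘.subscheme.basicOpen ((ι.app W.1).hom a)).2).2
      ⟨z, trivial, hz⟩
  · intro h hbot
    rw [hbot] at h
    exact h

/-- S1684: an integral closed subscheme of codimension one whose points have factorial local rings
in `X` is an effective Cartier divisor. -/
theorem isEffCartierIdeal_of_integral_codim_one_ufd [IsLocallyNoetherian X]
    (𝓘 : X.IdealSheafData) [IsIntegral 𝓘.subscheme]
    (hcodim : ringKrullDim (X.presheaf.stalk (𝓘.subschemeι (genericPoint ↥𝓘.subscheme))) = 1)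
    (hufd : ∀ x : ↥X, x ∈ 𝓘.support →
      IsDomain (X.presheaf.stalk x) ∧ UniqueFactorizationMonoid (X.presheaf.stalk x)) :
    BlowUp.IsEffCartierIdeal 𝓘 := by
  intro x
  by_cases hxs : x ∈ 𝓘.support
  swap
  · exact exists_generator_of_notMem_support 𝓘 x hxs
  obtain ⟨hdom, hufm⟩ := hufd x hxs
  obtain ⟨d, rfl⟩ : x ∈ Set.range 𝓘.subschemeι := by rw [𝓘.range_subschemeι]; exact hxs
  set ξ := genericPoint ↥𝓘.subscheme with hξ
  have hspec : 𝓘.subschemeι ξ ⤳ 𝓘.subschemeι d :=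
    (genericPoint_specializes d).map 𝓘.subschemeι.continuous
  obtain ⟨_, ⟨W, hW : IsAffineOpen W, rfl⟩, hxW, -⟩ :=
    X.isBasis_affineOpens.exists_subset_of_mem_open (Set.mem_univ (𝓘.subschemeι d)) isOpen_univ
  have hyW : 𝓘.subschemeι ξ ∈ W := hspec.mem_open W.2 hxW
  have hI := ideal_eq_primeIdealOf_genericPoint 𝓘 ⟨W, hW⟩ hyW
  -- height of I
  have hht : (𝓘.ideal ⟨W, hW⟩).height = 1 := by
    letI : Algebra Γ(X, W) (X.presheaf.stalk (𝓘.subschemeι ξ)) :=
      TopCat.Presheaf.algebra_section_stalk X.presheaf ⟨_, hyW⟩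
    haveI : IsLocalization.AtPrime (X.presheaf.stalk (𝓘.subschemeι ξ))
        (hW.primeIdealOf ⟨_, hyW⟩).asIdeal := hW.isLocalization_stalk ⟨_, hyW⟩
    have := IsLocalization.AtPrime.ringKrullDim_eq_height (hW.primeIdealOf ⟨_, hyW⟩).asIdeal
      (X.presheaf.stalk (𝓘.subschemeι ξ))
    rw [hcodim, ← hI] at this
    exact_mod_cast this.symm
  haveI hprime : (𝓘.ideal ⟨W, hW⟩).IsPrime := by rw [hI]; infer_instance
  -- I ≤ 𝔭
  have hle : 𝓘.ideal ⟨W, hW⟩ ≤ (hW.primeIdealOf ⟨_, hxW⟩).asIdeal := by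
    intro a ha
    by_contra hcon
    have hxa : 𝓘.subschemeι d ∈ X.basicOpen a :=
      (mem_basicOpen_iff_notMem_primeIdealOf ⟨W, hW⟩ _ hxW a).2 hcon
    have hya : 𝓘.subschemeι ξ ∈ X.basicOpen a := hspec.mem_open (X.basicOpen a).2 hxa
    rw [hI] at ha
    exact (mem_basicOpen_iff_notMem_primeIdealOf ⟨W, hW⟩ _ hyW a).1 hya ha
  letI : Algebra Γ(X, W) (X.presheaf.stalk (𝓘.subschemeι d)) :=
    TopCat.Presheaf.algebra_section_stalk X.presheaf ⟨_, hxW⟩
  haveI hloc : IsLocalization.AtPrime (X.presheaf.stalk (𝓘.subschemeι d))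
      (hW.primeIdealOf ⟨_, hxW⟩).asIdeal := hW.isLocalization_stalk ⟨_, hxW⟩
  have hdisj : Disjoint ((hW.primeIdealOf ⟨_, hxW⟩).asIdeal.primeCompl : Set Γ(X, W))
      (𝓘.ideal ⟨W, hW⟩ : Set Γ(X, W)) := by
    rw [Set.disjoint_left]
    intro a ha1 ha2
    exact ha1 (hle ha2)
  set P := (𝓘.ideal ⟨W, hW⟩).map (algebraMap Γ(X, W) (X.presheaf.stalk (𝓘.subschemeι d))) with hP
  haveI hPprime : P.IsPrime :=
    IsLocalization.isPrime_of_isPrime_disjoint (hW.primeIdealOf ⟨_, hxW⟩).asIdeal.primeCompl _ _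
      hprime hdisj
  have hPht : P.height = 1 := by
    rw [hP, IsLocalization.height_map_of_disjoint (hW.primeIdealOf ⟨_, hxW⟩).asIdeal.primeCompl _
      hdisj, hht]
  have hPne : P ≠ ⊥ := Ideal.ne_bot_of_height_eq_one hPht
  obtain ⟨p, hpP, hp⟩ := Ideal.IsPrime.exists_mem_prime_of_ne_bot hPprime hPne
  have hPspan : P = Ideal.span {p} := Ideal.eq_span_singleton_of_height_eq_one hPht hpP hp
  exact exists_generator_of_stalk 𝓘 ⟨W, hW⟩ _ hxW p (mem_nonZeroDivisors_of_ne_zero hp.ne_zero)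
    hPspan

end Groth.Agent.Lib.Helper21.EffCartierUFD
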