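import Mathlib

set_option autoImplicit false
universe u v

namespace Groth.Agent.Lib.Helper21.LocFactorial

/-- A Noetherian local ring with a prime ideal generated by a nonzerodivisor is a domain. -/
theorem isDomain_of_isPrime_span_singleton {R : Type u} [CommRing R] [IsNoetherianRing R]
    [IsLocalRing R] (t : R) (ht : t ∈ nonZeroDivisors R) (hp : (Ideal.span {t}).IsPrime) :
    IsDomain R := by
  have hne : Ideal.span {t} ≠ ⊤ := hp.ne_top
  have hinf : ⨅ i : ℕ, Ideal.span {t} ^ i = ⊥ := Ideal.iInf_pow_eq_bot_of_isLocalRing _ hne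
  -- every nonzero element is t^n * a' with a' ∉ (t)
  have key : ∀ a : R, a ≠ 0 → ∃ (n : ℕ) (a' : R), a = t ^ n * a' ∧ a' ∉ Ideal.span {t} := by
    intro a ha
    have : ∃ n : ℕ, a ∉ Ideal.span {t} ^ n := by
      by_contra hcon
      push Not at hcon
      apply ha
      have : a ∈ ⨅ i : ℕ, Ideal.span {t} ^ i := by
        rw [Ideal.mem_iInf]; exact hcon
      rwa [hinf, Ideal.mem_bot] at this
    classical
    let n := Nat.find this
    have hn : a ∉ Ideal.span {t} ^ n := Nat.find_spec this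
    have hn0 : n ≠ 0 := by
      intro h0
      rw [h0, pow_zero, Ideal.one_eq_top] at hn
      exact hn Submodule.mem_top
    obtain ⟨m, hm⟩ := Nat.exists_eq_succ_of_ne_zero hn0
    have hm' : a ∈ Ideal.span {t} ^ m := by
      by_contra hcon
      have := Nat.find_min' this hcon
      omega
    rw [Ideal.span_singleton_pow, Ideal.mem_span_singleton] at hm'
    obtain ⟨a', rfl⟩ := hm'
    refine ⟨m, a', rfl, ?_⟩
    intro ha'
    apply hn
    rw [hm, Ideal.span_singleton_pow, Ideal.mem_span_singleton]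
    rw [Ideal.mem_span_singleton] at ha'
    obtain ⟨c, rfl⟩ := ha'
    exact ⟨c, by rw [pow_succ]; ring⟩
  haveI : Nontrivial R := inferInstance
  haveI : NoZeroDivisors R := by
    constructor
    intro a b hab
    by_contra hcon
    push Not at hcon
    obtain ⟨n, a', rfl, ha'⟩ := key a hcon.1
    obtain ⟨m, b', rfl, hb'⟩ := key b hcon.2
    have h1 : t ^ (n + m) * (a' * b') = 0 := by rw [← hab]; ring
    have h2 : a' * b' = 0 := by
      have hnzd : t ^ (n + m) ∈ nonZeroDivisors R := pow_mem ht _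
      rw [mul_comm] at h1
      exact (mem_nonZeroDivisors_iff_right.1 hnzd) _ h1
    have h3 : a' * b' ∈ Ideal.span {t} := by rw [h2]; exact Ideal.zero_mem _
    rcases hp.mem_or_mem h3 with h | h
    · exact ha' h
    · exact hb' h
  exact NoZeroDivisors.to_isDomain R

/-- In a Noetherian ring a prime that is both minimal and maximal is an open point of the
spectrum. -/
theorem isOpen_singleton_of_minimal_of_maximal {A : Type u} [CommRing A] [IsNoetherianRing A]
    (p : PrimeSpectrum A) (hmin : p.asIdeal ∈ minimalPrimes A) (hmax : p.asIdeal.IsMaximal) :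
    IsOpen ({p} : Set (PrimeSpectrum A)) := by
  classical
  have hfin : (minimalPrimes A).Finite := minimalPrimes.finite_of_isNoetherianRing A
  have : ({p} : Set (PrimeSpectrum A))ᶜ =
      ⋃ 𝔮 ∈ (minimalPrimes A \ {p.asIdeal}), PrimeSpectrum.zeroLocus (𝔮 : Set A) := by
    ext r
    simp only [Set.mem_compl_iff, Set.mem_singleton_iff, Set.mem_iUnion, Set.mem_sdiff,
      PrimeSpectrum.mem_zeroLocus, SetLike.coe_subset_coe, exists_prop]
    constructor
    · intro hr
      obtain ⟨𝔮, h𝔮, hle⟩ := Ideal.exists_minimalPrimes_le (I := ⊥) (J := r.asIdeal) bot_le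
      refine ⟨𝔮, ⟨h𝔮, ?_⟩, hle⟩
      intro h𝔮p
      apply hr
      ext1
      rw [h𝔮p] at hle
      exact (hmax.eq_of_le r.isPrime.ne_top hle).symm
    · rintro ⟨𝔮, ⟨h𝔮, h𝔮p⟩, hle⟩ hrp
      apply h𝔮p
      rw [hrp] at hle
      exact (hmin.2 ⟨h𝔮.1.1, bot_le⟩ hle).antisymm hle |>.symm
  rw [← isClosed_compl_iff, this]
  exact (hfin.subset Set.sdiff_subset).isClosed_biUnion
    (fun 𝔮 _ => PrimeSpectrum.isClosed_zeroLocus _)

/-- Below a prime of positive height there is a prime of height one. -/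
theorem exists_le_height_eq_one {A : Type u} [CommRing A] [IsNoetherianRing A]
    (𝔪 : Ideal A) [𝔪.IsPrime] (h : 𝔪.height ≠ 0) :
    ∃ 𝔮 : Ideal A, 𝔮.IsPrime ∧ 𝔮 ≤ 𝔪 ∧ 𝔮.height = 1 := by
  by_cases h1 : 𝔪.height = 1
  · exact ⟨𝔪, inferInstance, le_rfl, h1⟩
  have hlt : (1 : ℕ∞) < 𝔪.height := by
    rcases lt_trichotomy 𝔪.height 1 with h2 | h2 | h2
    · exact absurd (Order.lt_one_iff.1 h2) h
    · exact absurd h2 h1
    · exact h2
  let P : PrimeSpectrum A := ⟨𝔪, inferInstance⟩
  have hP : P.asIdeal.height = Order.height P := PrimeSpectrum.height_eq_orderHeight P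
  have hfin : Order.height P < ⊤ := by
    rw [← hP]; exact Ideal.height_lt_top_of_isPrime
  have hlt' : ((1 : ℕ) : ℕ∞) < Order.height P := by rw [← hP]; exact_mod_cast hlt
  obtain ⟨Q, hQP, hQ⟩ := (Order.coe_lt_height_iff hfin).1 hlt'
  refine ⟨Q.asIdeal, Q.isPrime, hQP.le, ?_⟩
  rw [PrimeSpectrum.height_eq_orderHeight, hQ]
  rfl

end Groth.Agent.Lib.Helper21.LocFactorial
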