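import Mathlib.AlgebraicGeometry.Noetherian
import Mathlib.RingTheory.KrullDimension.Basic
import Mathlib.RingTheory.UniqueFactorizationDomain.Basic
import Mathlib.AlgebraicGeometry.Stalk
import Mathlib.RingTheory.HopkinsLevitzki
import Groth.Agent.Lib.Helper21.LocFactorialAlg
import Groth.Agent.Lib.Helper21.EffCartierUFD

set_option autoImplicit false
universe u
open CategoryTheory CategoryTheory.Limits AlgebraicGeometry TopologicalSpace

namespace Groth.Agent.Lib.Helper21.LocFactorial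

open Groth.Agent.Lib.Helper21.Chart Groth.Agent.Lib.Helper21.Factorial
  Groth.Agent.Lib.Helper21.EffCartierUFD

variable {X : Scheme.{u}}

/-- The regular-immersion condition (a'') of S5090. -/
def CondA (X : Scheme.{u}) : Prop :=
  ∀ ζ : ↥X, ringKrullDim ↑(X.presheaf.stalk ζ) = 1 → ∀ (x : ↥X) (h : ζ ⤳ x),
    ∃ t : ↑(X.presheaf.stalk x), t ∈ nonZeroDivisors ↑(X.presheaf.stalk x) ∧
      (IsLocalRing.maximalIdeal ↑(X.presheaf.stalk ζ)).comap (X.presheaf.stalkSpecializes h).hom =
        Ideal.span {t}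

section

variable {W : X.Opens} (hW : IsAffineOpen W)

include hW in
lemma ringKrullDim_stalk (y : X) (hy : y ∈ W) :
    ringKrullDim (X.presheaf.stalk y) = (pr hW y hy).height := by
  letI := TopCat.Presheaf.algebra_section_stalk X.presheaf (U := W) ⟨y, hy⟩
  haveI := hW.isLocalization_stalk ⟨y, hy⟩
  exact IsLocalization.AtPrime.ringKrullDim_eq_height (pr hW y hy) (X.presheaf.stalk y)

include hW in
lemma pr_le_of_specializes {y z : X} (hz : z ∈ W) (h : y ⤳ z) :
    pr hW y (h.mem_open W.2 hz) ≤ pr hW z hz := by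
  intro r hr
  by_contra hcon
  have hzr : z ∈ X.basicOpen r := (mem_basicOpen_iff_notMem_primeIdealOf ⟨W, hW⟩ z hz r).2 hcon
  have hyr : y ∈ X.basicOpen r := h.mem_open (X.basicOpen r).2 hzr
  exact (mem_basicOpen_iff_notMem_primeIdealOf ⟨W, hW⟩ y _ r).1 hyr hr

include hW in
/-- Under (a''), height-one primes become principal, generated by a nonzerodivisor, in every
localization at a larger prime. -/
lemma exists_map_eq_span (hA : CondA X) (x' : X) (hx' : x' ∈ W) (𝔮 : Ideal Γ(X, W)) [𝔮.IsPrime]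
    (hle : 𝔮 ≤ pr hW x' hx') (hht : 𝔮.height = 1) :
    ∃ t : X.presheaf.stalk x', t ∈ nonZeroDivisors (X.presheaf.stalk x') ∧
      𝔮.map (X.presheaf.germ W x' hx').hom = Ideal.span {t} := by
  set p : PrimeSpectrum Γ(X, W) := ⟨𝔮, inferInstance⟩ with hp
  have hζW : hW.fromSpec p ∈ W := fromSpec_mem hW p
  have hpr : pr hW (hW.fromSpec p) hζW = 𝔮 :=
    congrArg PrimeSpectrum.asIdeal (primeIdealOf_fromSpec hW p)
  have hspec : hW.fromSpec p ⤳ x' := specializes_of_pr_le hW hζW hx' (hpr ▸ hle)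
  have hdim : ringKrullDim (X.presheaf.stalk (hW.fromSpec p)) = 1 := by
    rw [ringKrullDim_stalk hW _ hζW, hpr, hht]; rfl
  obtain ⟨t, ht, hI⟩ := hA _ hdim x' hspec
  refine ⟨t, ht, ?_⟩
  have := pI_eq_map hW hx' hspec
  unfold pI at this
  rw [← hI, this]
  congr 1
  exact hpr.symm

include hW in
/-- Stalk at a point whose prime in `Γ(X,W)` is maximal: a domain under (a'') and reducedness at
isolated points. -/
lemma isDomain_stalk_of_isMaximal [IsLocallyNoetherian X] (hA : CondA X)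
    (hred : ∀ x : ↥X, IsOpen ({x} : Set ↥X) → IsReduced ↑(X.presheaf.stalk x))
    (x' : X) (hx' : x' ∈ W) (hmax : (pr hW x' hx').IsMaximal) :
    IsDomain (X.presheaf.stalk x') := by
  haveI : IsNoetherianRing Γ(X, W) := IsLocallyNoetherian.component_noetherian ⟨W, hW⟩
  letI := TopCat.Presheaf.algebra_section_stalk X.presheaf (U := W) ⟨x', hx'⟩
  haveI hloc : IsLocalization.AtPrime (X.presheaf.stalk x') (pr hW x' hx') :=
    hW.isLocalization_stalk ⟨x', hx'⟩
  haveI : IsNoetherianRing (X.presheaf.stalk x') :=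
    IsLocalization.isNoetherianRing (pr hW x' hx').primeCompl _ inferInstance
  by_cases h0 : (pr hW x' hx').height = 0
  · -- isolated point
    have hmin : (pr hW x' hx') ∈ minimalPrimes Γ(X, W) := Ideal.height_eq_zero_iff.1 h0
    have hopen := isOpen_singleton_of_minimal_of_maximal (hW.primeIdealOf ⟨x', hx'⟩) hmin hmax
    have hopenX : IsOpen ({x'} : Set X) := by
      have hopen' : IsOpen ({q | q = hW.primeIdealOf ⟨x', hx'⟩} : Set ↥(Spec Γ(X, W))) := by
        rw [Set.ofPred_eq_eq_singleton]; exact hopen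
      have := hW.fromSpec.isOpenEmbedding.isOpenMap _ hopen'
      have h2 : ({x'} : Set X) = hW.fromSpec '' {q | q = hW.primeIdealOf ⟨x', hx'⟩} := by
        ext z
        constructor
        · rintro rfl
          exact ⟨_, rfl, hW.fromSpec_primeIdealOf ⟨z, hx'⟩⟩
        · rintro ⟨q, rfl, rfl⟩
          exact hW.fromSpec_primeIdealOf ⟨x', hx'⟩
      rw [h2]; exact this
    haveI := hred x' hopenX
    have hdim : ringKrullDim (X.presheaf.stalk x') = 0 := by
      rw [ringKrullDim_stalk hW x' hx', h0]; rfl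
    haveI : Ring.KrullDimLE 0 (X.presheaf.stalk x') := by
      rw [Ring.krullDimLE_iff, hdim]; rfl
    haveI : IsArtinianRing (X.presheaf.stalk x') := isArtinianRing_iff_krullDimLE_zero.2 inferInstance
    have hfield : IsField (X.presheaf.stalk x') :=
      IsArtinianRing.isField_of_isReduced_of_isLocalRing _
    exact hfield.isDomain
  · obtain ⟨𝔮, h𝔮p, h𝔮le, h𝔮ht⟩ := exists_le_height_eq_one (pr hW x' hx') h0
    obtain ⟨t, ht, hI⟩ := exists_map_eq_span hW hA x' hx' 𝔮 h𝔮le h𝔮ht
    have hdisj : Disjoint ((pr hW x' hx').primeCompl : Set Γ(X, W)) (𝔮 : Set Γ(X, W)) := by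
      rw [Set.disjoint_left]
      intro a ha1 ha2
      exact ha1 (h𝔮le ha2)
    have hprime : (Ideal.span {t}).IsPrime := by
      rw [← hI]
      exact IsLocalization.isPrime_of_isPrime_disjoint (pr hW x' hx').primeCompl _ _ h𝔮p hdisj
    exact isDomain_of_isPrime_span_singleton t ht hprime

/-- All stalks are domains. -/
lemma isDomain_stalk [IsLocallyNoetherian X] (hA : CondA X)
    (hred : ∀ x : ↥X, IsOpen ({x} : Set ↥X) → IsReduced ↑(X.presheaf.stalk x)) (x : X) :
    IsDomain (X.presheaf.stalk x) := by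
  obtain ⟨_, ⟨W, hW : IsAffineOpen W, rfl⟩, hxW, -⟩ :=
    X.isBasis_affineOpens.exists_subset_of_mem_open (Set.mem_univ x) isOpen_univ
  obtain ⟨𝔪, h𝔪max, h𝔪le⟩ := Ideal.exists_le_maximal (pr hW x hxW)
    (hW.primeIdealOf ⟨x, hxW⟩).isPrime.ne_top
  set p : PrimeSpectrum Γ(X, W) := ⟨𝔪, h𝔪max.isPrime⟩ with hp
  have hx'W : hW.fromSpec p ∈ W := fromSpec_mem hW p
  have hpr : pr hW (hW.fromSpec p) hx'W = 𝔪 :=
    congrArg PrimeSpectrum.asIdeal (primeIdealOf_fromSpec hW p)
  have hspec : x ⤳ hW.fromSpec p := specializes_of_pr_le hW hxW hx'W (hpr ▸ h𝔪le)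
  haveI hdom' : IsDomain (X.presheaf.stalk (hW.fromSpec p)) :=
    isDomain_stalk_of_isMaximal hW hA hred _ hx'W (hpr ▸ h𝔪max)
  -- transfer along the localization
  letI a1 := TopCat.Presheaf.algebra_section_stalk X.presheaf (U := W) ⟨x, hxW⟩
  letI a2 := TopCat.Presheaf.algebra_section_stalk X.presheaf (U := W) ⟨hW.fromSpec p, hx'W⟩
  haveI l1 : IsLocalization.AtPrime (X.presheaf.stalk x) (pr hW x hxW) :=
    hW.isLocalization_stalk ⟨x, hxW⟩
  haveI l2 : IsLocalization.AtPrime (X.presheaf.stalk (hW.fromSpec p))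
      (pr hW (hW.fromSpec p) hx'W) := hW.isLocalization_stalk ⟨_, hx'W⟩
  letI a3 : Algebra (X.presheaf.stalk (hW.fromSpec p)) (X.presheaf.stalk x) :=
    (X.presheaf.stalkSpecializes hspec).hom.toAlgebra
  haveI : IsScalarTower Γ(X, W) (X.presheaf.stalk (hW.fromSpec p)) (X.presheaf.stalk x) :=
    IsScalarTower.of_algebraMap_eq (fun r => by
      change X.presheaf.germ W x hxW r =
        (X.presheaf.stalkSpecializes hspec).hom (X.presheaf.germ W _ hx'W r)
      rw [← CommRingCat.comp_apply, TopCat.Presheaf.germ_stalkSpecializes])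
  have hMN : (pr hW (hW.fromSpec p) hx'W).primeCompl ≤ (pr hW x hxW).primeCompl := by
    intro r hr hr2
    exact hr (hpr ▸ h𝔪le hr2)
  haveI := IsLocalization.isLocalization_of_submonoid_le (X.presheaf.stalk (hW.fromSpec p))
    (X.presheaf.stalk x) _ _ hMN
  refine IsLocalization.isDomain_of_le_nonZeroDivisors (X.presheaf.stalk x)
    (M := (pr hW x hxW).primeCompl.map (algebraMap Γ(X, W) (X.presheaf.stalk (hW.fromSpec p)))) ?_
  rintro _ ⟨s, hs, rfl⟩
  apply mem_nonZeroDivisors_of_ne_zero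
  intro h0
  have hu : IsUnit (algebraMap Γ(X, W) (X.presheaf.stalk x) s) :=
    IsLocalization.map_units (X.presheaf.stalk x) (⟨s, hs⟩ : (pr hW x hxW).primeCompl)
  rw [IsScalarTower.algebraMap_apply Γ(X, W) (X.presheaf.stalk (hW.fromSpec p))
    (X.presheaf.stalk x), h0, map_zero] at hu
  exact not_isUnit_zero hu

end

/-- (a'') ⇒ (c): all local rings are factorial. -/
theorem ufd_stalk_of_condA [IsLocallyNoetherian X] (hA : CondA X)
    (hred : ∀ x : ↥X, IsOpen ({x} : Set ↥X) → IsReduced ↑(X.presheaf.stalk x)) (x : X) :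
    ∃ _ : IsDomain ↑(X.presheaf.stalk x), UniqueFactorizationMonoid ↑(X.presheaf.stalk x) := by
  haveI hdom := isDomain_stalk hA hred x
  refine ⟨hdom, ?_⟩
  obtain ⟨_, ⟨W, hW : IsAffineOpen W, rfl⟩, hxW, -⟩ :=
    X.isBasis_affineOpens.exists_subset_of_mem_open (Set.mem_univ x) isOpen_univ
  haveI : IsNoetherianRing Γ(X, W) := IsLocallyNoetherian.component_noetherian ⟨W, hW⟩
  letI := TopCat.Presheaf.algebra_section_stalk X.presheaf (U := W) ⟨x, hxW⟩
  haveI hloc : IsLocalization.AtPrime (X.presheaf.stalk x) (pr hW x hxW) :=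
    hW.isLocalization_stalk ⟨x, hxW⟩
  haveI : IsNoetherianRing (X.presheaf.stalk x) :=
    IsLocalization.isNoetherianRing (pr hW x hxW).primeCompl _ inferInstance
  apply UniqueFactorizationMonoid.of_forall_isPrincipal_of_height_eq_one
  intro P hP hP1
  have h𝔮1 : (P.under Γ(X, W)).height = 1 := by
    rw [IsLocalization.height_under (pr hW x hxW).primeCompl, hP1]
  have h𝔮le : P.under Γ(X, W) ≤ pr hW x hxW := by
    intro r hr
    by_contra hcon
    have hu : IsUnit (algebraMap Γ(X, W) (X.presheaf.stalk x) r) :=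
      IsLocalization.map_units (X.presheaf.stalk x) (⟨r, hcon⟩ : (pr hW x hxW).primeCompl)
    exact hP.ne_top (Ideal.eq_top_of_isUnit_mem _ hr hu)
  obtain ⟨t, -, hI⟩ := exists_map_eq_span hW hA x hxW (P.under Γ(X, W)) h𝔮le h𝔮1
  have hmap : (P.under Γ(X, W)).map (algebraMap Γ(X, W) (X.presheaf.stalk x)) = P :=
    IsLocalization.map_under (pr hW x hxW).primeCompl (X.presheaf.stalk x) P
  refine ⟨t, ?_⟩
  rw [← hmap]
  exact hI

/-- (c) ⇒ (a''). -/
theorem condA_of_ufd_stalk [IsLocallyNoetherian X]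
    (h : ∀ x : ↥X, ∃ _ : IsDomain ↑(X.presheaf.stalk x),
      UniqueFactorizationMonoid ↑(X.presheaf.stalk x)) : CondA X := by
  intro ζ hζ x hspec
  obtain ⟨hdom, hufd⟩ := h x
  obtain ⟨_, ⟨W, hW : IsAffineOpen W, rfl⟩, hxW, -⟩ :=
    X.isBasis_affineOpens.exists_subset_of_mem_open (Set.mem_univ x) isOpen_univ
  have hζW : ζ ∈ W := hspec.mem_open W.2 hxW
  letI := TopCat.Presheaf.algebra_section_stalk X.presheaf (U := W) ⟨x, hxW⟩
  haveI hloc : IsLocalization.AtPrime (X.presheaf.stalk x) (pr hW x hxW) :=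
    hW.isLocalization_stalk ⟨x, hxW⟩
  have hht : (pr hW ζ hζW).height = 1 := by
    have := ringKrullDim_stalk hW ζ hζW
    rw [hζ] at this
    exact_mod_cast this.symm
  have hP : (pI ζ x hspec).height = 1 := by
    have h1 : (pI ζ x hspec).under Γ(X, W) = pr hW ζ hζW := by
      ext r
      exact pI_under hW hxW hspec r
    rw [← IsLocalization.height_under (pr hW x hxW).primeCompl, h1, hht]
  have hPne : pI ζ x hspec ≠ ⊥ := Ideal.ne_bot_of_height_eq_one hP
  obtain ⟨p, hpP, hp⟩ := Ideal.IsPrime.exists_mem_prime_of_ne_bot inferInstance hPne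
  refine ⟨p, mem_nonZeroDivisors_of_ne_zero hp.ne_zero, ?_⟩
  exact Ideal.eq_span_singleton_of_height_eq_one hP hpP hp

end Groth.Agent.Lib.Helper21.LocFactorial
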