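import Groth.Prelude.Def_BlowUp2
import Mathlib.AlgebraicGeometry.IdealSheaf.Functorial
import Mathlib.AlgebraicGeometry.Noetherian
import Mathlib.RingTheory.UniqueFactorizationDomain.Basic
import Groth.Agent.Lib.Helper21.EffCartierUFD2
import Groth.Agent.Lib.Helper21.LocFactorial
import Groth.Agent.Lib.Helper21.ExtendCartierAlg

set_option autoImplicit false
universe u
open CategoryTheory CategoryTheory.Limits AlgebraicGeometry TopologicalSpace

namespace Groth.Agent.Lib.Helper21.ExtendCartier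

open Groth.Agent.Lib.Helper21.Chart Groth.Agent.Lib.Helper21.EffCartierUFD Submodule

variable {X Y : Scheme.{u}}

lemma ideal_comap_eqToHom (D : Y.IdealSheafData) (V V' : Y.Opens) (hV : IsAffineOpen V)
    (H : IsAffineOpen V') (e : V' = V) :
    (D.ideal ⟨V', H⟩).comap (Y.presheaf.map (eqToHom e).op).hom = D.ideal ⟨V, hV⟩ := by
  subst e
  simp

/-- For a quasi-compact open immersion, restricting the scheme-theoretic closure of an ideal sheaf
gives back the ideal sheaf. -/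
theorem comap_map_of_isOpenImmersion (f : Y ⟶ X) [IsOpenImmersion f] [QuasiCompact f]
    (D : Y.IdealSheafData) : (D.map f).comap f = D := by
  apply Scheme.IdealSheafData.ext
  funext V
  have H : IsAffineOpen (f ⁻¹ᵁ f ''ᵁ V.1) := by
    rw [f.preimage_image_eq]; exact V.2
  rw [Scheme.IdealSheafData.ideal_comap_of_isOpenImmersion,
    Scheme.IdealSheafData.ideal_map D f ⟨f ''ᵁ V.1, V.2.image_of_isOpenImmersion f⟩ H,
    Ideal.comap_comap, ← CommRingCat.hom_comp, Scheme.Hom.appIso_inv_app]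
  exact ideal_comap_eqToHom D V.1 _ V.2 H (f.preimage_image_eq V.1)

/-- A local generator of `D'.comap f` on `V` gives a local generator of `D'` on `f ''ᵁ V`. -/
theorem exists_generator_image (f : Y ⟶ X) [IsOpenImmersion f] (D' : X.IdealSheafData)
    (V : Y.affineOpens) (g : Γ(Y, V.1)) (hg : g ∈ nonZeroDivisors Γ(Y, V.1))
    (hD : (D'.comap f).ideal V = Ideal.span {g}) :
    ∃ g' : Γ(X, f ''ᵁ V.1), g' ∈ nonZeroDivisors Γ(X, f ''ᵁ V.1) ∧
      D'.ideal ⟨f ''ᵁ V.1, V.2.image_of_isOpenImmersion f⟩ = Ideal.span {g'} := by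
  rw [Scheme.IdealSheafData.ideal_comap_of_isOpenImmersion] at hD
  set e : Γ(X, f ''ᵁ V.1) ≃+* Γ(Y, V.1) := (f.appIso V.1).commRingCatIsoToRingEquiv with he
  have hinv : ∀ z, (f.appIso V.1).inv.hom z = e.symm z := fun z => rfl
  refine ⟨e.symm g, ?_, ?_⟩
  · rw [mem_nonZeroDivisors_iff_right]
    intro z hz
    have h1 : e z * g = 0 := by
      have := congrArg e hz
      rwa [map_mul, e.apply_symm_apply, map_zero] at this
    have h2 := (mem_nonZeroDivisors_iff_right.1 hg) _ h1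
    exact (map_eq_zero_iff e e.injective).1 h2
  · ext z
    have h3 : e z ∈ Ideal.span {g} ↔ z ∈ D'.ideal ⟨f ''ᵁ V.1, V.2.image_of_isOpenImmersion f⟩ := by
      rw [← hD, Ideal.mem_comap, hinv, e.symm_apply_apply]
    rw [← h3, Ideal.mem_span_singleton, Ideal.mem_span_singleton]
    constructor
    · rintro ⟨c, hc⟩
      refine ⟨e.symm c, ?_⟩
      rw [← map_mul, ← hc, e.symm_apply_apply]
    · rintro ⟨c, rfl⟩
      refine ⟨e c, ?_⟩
      rw [map_mul, e.apply_symm_apply]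

/-- Associated points of the scheme-theoretic closure lie in the open subscheme. -/
theorem fromSpec_mem_range_of_mem_associatedPrimes [IsLocallyNoetherian X] (f : Y ⟶ X)
    [IsOpenImmersion f] [QuasiCompact f] (D : Y.IdealSheafData) (W : X.affineOpens) (𝔮 : Ideal Γ(X, W.1))
    (h𝔮 : 𝔮 ∈ associatedPrimes Γ(X, W.1) (Γ(X, W.1) ⧸ (D.map f).ideal W)) :
    W.2.fromSpec ⟨𝔮, h𝔮.isPrime⟩ ∈ Set.range f := by
  haveI : IsNoetherianRing Γ(X, W.1) := IsLocallyNoetherian.component_noetherian W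
  haveI h𝔮prime : 𝔮.IsPrime := h𝔮.isPrime
  set p : PrimeSpectrum Γ(X, W.1) := ⟨𝔮, h𝔮prime⟩ with hp
  have hyW : W.2.fromSpec p ∈ W.1 := fromSpec_mem W.2 p
  have hpr : W.2.primeIdealOf ⟨W.2.fromSpec p, hyW⟩ = p := primeIdealOf_fromSpec W.2 p
  set g : D.subscheme ⟶ X := D.subschemeι ≫ f with hg
  have hI : (D.map f).ideal W = RingHom.ker (g.app W.1).hom := by
    rw [Scheme.IdealSheafData.map, Scheme.Hom.ker_apply]
  rw [AssociatedPrimes.mem_iff, isAssociatedPrime_iff] at h𝔮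
  obtain ⟨-, m, hm⟩ := h𝔮
  obtain ⟨a, rfl⟩ := Submodule.Quotient.mk_surjective _ m
  have hmem : ∀ r, r ∈ 𝔮 ↔ (g.app W.1).hom (r * a) = 0 := by
    intro r
    rw [hm, mem_colon_singleton, Submodule.mem_bot, ← Submodule.Quotient.mk_smul,
      Submodule.Quotient.mk_eq_zero, smul_eq_mul, hI, RingHom.mem_ker]
  by_contra hcon
  -- `φ a ≠ 0`
  have hane : (g.app W.1).hom a ≠ 0 := by
    intro h0
    apply h𝔮prime.ne_top
    rw [Ideal.eq_top_iff_one, hmem, one_mul, h0]
  -- a point where the germ is nonzero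
  have hex : ∃ (z : D.subscheme) (hz : z ∈ g ⁻¹ᵁ W.1),
      D.subscheme.presheaf.germ (g ⁻¹ᵁ W.1) z hz ((g.app W.1).hom a) ≠ 0 := by
    by_contra hall
    push Not at hall
    apply hane
    apply TopCat.Presheaf.section_ext D.subscheme.sheaf (g ⁻¹ᵁ W.1)
    intro z hz
    exact (hall z hz).trans (map_zero _).symm
  obtain ⟨z, hz, hgerm⟩ := hex
  have hgzW : g z ∈ W.1 := hz
  have hgzU : g z ∈ f.opensRange := ⟨D.subschemeι z, rfl⟩
  obtain ⟨s, hsle, hzs⟩ := W.2.exists_basicOpen_le (V := f.opensRange) ⟨g z, hgzU⟩ hgzW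
  have hys : W.2.fromSpec p ∉ X.basicOpen s := fun h => hcon (hsle h)
  have hs𝔮 : s ∈ 𝔮 := by
    by_contra hs
    apply hys
    rw [mem_basicOpen_iff_notMem_primeIdealOf W _ hyW s, hpr]
    exact hs
  have h0 : (g.app W.1).hom s * (g.app W.1).hom a = 0 := by
    rw [← map_mul]; exact (hmem s).1 hs𝔮
  have hzs' : z ∈ D.subscheme.basicOpen ((g.app W.1).hom s) := by
    rw [← Scheme.preimage_basicOpen]; exact hzs
  have hunit := (D.subscheme.mem_basicOpen _ z hz).1 hzs'
  apply hgerm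
  have h1 := congrArg (D.subscheme.presheaf.germ (g ⁻¹ᵁ W.1) z hz) h0
  rw [map_mul, map_zero] at h1
  exact hunit.mul_right_eq_zero.1 h1

lemma map_germ_congr (𝓘 : X.IdealSheafData) (y : X) (B B' : X.Opens) (h : B = B')
    (hB : IsAffineOpen B) (hB' : IsAffineOpen B') (hy : y ∈ B) (hy' : y ∈ B') :
    (𝓘.ideal ⟨B, hB⟩).map (X.presheaf.germ B y hy).hom =
      (𝓘.ideal ⟨B', hB'⟩).map (X.presheaf.germ B' y hy').hom := by
  subst h; rfl

lemma map_germ_basicOpen (𝓘 : X.IdealSheafData) (W : X.affineOpens) (s : Γ(X, W.1)) (y : X)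
    (hy : y ∈ X.basicOpen s) :
    (𝓘.ideal (X.affineBasicOpen s)).map (X.presheaf.germ (X.basicOpen s) y hy).hom =
      (𝓘.ideal W).map (X.presheaf.germ W.1 y (X.basicOpen_le s hy)).hom := by
  rw [← 𝓘.map_ideal_basicOpen W s]
  refine (Ideal.map_map _ _).trans ?_
  congr 1
  ext r
  exact X.presheaf.germ_res_apply (homOfLE (X.basicOpen_le s)) y hy r

/-- The ideal generated in the stalk does not depend on the affine chart. -/
theorem map_germ_eq_of_mem (𝓘 : X.IdealSheafData) (W V : X.affineOpens) (y : X) (hyW : y ∈ W.1)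
    (hyV : y ∈ V.1) :
    (𝓘.ideal W).map (X.presheaf.germ W.1 y hyW).hom =
      (𝓘.ideal V).map (X.presheaf.germ V.1 y hyV).hom := by
  obtain ⟨s, s', hss', hys⟩ := exists_basicOpen_le_affine_inter W.2 V.2 y ⟨hyW, hyV⟩
  have hys' : y ∈ X.basicOpen s' := hss' ▸ hys
  rw [← map_germ_basicOpen 𝓘 W s y hys, ← map_germ_basicOpen 𝓘 V s' y hys']
  exact map_germ_congr 𝓘 y _ _ hss' _ _ hys hys'

/-- A local nonzerodivisor generator on some chart gives one in the stalk, computed on any chart. -/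
theorem exists_stalk_generator (𝓘 : X.IdealSheafData) (V : X.affineOpens) (y : X) (hyV : y ∈ V.1)
    (g : Γ(X, V.1)) (hg : g ∈ nonZeroDivisors Γ(X, V.1)) (hV : 𝓘.ideal V = Ideal.span {g})
    (W : X.affineOpens) (hyW : y ∈ W.1) :
    ∃ t : X.presheaf.stalk y, t ∈ nonZeroDivisors (X.presheaf.stalk y) ∧
      (𝓘.ideal W).map (X.presheaf.germ W.1 y hyW).hom = Ideal.span {t} := by
  refine ⟨X.presheaf.germ V.1 y hyV g, ?_, ?_⟩
  · letI : Algebra Γ(X, V.1) (X.presheaf.stalk y) :=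
      TopCat.Presheaf.algebra_section_stalk X.presheaf ⟨y, hyV⟩
    haveI hloc : IsLocalization.AtPrime (X.presheaf.stalk y)
        (V.2.primeIdealOf ⟨y, hyV⟩).asIdeal := V.2.isLocalization_stalk ⟨y, hyV⟩
    exact IsLocalization.map_nonZeroDivisors_le (V.2.primeIdealOf ⟨y, hyV⟩).asIdeal.primeCompl
      (X.presheaf.stalk y) ⟨g, hg, rfl⟩
  · rw [map_germ_eq_of_mem 𝓘 W V y hyW hyV, hV, Ideal.map_span, Set.image_singleton]

/-- Key height computation: associated primes of the closure ideal below a factorial point have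
height one. -/
theorem height_eq_one_of_mem_associatedPrimes_of_le [IsLocallyNoetherian X] (U : X.Opens)
    (D : (U : Scheme.{u}).IdealSheafData)
    (hC : ∀ y : X, y ∈ U → ∃ V : X.affineOpens, y ∈ V.1 ∧ ∃ f : Γ(X, V.1),
      f ∈ nonZeroDivisors Γ(X, V.1) ∧ (D.map U.ι).ideal V = Ideal.span {f})
    (W : X.affineOpens) (x : X) (hxW : x ∈ W.1) [IsDomain (X.presheaf.stalk x)]
    [UniqueFactorizationMonoid (X.presheaf.stalk x)]
    (𝔮 : Ideal Γ(X, W.1))
    (h𝔮 : 𝔮 ∈ associatedPrimes Γ(X, W.1) (Γ(X, W.1) ⧸ (D.map U.ι).ideal W))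
    (hle : 𝔮 ≤ pr W.2 x hxW) : 𝔮.height = 1 := by
  haveI : IsNoetherianRing Γ(X, W.1) := IsLocallyNoetherian.component_noetherian W
  haveI h𝔮prime : 𝔮.IsPrime := h𝔮.isPrime
  set p : PrimeSpectrum Γ(X, W.1) := ⟨𝔮, h𝔮prime⟩ with hp
  have hyW : W.2.fromSpec p ∈ W.1 := fromSpec_mem W.2 p
  have hpr : W.2.primeIdealOf ⟨W.2.fromSpec p, hyW⟩ = p := primeIdealOf_fromSpec W.2 p
  have hyU : W.2.fromSpec p ∈ U := by
    have := fromSpec_mem_range_of_mem_associatedPrimes U.ι D W 𝔮 h𝔮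
    rw [Scheme.Opens.range_ι] at this
    exact this
  set y := W.2.fromSpec p with hy
  letI : Algebra Γ(X, W.1) (X.presheaf.stalk y) :=
    TopCat.Presheaf.algebra_section_stalk X.presheaf ⟨y, hyW⟩
  haveI hlocy : IsLocalization.AtPrime (X.presheaf.stalk y)
      (W.2.primeIdealOf ⟨y, hyW⟩).asIdeal := W.2.isLocalization_stalk ⟨y, hyW⟩
  haveI hlocy' : IsLocalization.AtPrime (X.presheaf.stalk y) 𝔮 := by
    rw [hpr] at hlocy; exact hlocy
  letI : Algebra Γ(X, W.1) (X.presheaf.stalk x) :=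
    TopCat.Presheaf.algebra_section_stalk X.presheaf ⟨x, hxW⟩
  haveI hlocx : IsLocalization.AtPrime (X.presheaf.stalk x) (pr W.2 x hxW) :=
    W.2.isLocalization_stalk ⟨x, hxW⟩
  obtain ⟨hdomy, hufdy⟩ := ufd_of_atPrime_le (pr W.2 x hxW) 𝔮 hle (X.presheaf.stalk x)
    (X.presheaf.stalk y)
  haveI : IsNoetherianRing (X.presheaf.stalk y) :=
    IsLocalization.isNoetherianRing 𝔮.primeCompl _ inferInstance
  obtain ⟨V, hyV, f, hf, hV⟩ := hC y hyU
  obtain ⟨t, ht, hIt⟩ := exists_stalk_generator (D.map U.ι) V y hyV f hf hV W hyW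
  have hass : IsLocalRing.maximalIdeal (X.presheaf.stalk y) ∈
      associatedPrimes (X.presheaf.stalk y) (X.presheaf.stalk y ⧸ Ideal.span {t}) := by
    rw [← hIt]
    have e := Ideal.localized'_eq_map (X.presheaf.stalk y) 𝔮.primeCompl ((D.map U.ι).ideal W)
    have key : IsLocalRing.maximalIdeal (X.presheaf.stalk y) ∈
        associatedPrimes (X.presheaf.stalk y) (X.presheaf.stalk y ⧸
          Submodule.localized' (X.presheaf.stalk y) 𝔮.primeCompl
            (Algebra.linearMap Γ(X, W.1) (X.presheaf.stalk y)) ((D.map U.ι).ideal W)) := by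
      apply Module.associatedPrimes.mem_associatedPrimes_of_comap_mem_associatedPrimes_of_isLocalizedModule
        𝔮.primeCompl (((D.map U.ι).ideal W).toLocalizedQuotient' (X.presheaf.stalk y) 𝔮.primeCompl
          (Algebra.linearMap Γ(X, W.1) (X.presheaf.stalk y)))
      have : (IsLocalRing.maximalIdeal (X.presheaf.stalk y)).comap
          (algebraMap Γ(X, W.1) (X.presheaf.stalk y)) = 𝔮 :=
        IsLocalization.AtPrime.under_maximalIdeal _ 𝔮
      rw [this]
      exact h𝔮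
    rw [e] at key
    exact key
  have h1 := height_eq_one_of_mem_associatedPrimes_span_singleton t (nonZeroDivisors.ne_zero ht) _ hass
  rw [← IsLocalization.height_under 𝔮.primeCompl (IsLocalRing.maximalIdeal (X.presheaf.stalk y)),
    IsLocalization.AtPrime.under_maximalIdeal _ 𝔮] at h1
  exact h1

/-- S1660: the scheme-theoretic closure of an effective Cartier divisor on an open `U` is effective
Cartier if all local rings outside `U` are factorial. -/
theorem exists_extension_of_ufd [IsLocallyNoetherian X] (U : X.Opens)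
    (D : (U : Scheme.{u}).IdealSheafData) (hD : BlowUp.IsEffCartierIdeal D)
    (hufd : ∀ x : X, x ∉ U →
      IsDomain (X.presheaf.stalk x) ∧ UniqueFactorizationMonoid (X.presheaf.stalk x)) :
    ∃ D' : X.IdealSheafData, BlowUp.IsEffCartierIdeal D' ∧ D'.comap U.ι = D := by
  have hcomap : (D.map U.ι).comap U.ι = D := comap_map_of_isOpenImmersion U.ι D
  refine ⟨D.map U.ι, ?_, hcomap⟩
  have hC : ∀ y : X, y ∈ U → ∃ V : X.affineOpens, y ∈ V.1 ∧ ∃ f : Γ(X, V.1),
      f ∈ nonZeroDivisors Γ(X, V.1) ∧ (D.map U.ι).ideal V = Ideal.span {f} := by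
    intro y hy
    obtain ⟨V, hyV, g, hg, hDV⟩ := hD ⟨y, hy⟩
    rw [← hcomap] at hDV
    obtain ⟨g', hg', hD'⟩ := exists_generator_image U.ι (D.map U.ι) V g hg hDV
    exact ⟨⟨U.ι ''ᵁ V.1, V.2.image_of_isOpenImmersion U.ι⟩, ⟨⟨y, hy⟩, hyV, rfl⟩, g', hg', hD'⟩
  intro x
  by_cases hxU : x ∈ U
  · exact hC x hxU
  obtain ⟨hdom, hufm⟩ := hufd x hxU
  obtain ⟨_, ⟨W, hW : IsAffineOpen W, rfl⟩, hxW, -⟩ :=
    X.isBasis_affineOpens.exists_subset_of_mem_open (Set.mem_univ x) isOpen_univ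
  haveI : IsNoetherianRing Γ(X, W) := IsLocallyNoetherian.component_noetherian ⟨W, hW⟩
  letI : Algebra Γ(X, W) (X.presheaf.stalk x) :=
    TopCat.Presheaf.algebra_section_stalk X.presheaf ⟨x, hxW⟩
  haveI hloc : IsLocalization.AtPrime (X.presheaf.stalk x)
      (hW.primeIdealOf ⟨x, hxW⟩).asIdeal := hW.isLocalization_stalk ⟨x, hxW⟩
  haveI : IsNoetherianRing (X.presheaf.stalk x) :=
    IsLocalization.isNoetherianRing (hW.primeIdealOf ⟨x, hxW⟩).asIdeal.primeCompl _ inferInstance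
  set J := ((D.map U.ι).ideal ⟨W, hW⟩).map (algebraMap Γ(X, W) (X.presheaf.stalk x)) with hJ
  by_cases hJtop : J = ⊤
  · exact exists_generator_of_stalk (D.map U.ι) ⟨W, hW⟩ x hxW 1 (one_mem _)
      (by rw [Ideal.span_singleton_one]; exact hJtop)
  have hht : ∀ P ∈ associatedPrimes (X.presheaf.stalk x) (X.presheaf.stalk x ⧸ J), P.height = 1 :=
    fun P hP => height_eq_one_of_mem_associatedPrimes_map'
      (hW.primeIdealOf ⟨x, hxW⟩).asIdeal.primeCompl ((D.map U.ι).ideal ⟨W, hW⟩)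
      (fun 𝔮 h𝔮 hdisj => height_eq_one_of_mem_associatedPrimes_of_le U D hC ⟨W, hW⟩ x hxW 𝔮 h𝔮
        (fun a ha => by
          by_contra hcon
          exact (Set.disjoint_left.1 hdisj) hcon ha)) P hP
  obtain ⟨g, hg0, hg⟩ := exists_eq_span_singleton_of_associatedPrimes_height_one J hJtop hht
  exact exists_generator_of_stalk (D.map U.ι) ⟨W, hW⟩ x hxW g
    (mem_nonZeroDivisors_of_ne_zero hg0) hg

end Groth.Agent.Lib.Helper21.ExtendCartier
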