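import Mathlib

set_option autoImplicit false
universe u v

namespace Groth.Agent.Lib.Helper21.ProdDiv

open Submodule

/-- Prime-power divisibility: if `(π)` is prime, `π` is a nonzerodivisor, `g ∉ (π)` and
`π ^ n ∣ g * h` then `π ^ n ∣ h`. -/
theorem pow_dvd_of_pow_dvd_mul {R : Type u} [CommRing R] (π : R) (hπ : π ∈ nonZeroDivisors R)
    (hprime : (Ideal.span {π}).IsPrime) (g : R) (hg : g ∉ Ideal.span {π}) (n : ℕ) (h : R)
    (hdvd : π ^ n ∣ g * h) : π ^ n ∣ h := by
  induction n generalizing h with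
  | zero => simp
  | succ n ih =>
    have h1 : g * h ∈ Ideal.span {π} := by
      rw [Ideal.mem_span_singleton]
      exact dvd_trans (dvd_pow_self π (Nat.succ_ne_zero n)) hdvd
    have h2 : h ∈ Ideal.span {π} := (hprime.mem_or_mem h1).resolve_left hg
    rw [Ideal.mem_span_singleton] at h2
    obtain ⟨h₁, rfl⟩ := h2
    obtain ⟨c, hc⟩ := hdvd
    have h3 : π * (π ^ n * c - g * h₁) = 0 := by
      rw [pow_succ] at hc
      linear_combination -hc
    have h4 : π ^ n * c - g * h₁ = 0 := (mem_nonZeroDivisors_iff.1 hπ).1 _ h3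
    have h5 : π ^ n ∣ g * h₁ := ⟨c, by linear_combination -h4⟩
    have h6 := ih h₁ h5
    rw [pow_succ']
    exact mul_dvd_mul_left π h6

/-- Principal primes generated by nonzerodivisors are incomparable. -/
theorem span_singleton_le_of_mem {R : Type u} [CommRing R] (π π' : R)
    (hπ' : π' ∈ nonZeroDivisors R)
    (hprime : (Ideal.span {π}).IsPrime) (hprime' : (Ideal.span {π'}).IsPrime)
    (hmem : π' ∈ Ideal.span {π}) : π ∈ Ideal.span {π'} := by
  rw [Ideal.mem_span_singleton] at hmem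
  obtain ⟨c, hc⟩ := hmem
  have h1 : π * c ∈ Ideal.span {π'} := by rw [← hc]; exact Ideal.mem_span_singleton_self π'
  rcases hprime'.mem_or_mem h1 with h | h
  · exact h
  · exfalso
    rw [Ideal.mem_span_singleton] at h
    obtain ⟨c', rfl⟩ := h
    have h3 : π' * (1 - π * c') = 0 := by linear_combination hc
    have h4 : 1 - π * c' = 0 := (mem_nonZeroDivisors_iff.1 hπ').1 _ h3
    apply hprime.ne_top
    rw [Ideal.eq_top_iff_one, Ideal.mem_span_singleton]
    exact ⟨c', by linear_combination h4⟩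

/-- Main local factorization: a nonzerodivisor whose zero locus is covered by finitely many
distinct principal primes `(π i)` is, up to a unit, the product of the `π i ^ b i`, where `b i` is
the exact order of `π i` in `f`. -/
theorem span_eq_prod_of_locus_subset {R : Type u} [CommRing R] [IsNoetherianRing R] {ι : Type v}
    [DecidableEq ι] (s : Finset ι) (π : ι → R) (f : R)
    (hπ : ∀ i ∈ s, π i ∈ nonZeroDivisors R)
    (hprime : ∀ i ∈ s, IsUnit (π i) ∨ (Ideal.span {π i}).IsPrime)
    (hdist : ∀ i ∈ s, ∀ j ∈ s, i ≠ j → ¬ IsUnit (π i) → Ideal.span {π i} ≠ Ideal.span {π j})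
    (hlocus : ∀ Q : Ideal R, Q.IsPrime → f ∈ Q → ∃ i ∈ s, π i ∈ Q)
    (b : ι → ℕ) (hb : ∀ i ∈ s, ¬ IsUnit (π i) → π i ^ b i ∣ f ∧ ¬ π i ^ (b i + 1) ∣ f) :
    Ideal.span {f} = ∏ i ∈ s, Ideal.span {π i} ^ b i := by
  classical
  have hnotunit : ∀ i ∈ s, (Ideal.span {π i}).IsPrime → ¬ IsUnit (π i) := by
    intro i _ hp hu
    exact hp.ne_top (Ideal.span_singleton_eq_top.2 hu)
  -- Step 1
  have step1 : ∀ t : Finset ι, t ⊆ s → (∏ i ∈ t, π i ^ b i) ∣ f := by
    intro t
    induction t using Finset.induction_on with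
    | empty => intro _; simp
    | insert j t hjt ih =>
      intro hsub
      have hjs : j ∈ s := hsub (Finset.mem_insert_self j t)
      have hts : t ⊆ s := fun i hi => hsub (Finset.mem_insert_of_mem hi)
      obtain ⟨h, hh⟩ := ih hts
      rw [Finset.prod_insert hjt]
      rcases hprime j hjs with hu | hp
      · rw [(hu.pow (b j)).mul_left_dvd]
        exact ih hts
      · have hnu := hnotunit j hjs hp
        have hgt : (∏ i ∈ t, π i ^ b i) ∉ Ideal.span {π j} := by
          intro hmem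
          obtain ⟨i, hit, hi⟩ := (hp.prod_mem_iff).1 hmem
          have hi' : π i ∈ Ideal.span {π j} := hp.mem_of_pow_mem _ hi
          have hij : i ≠ j := fun e => hjt (e ▸ hit)
          have his : i ∈ s := hts hit
          rcases hprime i his with hui | hpi
          · exact hp.ne_top (Ideal.eq_top_of_isUnit_mem _ hi' hui)
          · have h1 := span_singleton_le_of_mem (π j) (π i) (hπ i his) hp hpi hi'
            apply hdist i his j hjs hij (hnotunit i his hpi)
            apply le_antisymm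
            · rw [Ideal.span_singleton_le_iff_mem]; exact hi'
            · rw [Ideal.span_singleton_le_iff_mem]; exact h1
        have hdvd : π j ^ b j ∣ (∏ i ∈ t, π i ^ b i) * h := by
          rw [← hh]; exact (hb j hjs hnu).1
        obtain ⟨h', rfl⟩ := pow_dvd_of_pow_dvd_mul (π j) (hπ j hjs) hp _ hgt (b j) h hdvd
        exact ⟨h', by rw [hh]; ring⟩
  obtain ⟨h, hh⟩ := step1 s le_rfl
  -- Step 2: h is a unit
  have hunit : IsUnit h := by
    by_contra hnu
    have hne : Ideal.span {h} ≠ ⊤ := by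
      rw [Ne, Ideal.span_singleton_eq_top]; exact hnu
    obtain ⟨Q, hQ⟩ := Ideal.nonempty_minimalPrimes hne
    haveI hQp : Q.IsPrime := hQ.1.1
    have hhQ : h ∈ Q := hQ.1.2 (Ideal.mem_span_singleton_self h)
    have hfQ : f ∈ Q := by rw [hh]; exact Q.mul_mem_left _ hhQ
    have hQht : Q.height ≤ 1 :=
      Ideal.height_le_one_of_isPrincipal_of_mem_minimalPrimes (Ideal.span {h}) Q hQ
    obtain ⟨i, his, hiQ⟩ := hlocus Q hQp hfQ
    have hnui : ¬ IsUnit (π i) := fun hu => hQp.ne_top (Ideal.eq_top_of_isUnit_mem _ hiQ hu)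
    have hpi : (Ideal.span {π i}).IsPrime := (hprime i his).resolve_left hnui
    have hle : Ideal.span {π i} ≤ Q := by rw [Ideal.span_singleton_le_iff_mem]; exact hiQ
    have hht1 : 1 ≤ (Ideal.span {π i}).height :=
      Ideal.one_le_height_span_singleton_of_mem_nonZeroDivisors (hπ i his)
    have heq : Ideal.span {π i} = Q := by
      by_contra hneq
      have hlt : Ideal.span {π i} < Q := lt_of_le_of_ne hle hneq
      haveI := hpi
      have := Ideal.height_strict_mono_of_isPrime hlt
      have h2 : (Ideal.span {π i}).height < 1 := lt_of_lt_of_le this hQht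
      exact absurd hht1 (not_le.2 h2)
    have hhi : π i ∣ h := by
      rw [← Ideal.mem_span_singleton, heq]; exact hhQ
    obtain ⟨h', rfl⟩ := hhi
    apply (hb i his hnui).2
    rw [hh, ← Finset.mul_prod_erase s _ his]
    exact ⟨(∏ x ∈ s.erase i, π x ^ b x) * h', by ring⟩
  rw [hh]
  simp_rw [Ideal.span_singleton_pow]
  rw [Ideal.prod_span_singleton]
  exact Ideal.span_singleton_mul_right_unit hunit _

/-- Elements of `I` land in `(𝔭^n) T` iff some multiple by an element outside `𝔭x` lies in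
`𝔭 ^ n`. -/
theorem map_le_map_pow_iff {A : Type u} [CommRing A] (𝔭x : Ideal A) [𝔭x.IsPrime]
    (S : Type v) [CommRing S] [Algebra A S] [IsLocalization.AtPrime S 𝔭x] (I J : Ideal A) :
    I.map (algebraMap A S) ≤ J.map (algebraMap A S) ↔ ∀ a ∈ I, ∃ u ∉ 𝔭x, u * a ∈ J := by
  constructor
  · intro h a ha
    have h1 : algebraMap A S a ∈ J.map (algebraMap A S) := h (Ideal.mem_map_of_mem _ ha)
    obtain ⟨⟨⟨c, hc⟩, ⟨t, ht⟩⟩, hct⟩ := (IsLocalization.mem_map_algebraMap_iff 𝔭x.primeCompl S).1 h1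
    simp only at hct
    rw [← map_mul] at hct
    obtain ⟨⟨t', ht'⟩, hcc⟩ := (IsLocalization.eq_iff_exists 𝔭x.primeCompl S).1 hct
    simp only at hcc
    refine ⟨t' * t, 𝔭x.primeCompl.mul_mem ht' ht, ?_⟩
    have : t' * t * a = t' * c := by rw [← hcc]; ring
    rw [this]
    exact J.mul_mem_left _ hc
  · intro h
    rw [Ideal.map_le_iff_le_comap]
    intro a ha
    obtain ⟨u, hu, hua⟩ := h a ha
    rw [Ideal.mem_comap]
    have hunit : IsUnit (algebraMap A S u) :=
      IsLocalization.map_units S (⟨u, hu⟩ : 𝔭x.primeCompl)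
    have h1 : algebraMap A S u * algebraMap A S a ∈ J.map (algebraMap A S) := by
      rw [← map_mul]; exact Ideal.mem_map_of_mem _ hua
    have h2 := (J.map (algebraMap A S)).mul_mem_left (↑hunit.unit⁻¹) h1
    rwa [← mul_assoc, IsUnit.val_inv_mul, one_mul] at h2

/-- Transfer of orders between a localization at `𝔭x` and the localization at a smaller prime `𝔭`
which becomes principal (generated by a nonzerodivisor) in the former. -/
theorem map_le_map_pow_transfer {A : Type u} [CommRing A] (𝔭 𝔭x : Ideal A) [𝔭.IsPrime]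
    [𝔭x.IsPrime] (hle : 𝔭 ≤ 𝔭x)
    (S : Type v) [CommRing S] [Algebra A S] [IsLocalization.AtPrime S 𝔭x]
    (T : Type v) [CommRing T] [Algebra A T] [IsLocalization.AtPrime T 𝔭]
    (π : S) (hπ : π ∈ nonZeroDivisors S) (h𝔭S : 𝔭.map (algebraMap A S) = Ideal.span {π})
    (I : Ideal A) (n : ℕ) :
    I.map (algebraMap A S) ≤ (𝔭.map (algebraMap A S)) ^ n ↔
      I.map (algebraMap A T) ≤ (𝔭.map (algebraMap A T)) ^ n := by
  rw [← Ideal.map_pow, ← Ideal.map_pow, map_le_map_pow_iff 𝔭x S, map_le_map_pow_iff 𝔭 T]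
  constructor
  · intro h a ha
    obtain ⟨u, hu, hua⟩ := h a ha
    exact ⟨u, fun hcon => hu (hle hcon), hua⟩
  · intro h
    rw [← map_le_map_pow_iff 𝔭x S, Ideal.map_le_iff_le_comap]
    intro a ha
    obtain ⟨u, hu, hua⟩ := h a ha
    rw [Ideal.mem_comap, Ideal.map_pow, h𝔭S, Ideal.span_singleton_pow, Ideal.mem_span_singleton]
    have hdisj : Disjoint (𝔭x.primeCompl : Set A) (𝔭 : Set A) := by
      rw [Set.disjoint_left]
      intro a ha1 ha2
      exact ha1 (hle ha2)
    have hprime : (Ideal.span {π}).IsPrime := by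
      rw [← h𝔭S]
      exact IsLocalization.isPrime_of_isPrime_disjoint 𝔭x.primeCompl _ _ ‹𝔭.IsPrime› hdisj
    have hu' : algebraMap A S u ∉ Ideal.span {π} := by
      rw [← h𝔭S]
      intro hcon
      apply hu
      have := IsLocalization.under_map_of_isPrime_disjoint 𝔭x.primeCompl S ‹𝔭.IsPrime› hdisj
      rw [← this]
      exact hcon
    apply pow_dvd_of_pow_dvd_mul π hπ hprime (algebraMap A S u) hu' n
    rw [← map_mul, ← Ideal.mem_span_singleton, ← Ideal.span_singleton_pow, ← h𝔭S, ← Ideal.map_pow]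
    exact Ideal.mem_map_of_mem _ hua

/-- The exact order of a proper ideal `P` in a principal ideal generated by a nonzerodivisor of a
Noetherian local ring exists (Krull intersection). -/
theorem sSup_pow_spec {R : Type u} [CommRing R] [IsNoetherianRing R] [IsLocalRing R]
    (Df P : Ideal R) (f : R) (hf : f ∈ nonZeroDivisors R) (hDf : Df = Ideal.span {f})
    (hP : P ≠ ⊤) :
    Df ≤ P ^ sSup {n | Df ≤ P ^ n} ∧ ¬ Df ≤ P ^ (sSup {n | Df ≤ P ^ n} + 1) := by
  set N : Set ℕ := {n | Df ≤ P ^ n} with hN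
  have h0 : 0 ∈ N := by
    show Df ≤ P ^ 0
    rw [pow_zero, Ideal.one_eq_top]; exact le_top
  have hdown : ∀ n m, n ≤ m → m ∈ N → n ∈ N := fun n m hnm hm =>
    le_trans hm (Ideal.pow_le_pow_right hnm)
  have hex : ∃ n₀, n₀ ∉ N := by
    by_contra hall
    push Not at hall
    have h1 : Df ≤ ⨅ i, P ^ i := le_iInf hall
    rw [Ideal.iInf_pow_eq_bot_of_isLocalRing P hP, le_bot_iff, hDf,
      Ideal.span_singleton_eq_bot] at h1
    exact nonZeroDivisors.ne_zero hf h1
  obtain ⟨n₀, hn₀⟩ := hex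
  have hbdd : BddAbove N := ⟨n₀, fun n hn => by
    by_contra hcon
    exact hn₀ (hdown n₀ n (not_le.1 hcon).le hn)⟩
  exact ⟨Nat.sSup_mem ⟨0, h0⟩ hbdd, notMem_of_csSup_lt (Nat.lt_succ_self _) hbdd⟩

end Groth.Agent.Lib.Helper21.ProdDiv
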