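import Groth.Prelude.Def_BlowUp2
import Mathlib.AlgebraicGeometry.IdealSheaf.Functorial
import Mathlib.AlgebraicGeometry.Noetherian
import Groth.Agent.Lib.Helper21.ExtendCartier
import Groth.Agent.Lib.Helper21.ProdDivAlg

set_option autoImplicit false
universe u
open CategoryTheory CategoryTheory.Limits AlgebraicGeometry TopologicalSpace

namespace Groth.Agent.Lib.Helper21.ProdDiv

open Groth.Agent.Lib.Helper21.Chart Groth.Agent.Lib.Helper21.EffCartierUFD
  Groth.Agent.Lib.Helper21.ExtendCartier Groth.Agent.Lib.Helper21.LocFactorial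

variable {X : Scheme.{u}}

/-- The ideal generated by an ideal sheaf in a stalk. -/
noncomputable def stalkIdeal (𝓘 : X.IdealSheafData) (x : X) : Ideal (X.presheaf.stalk x) :=
  ⨆ (W : X.affineOpens) (h : x ∈ W.1), (𝓘.ideal W).map (X.presheaf.germ W.1 x h).hom

lemma stalkIdeal_eq (𝓘 : X.IdealSheafData) (W : X.affineOpens) (x : X) (hx : x ∈ W.1) :
    stalkIdeal 𝓘 x = (𝓘.ideal W).map (X.presheaf.germ W.1 x hx).hom := by
  apply le_antisymm
  · refine iSup₂_le fun V hV => ?_
    rw [map_germ_eq_of_mem 𝓘 V W x hV hx]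
  · exact le_iSup₂_of_le W hx le_rfl

lemma exists_affine_mem (x : X) : ∃ W : X.affineOpens, x ∈ W.1 := by
  obtain ⟨_, ⟨W, hW : IsAffineOpen W, rfl⟩, hxW, -⟩ :=
    X.isBasis_affineOpens.exists_subset_of_mem_open (Set.mem_univ x) isOpen_univ
  exact ⟨⟨W, hW⟩, hxW⟩

theorem ext_of_stalkIdeal_eq {I J : X.IdealSheafData}
    (h : ∀ x, stalkIdeal I x = stalkIdeal J x) : I = J := by
  apply Scheme.IdealSheafData.ext
  funext W
  rw [W.2.ideal_ext_iff]
  intro x hx
  rw [← stalkIdeal_eq I W x hx, ← stalkIdeal_eq J W x hx, h x]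

lemma stalkIdeal_mul (I J : X.IdealSheafData) (x : X) :
    stalkIdeal (I * J) x = stalkIdeal I x * stalkIdeal J x := by
  obtain ⟨W, hx⟩ := exists_affine_mem x
  rw [stalkIdeal_eq _ W x hx, stalkIdeal_eq _ W x hx, stalkIdeal_eq _ W x hx,
    Scheme.IdealSheafData.ideal_mul, Pi.mul_apply, Ideal.map_mul]

lemma stalkIdeal_one (x : X) : stalkIdeal (1 : X.IdealSheafData) x = ⊤ := by
  obtain ⟨W, hx⟩ := exists_affine_mem x
  rw [stalkIdeal_eq _ W x hx]
  have : (1 : X.IdealSheafData).ideal W = ⊤ := rfl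
  rw [this, Ideal.map_top]

lemma stalkIdeal_pow (I : X.IdealSheafData) (n : ℕ) (x : X) :
    stalkIdeal (I ^ n) x = stalkIdeal I x ^ n := by
  induction n with
  | zero => rw [pow_zero, pow_zero, stalkIdeal_one, Ideal.one_eq_top]
  | succ n ih => rw [pow_succ, pow_succ, stalkIdeal_mul, ih]

lemma stalkIdeal_prod {ι : Type*} (s : Finset ι) (F : ι → X.IdealSheafData) (x : X) :
    stalkIdeal (∏ i ∈ s, F i) x = ∏ i ∈ s, stalkIdeal (F i) x := by
  classical
  induction s using Finset.induction_on with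
  | empty => rw [Finset.prod_empty, Finset.prod_empty, stalkIdeal_one, Ideal.one_eq_top]
  | insert j t hjt ih => rw [Finset.prod_insert hjt, Finset.prod_insert hjt, stalkIdeal_mul, ih]

lemma stalkIdeal_eq_top_of_notMem {𝓘 : X.IdealSheafData} {x : X} (hx : x ∉ 𝓘.support) :
    stalkIdeal 𝓘 x = ⊤ := by
  obtain ⟨W, hxW⟩ := exists_affine_mem x
  rw [stalkIdeal_eq _ W x hxW]
  rw [Scheme.IdealSheafData.mem_support_iff_of_mem (U := W) hxW, Scheme.mem_zeroLocus_iff] at hx
  push Not at hx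
  obtain ⟨f, hf, hxf⟩ := hx
  have hu : IsUnit (X.presheaf.germ W.1 x hxW f) := (X.mem_basicOpen f x hxW).1 hxf
  exact Ideal.eq_top_of_isUnit_mem _ (Ideal.mem_map_of_mem _ hf) hu

lemma ideal_le_pr_of_mem_support {𝓘 : X.IdealSheafData} {x : X} (hx : x ∈ 𝓘.support)
    (W : X.affineOpens) (hxW : x ∈ W.1) : 𝓘.ideal W ≤ pr W.2 x hxW := by
  intro f hf
  by_contra hcon
  have hxf : x ∈ X.basicOpen f := (mem_basicOpen_iff_notMem_primeIdealOf W x hxW f).2 hcon
  rw [Scheme.IdealSheafData.mem_support_iff_of_mem (U := W) hxW, Scheme.mem_zeroLocus_iff] at hx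
  exact hx f hf hxf

lemma mem_support_of_ideal_le_pr {𝓘 : X.IdealSheafData} {x : X}
    (W : X.affineOpens) (hxW : x ∈ W.1) (h : 𝓘.ideal W ≤ pr W.2 x hxW) : x ∈ 𝓘.support := by
  rw [Scheme.IdealSheafData.mem_support_iff_of_mem (U := W) hxW, Scheme.mem_zeroLocus_iff]
  intro f hf hxf
  exact (mem_basicOpen_iff_notMem_primeIdealOf W x hxW f).1 hxf (h hf)

lemma stalkIdeal_ne_top_of_mem {𝓘 : X.IdealSheafData} {x : X} (hx : x ∈ 𝓘.support) :
    stalkIdeal 𝓘 x ≠ ⊤ := by
  obtain ⟨W, hxW⟩ := exists_affine_mem x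
  rw [stalkIdeal_eq _ W x hxW]
  letI : Algebra Γ(X, W.1) (X.presheaf.stalk x) :=
    TopCat.Presheaf.algebra_section_stalk X.presheaf ⟨x, hxW⟩
  haveI hloc : IsLocalization.AtPrime (X.presheaf.stalk x)
      (W.2.primeIdealOf ⟨x, hxW⟩).asIdeal := W.2.isLocalization_stalk ⟨x, hxW⟩
  have hle := ideal_le_pr_of_mem_support hx W hxW
  show (𝓘.ideal W).map (algebraMap Γ(X, W.1) (X.presheaf.stalk x)) ≠ ⊤
  rw [IsLocalization.map_algebraMap_ne_top_iff_disjoint
    (W.2.primeIdealOf ⟨x, hxW⟩).asIdeal.primeCompl, Set.disjoint_left]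
  intro a ha1 ha2
  exact ha1 (hle ha2)

section Integral

variable (E : X.IdealSheafData) [IsIntegral E.subscheme]

/-- The generic point of an integral closed subscheme, as a point of `X`. -/
noncomputable def gen : X := E.subschemeι (genericPoint E.subscheme)

lemma gen_specializes {x : X} (hx : x ∈ E.support) : gen E ⤳ x := by
  obtain ⟨d, rfl⟩ : x ∈ Set.range E.subschemeι := by rw [E.range_subschemeι]; exact hx
  exact (genericPoint_specializes d).map E.subschemeι.continuous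

lemma gen_mem_support : gen E ∈ E.support := by
  have : gen E ∈ Set.range E.subschemeι := ⟨_, rfl⟩
  rwa [E.range_subschemeι] at this

lemma ideal_eq_pr (W : X.affineOpens) (h : gen E ∈ W.1) : E.ideal W = pr W.2 (gen E) h :=
  ideal_eq_primeIdealOf_genericPoint E W h

lemma ideal_eq_top_of_gen_notMem (W : X.affineOpens) (h : gen E ∉ W.1) : E.ideal W = ⊤ := by
  by_contra hne
  obtain ⟨M, hM, hle⟩ := Ideal.exists_le_maximal _ hne
  set p : PrimeSpectrum Γ(X, W.1) := ⟨M, hM.isPrime⟩ with hp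
  have hyW := fromSpec_mem W.2 p
  have hpr := primeIdealOf_fromSpec W.2 p
  have hy : W.2.fromSpec p ∈ E.support := by
    apply mem_support_of_ideal_le_pr W hyW
    show E.ideal W ≤ (W.2.primeIdealOf ⟨_, hyW⟩).asIdeal
    rw [hpr]; exact hle
  exact h ((gen_specializes E hy).mem_open W.1.2 hyW)

end Integral

section Integral2

variable (E : X.IdealSheafData) [IsIntegral E.subscheme]

lemma stalkIdeal_isPrime_and_comap {x : X} (hx : x ∈ E.support) (W : X.affineOpens)
    (hxW : x ∈ W.1) :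
    (stalkIdeal E x).IsPrime ∧
      (stalkIdeal E x).comap (X.presheaf.germ W.1 x hxW).hom = E.ideal W := by
  have hξW : gen E ∈ W.1 := (gen_specializes E hx).mem_open W.1.2 hxW
  have hI := ideal_eq_pr E W hξW
  have hle : pr W.2 (gen E) hξW ≤ pr W.2 x hxW :=
    pr_le_of_specializes W.2 hxW (gen_specializes E hx)
  letI : Algebra Γ(X, W.1) (X.presheaf.stalk x) :=
    TopCat.Presheaf.algebra_section_stalk X.presheaf ⟨x, hxW⟩
  haveI hloc : IsLocalization.AtPrime (X.presheaf.stalk x)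
      (W.2.primeIdealOf ⟨x, hxW⟩).asIdeal := W.2.isLocalization_stalk ⟨x, hxW⟩
  have hdisj : Disjoint ((pr W.2 x hxW).primeCompl : Set Γ(X, W.1)) (E.ideal W : Set Γ(X, W.1)) := by
    rw [Set.disjoint_left]
    intro a ha1 ha2
    rw [hI] at ha2
    exact ha1 (hle ha2)
  haveI hprime : (E.ideal W).IsPrime := by rw [hI]; infer_instance
  rw [stalkIdeal_eq E W x hxW]
  exact ⟨IsLocalization.isPrime_of_isPrime_disjoint (pr W.2 x hxW).primeCompl _ _ hprime hdisj,
    IsLocalization.under_map_of_isPrime_disjoint (pr W.2 x hxW).primeCompl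
      (X.presheaf.stalk x) hprime hdisj⟩

end Integral2

/-- The order of `D` along `E` at the point `x`. -/
noncomputable def ordAt (D E : X.IdealSheafData) (x : X) : ℕ :=
  sSup {n | stalkIdeal D x ≤ stalkIdeal E x ^ n}

theorem ordAt_eq_ordAt_gen (D E : X.IdealSheafData) [IsIntegral E.subscheme]
    (hE : BlowUp.IsEffCartierIdeal E) {x : X} (hx : x ∈ E.support) :
    ordAt D E x = ordAt D E (gen E) := by
  unfold ordAt
  congr 1
  ext n
  simp only [Set.mem_ofPred_eq]
  obtain ⟨W, hxW⟩ := exists_affine_mem x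
  have hξW : gen E ∈ W.1 := (gen_specializes E hx).mem_open W.1.2 hxW
  rw [stalkIdeal_eq D W x hxW, stalkIdeal_eq E W x hxW, stalkIdeal_eq D W _ hξW,
    stalkIdeal_eq E W _ hξW]
  letI : Algebra Γ(X, W.1) (X.presheaf.stalk x) :=
    TopCat.Presheaf.algebra_section_stalk X.presheaf ⟨x, hxW⟩
  haveI hloc : IsLocalization.AtPrime (X.presheaf.stalk x) (pr W.2 x hxW) :=
    W.2.isLocalization_stalk ⟨x, hxW⟩
  letI : Algebra Γ(X, W.1) (X.presheaf.stalk (gen E)) :=
    TopCat.Presheaf.algebra_section_stalk X.presheaf ⟨gen E, hξW⟩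
  haveI hlocξ : IsLocalization.AtPrime (X.presheaf.stalk (gen E)) (pr W.2 (gen E) hξW) :=
    W.2.isLocalization_stalk ⟨gen E, hξW⟩
  have hI := ideal_eq_pr E W hξW
  obtain ⟨V, hxV, g, hg, hV⟩ := hE x
  obtain ⟨t, ht, hIt⟩ := exists_stalk_generator E V x hxV g hg hV W hxW
  have hle : pr W.2 (gen E) hξW ≤ pr W.2 x hxW :=
    pr_le_of_specializes W.2 hxW (gen_specializes E hx)
  rw [hI] at hIt ⊢
  exact map_le_map_pow_transfer (pr W.2 (gen E) hξW) (pr W.2 x hxW) hle (X.presheaf.stalk x)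
    (X.presheaf.stalk (gen E)) t ht hIt (D.ideal W) n

/-- An integral closed subscheme is determined by its generic point. -/
theorem eq_of_gen_eq (E E' : X.IdealSheafData) [IsIntegral E.subscheme] [IsIntegral E'.subscheme]
    (h : gen E = gen E') : E = E' := by
  apply Scheme.IdealSheafData.ext
  funext W
  by_cases hW : gen E ∈ W.1
  · have hW' : gen E' ∈ W.1 := h ▸ hW
    rw [ideal_eq_pr E W hW, ideal_eq_pr E' W hW']
    congr 2
  · have hW' : gen E' ∉ W.1 := h ▸ hW
    rw [ideal_eq_top_of_gen_notMem E W hW, ideal_eq_top_of_gen_notMem E' W hW']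

lemma exists_stalkIdeal_generator (𝓘 : X.IdealSheafData) (h𝓘 : BlowUp.IsEffCartierIdeal 𝓘)
    (x : X) : ∃ t : X.presheaf.stalk x, t ∈ nonZeroDivisors (X.presheaf.stalk x) ∧
      stalkIdeal 𝓘 x = Ideal.span {t} := by
  obtain ⟨V, hxV, g, hg, hV⟩ := h𝓘 x
  obtain ⟨t, ht, hIt⟩ := exists_stalk_generator 𝓘 V x hxV g hg hV V hxV
  exact ⟨t, ht, by rw [stalkIdeal_eq 𝓘 V x hxV, hIt]⟩

/-- Local form of S1659 at a point. -/
theorem stalkIdeal_eq_prod [IsLocallyNoetherian X] (D : X.IdealSheafData)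
    (hD : BlowUp.IsEffCartierIdeal D) (s : Finset X.IdealSheafData)
    (hs : ∀ E ∈ s, BlowUp.IsEffCartierIdeal E) (hint : ∀ E ∈ s, IsIntegral E.subscheme)
    (hsub : (D.support : Set X) ⊆ ⋃ E ∈ s, (E.support : Set X))
    (a : X.IdealSheafData → ℕ)
    (ha : ∀ E ∈ s, ∀ (_ : IsIntegral E.subscheme), a E = ordAt D E (gen E)) (x : X) :
    stalkIdeal D x = ∏ E ∈ s, stalkIdeal E x ^ a E := by
  classical
  obtain ⟨W, hxW⟩ := exists_affine_mem x
  haveI : IsNoetherianRing Γ(X, W.1) := IsLocallyNoetherian.component_noetherian W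
  letI : Algebra Γ(X, W.1) (X.presheaf.stalk x) :=
    TopCat.Presheaf.algebra_section_stalk X.presheaf ⟨x, hxW⟩
  haveI hloc : IsLocalization.AtPrime (X.presheaf.stalk x) (pr W.2 x hxW) :=
    W.2.isLocalization_stalk ⟨x, hxW⟩
  haveI : IsNoetherianRing (X.presheaf.stalk x) :=
    IsLocalization.isNoetherianRing (pr W.2 x hxW).primeCompl _ inferInstance
  obtain ⟨f, hf, hDf⟩ := exists_stalkIdeal_generator D hD x
  have hex : ∀ E : X.IdealSheafData, ∃ t : X.presheaf.stalk x, E ∈ s →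
      (t ∈ nonZeroDivisors (X.presheaf.stalk x) ∧ stalkIdeal E x = Ideal.span {t}) := by
    intro E
    by_cases hE : E ∈ s
    · obtain ⟨t, ht, hEt⟩ := exists_stalkIdeal_generator E (hs E hE) x
      exact ⟨t, fun _ => ⟨ht, hEt⟩⟩
    · exact ⟨0, fun h => absurd h hE⟩
  choose π hπ using hex
  have hunit_iff : ∀ E ∈ s, (IsUnit (π E) ↔ x ∉ E.support) := by
    intro E hE
    rw [← Ideal.span_singleton_eq_top, ← (hπ E hE).2]
    constructor
    · intro h hx; exact stalkIdeal_ne_top_of_mem hx h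
    · intro h; exact stalkIdeal_eq_top_of_notMem h
  have key := span_eq_prod_of_locus_subset s π f (fun E hE => (hπ E hE).1) ?_ ?_ ?_ a ?_
  · rw [hDf, key]
    exact Finset.prod_congr rfl (fun E hE => by rw [(hπ E hE).2])
  · -- hprime
    intro E hE
    haveI := hint E hE
    by_cases hx : x ∈ E.support
    · right
      rw [← (hπ E hE).2]
      exact (stalkIdeal_isPrime_and_comap E hx W hxW).1
    · left; exact (hunit_iff E hE).2 hx
  · -- hdist
    intro E hE E' hE' hne hnu heq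
    haveI := hint E hE
    haveI := hint E' hE'
    have hx : x ∈ E.support := by
      by_contra h; exact hnu ((hunit_iff E hE).2 h)
    have hnu' : ¬ IsUnit (π E') := by
      rw [← Ideal.span_singleton_eq_top, ← heq, Ideal.span_singleton_eq_top]; exact hnu
    have hx' : x ∈ E'.support := by
      by_contra h; exact hnu' ((hunit_iff E' hE').2 h)
    apply hne
    apply eq_of_gen_eq
    have hξW : gen E ∈ W.1 := (gen_specializes E hx).mem_open W.1.2 hxW
    have hξW' : gen E' ∈ W.1 := (gen_specializes E' hx').mem_open W.1.2 hxW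
    have h1 := (stalkIdeal_isPrime_and_comap E hx W hxW).2
    have h2 := (stalkIdeal_isPrime_and_comap E' hx' W hxW).2
    rw [(hπ E hE).2, heq, ← (hπ E' hE').2, h2] at h1
    rw [ideal_eq_pr E W hξW, ideal_eq_pr E' W hξW'] at h1
    have h3 : W.2.primeIdealOf ⟨gen E', hξW'⟩ = W.2.primeIdealOf ⟨gen E, hξW⟩ :=
      PrimeSpectrum.ext h1
    have h4 := congrArg W.2.fromSpec h3
    rw [W.2.fromSpec_primeIdealOf, W.2.fromSpec_primeIdealOf] at h4
    exact h4.symm
  · -- hlocus
    intro Q hQ hfQ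
    set 𝔮 : Ideal Γ(X, W.1) := Q.comap (X.presheaf.germ W.1 x hxW).hom with h𝔮
    haveI : 𝔮.IsPrime := Ideal.comap_isPrime _ Q
    set p : PrimeSpectrum Γ(X, W.1) := ⟨𝔮, inferInstance⟩ with hp
    have hyW := fromSpec_mem W.2 p
    have hpr := primeIdealOf_fromSpec W.2 p
    have hDQ : stalkIdeal D x ≤ Q := by
      rw [hDf, Ideal.span_singleton_le_iff_mem]; exact hfQ
    have hy : W.2.fromSpec p ∈ D.support := by
      apply mem_support_of_ideal_le_pr W hyW
      show D.ideal W ≤ (W.2.primeIdealOf ⟨_, hyW⟩).asIdeal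
      rw [hpr]
      show D.ideal W ≤ 𝔮
      rw [h𝔮, ← Ideal.map_le_iff_le_comap, ← stalkIdeal_eq D W x hxW]
      exact hDQ
    have := hsub hy
    simp only [Set.mem_iUnion] at this
    obtain ⟨E, hE, hyE⟩ := this
    refine ⟨E, hE, ?_⟩
    have h1 := ideal_le_pr_of_mem_support hyE W hyW
    have h2 : E.ideal W ≤ 𝔮 := by
      have h3 : pr W.2 (W.2.fromSpec p) hyW = 𝔮 := congrArg PrimeSpectrum.asIdeal hpr
      rw [h3] at h1; exact h1
    have h4 : stalkIdeal E x ≤ Q := by
      rw [stalkIdeal_eq E W x hxW, Ideal.map_le_iff_le_comap]; exact h2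
    rw [(hπ E hE).2, Ideal.span_singleton_le_iff_mem] at h4
    exact h4
  · -- hb
    intro E hE hnu
    haveI := hint E hE
    have hx : x ∈ E.support := by
      by_contra h; exact hnu ((hunit_iff E hE).2 h)
    have h1 := sSup_pow_spec (stalkIdeal D x) (stalkIdeal E x) f hf hDf
      (stalkIdeal_ne_top_of_mem hx)
    have h2 : a E = sSup {n | stalkIdeal D x ≤ stalkIdeal E x ^ n} := by
      rw [ha E hE inferInstance, ← ordAt_eq_ordAt_gen D E (hs E hE) hx]; rfl
    rw [← h2, hDf, (hπ E hE).2, Ideal.span_singleton_pow, Ideal.span_singleton_pow,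
      Ideal.span_singleton_le_span_singleton, Ideal.span_singleton_le_span_singleton] at h1
    exact h1

/-- S1659 for a finite set of (distinct) integral effective Cartier divisors. -/
theorem eq_prod_pow_finset [IsLocallyNoetherian X] (D : X.IdealSheafData)
    (hD : BlowUp.IsEffCartierIdeal D) (s : Finset X.IdealSheafData)
    (hs : ∀ E ∈ s, BlowUp.IsEffCartierIdeal E) (hint : ∀ E ∈ s, IsIntegral E.subscheme)
    (hsub : (D.support : Set X) ⊆ ⋃ E ∈ s, (E.support : Set X)) :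
    ∃ a : X.IdealSheafData → ℕ, D = ∏ E ∈ s, E ^ a E := by
  classical
  refine ⟨fun E => if h : IsIntegral E.subscheme then (haveI := h; ordAt D E (gen E)) else 0, ?_⟩
  apply ext_of_stalkIdeal_eq
  intro x
  rw [stalkIdeal_prod]
  simp_rw [stalkIdeal_pow]
  apply stalkIdeal_eq_prod D hD s hs hint hsub
  intro E _ hE
  rw [dif_pos hE]

/-- S1659. -/
theorem eq_prod_pow [IsLocallyNoetherian X] (D : X.IdealSheafData)
    (hD : BlowUp.IsEffCartierIdeal D) (r : ℕ) (Ds : Fin r → X.IdealSheafData)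
    (hDs : ∀ i, BlowUp.IsEffCartierIdeal (Ds i)) (hint : ∀ i, IsIntegral (Ds i).subscheme)
    (hsub : (D.support : Set X) ⊆ ⋃ i, ((Ds i).support : Set X)) :
    ∃ a : Fin r → ℕ, D = ∏ i, Ds i ^ a i := by
  classical
  set s : Finset X.IdealSheafData := Finset.univ.image Ds with hs
  have hmem : ∀ E ∈ s, ∃ i, Ds i = E := by
    intro E hE
    rw [hs, Finset.mem_image] at hE
    obtain ⟨i, -, hi⟩ := hE
    exact ⟨i, hi⟩
  obtain ⟨a₀, ha₀⟩ := eq_prod_pow_finset D hD s
    (fun E hE => by obtain ⟨i, rfl⟩ := hmem E hE; exact hDs i)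
    (fun E hE => by obtain ⟨i, rfl⟩ := hmem E hE; exact hint i)
    (by
      intro x hx
      have := hsub hx
      simp only [Set.mem_iUnion] at this ⊢
      obtain ⟨i, hi⟩ := this
      exact ⟨Ds i, Finset.mem_image_of_mem _ (Finset.mem_univ i), hi⟩)
  refine ⟨fun i => if ∀ j, Ds j = Ds i → i ≤ j then a₀ (Ds i) else 0, ?_⟩
  rw [ha₀, hs]
  apply Finset.prod_image'
  intro i _
  set F : Finset (Fin r) := Finset.univ.filter (fun j => Ds j = Ds i) with hF
  have hne : F.Nonempty := ⟨i, by rw [hF, Finset.mem_filter]; exact ⟨Finset.mem_univ i, rfl⟩⟩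
  set j₀ := F.min' hne with hj₀
  have hj₀F : j₀ ∈ F := Finset.min'_mem F hne
  have hj₀i : Ds j₀ = Ds i := by
    rw [hF, Finset.mem_filter] at hj₀F; exact hj₀F.2
  rw [Finset.prod_eq_single j₀]
  · have hcond : ∀ k, Ds k = Ds j₀ → j₀ ≤ k := by
      intro k hk
      apply Finset.min'_le
      rw [hF, Finset.mem_filter]
      exact ⟨Finset.mem_univ k, hk.trans hj₀i⟩
    beta_reduce
    rw [if_pos hcond, hj₀i]
  · intro j hjF hne'
    have hji : Ds j = Ds i := by
      rw [hF, Finset.mem_filter] at hjF; exact hjF.2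
    have hcond : ¬ ∀ k, Ds k = Ds j → j ≤ k := by
      intro hall
      have h1 : j ≤ j₀ := hall j₀ (hj₀i.trans hji.symm)
      have h2 : j₀ ≤ j := Finset.min'_le F j hjF
      exact hne' (le_antisymm h1 h2)
    beta_reduce
    rw [if_neg hcond, pow_zero]
  · intro h; exact absurd hj₀F h

end Groth.Agent.Lib.Helper21.ProdDiv
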