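import Groth.Prelude.Def_BlowUp2
import Mathlib.AlgebraicGeometry.IdealSheaf.Subscheme
import Mathlib.AlgebraicGeometry.Pullbacks
import Groth.Agent.Lib.Helper21.CartierDescAlg
import Groth.Agent.Lib.Helper21.ProdDiv
import Groth.Agent.Lib.Helper18.IdealComap
import Mathlib.AlgebraicGeometry.Morphisms.Flat

set_option autoImplicit false
universe u
open CategoryTheory CategoryTheory.Limits AlgebraicGeometry TopologicalSpace

namespace Groth.Agent.Lib.Helper21.CartierDesc

open Groth.Agent.Lib.Helper21.ProdDiv Groth.Agent.Lib.Helper21.EffCartierUFD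
  Groth.Agent.Lib.Helper21.ExtendCartier

variable {X Y : Scheme.{u}}

/-- The stalk of an inverse image ideal sheaf is the extension of the stalk. -/
theorem stalkIdeal_comap (f : Y ⟶ X) (𝓘 : X.IdealSheafData) (y : Y) :
    stalkIdeal (𝓘.comap f) y = (stalkIdeal 𝓘 (f y)).map (f.stalkMap y).hom := by
  obtain ⟨U, V, hyU, hUV⟩ := Groth.Agent.Lib.Helper18.exists_affineOpens_le_preimage f y
  have hV : f y ∈ V.1 := hUV hyU
  rw [stalkIdeal_eq _ U y hyU, stalkIdeal_eq _ V (f y) hV,
    Groth.Agent.Lib.Helper18.ideal_comap_of_le f 𝓘 U V hUV, Ideal.map_map, Ideal.map_map]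
  congr 1
  rw [← CommRingCat.hom_comp, ← CommRingCat.hom_comp]
  congr 1
  rw [Scheme.Hom.germ_stalkMap, Scheme.Hom.appLE, Category.assoc]
  congr 1
  exact (Y.presheaf.germ_res (homOfLE hUV) y hyU)

theorem isEffCartierIdeal_of_comap_of_flat_surjective [IsLocallyNoetherian X] (f : Y ⟶ X)
    [Flat f] [Surjective f] (𝓘 : X.IdealSheafData) (h : BlowUp.IsEffCartierIdeal (𝓘.comap f)) :
    BlowUp.IsEffCartierIdeal 𝓘 := by
  intro x
  obtain ⟨y, rfl⟩ := f.surjective x
  obtain ⟨U, hyU, g, hg, hU⟩ := h y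
  obtain ⟨t, ht, htI⟩ := exists_stalk_generator (𝓘.comap f) U y hyU g hg hU U hyU
  rw [← stalkIdeal_eq, stalkIdeal_comap] at htI
  letI : Algebra (X.presheaf.stalk (f y)) (Y.presheaf.stalk y) := (f.stalkMap y).hom.toAlgebra
  haveI : Module.Flat (X.presheaf.stalk (f y)) (Y.presheaf.stalk y) := Flat.stalkMap f y
  haveI : IsLocalHom (algebraMap (X.presheaf.stalk (f y)) (Y.presheaf.stalk y)) :=
    f.toLRSHom.prop y
  haveI : Module.FaithfullyFlat (X.presheaf.stalk (f y)) (Y.presheaf.stalk y) :=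
    Module.FaithfullyFlat.of_flat_of_isLocalHom
  obtain ⟨a, ha, haI⟩ := exists_generator_of_map_principal (stalkIdeal 𝓘 (f y)) t ht htI
  obtain ⟨W, hW⟩ := exists_affine_mem (f y)
  exact exists_generator_of_stalk 𝓘 W (f y) hW a ha (by rw [← stalkIdeal_eq, haI])

end Groth.Agent.Lib.Helper21.CartierDesc
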