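import Groth.Prelude.Def_BlowUp2
import Mathlib.AlgebraicGeometry.Noetherian
import Mathlib.AlgebraicGeometry.Morphisms.Separated
import Mathlib.RingTheory.UniqueFactorizationDomain.Basic
import Groth.Agent.Lib.Helper21.ProdDiv
import Groth.Agent.Lib.Helper64.AffineComplement

set_option autoImplicit false
universe u
open CategoryTheory CategoryTheory.Limits AlgebraicGeometry TopologicalSpace

namespace Groth.Agent.Lib.Helper21.ComplDivisor

open Groth.Agent.Lib.Helper21.Chart Groth.Agent.Lib.Helper21.EffCartierUFD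
  Groth.Agent.Lib.Helper21.ExtendCartier Groth.Agent.Lib.Helper21.LocFactorial
  Groth.Agent.Lib.Helper21.ProdDiv Submodule

/-- In a Noetherian ring, associated primes of the quotient by a radical ideal are minimal primes of
the ideal. -/
theorem mem_minimalPrimes_of_mem_associatedPrimes_of_isRadical {A : Type u} [CommRing A]
    [IsNoetherianRing A] (I : Ideal A) (hI : I.IsRadical) (𝔮 : Ideal A)
    (h𝔮 : 𝔮 ∈ associatedPrimes A (A ⧸ I)) : 𝔮 ∈ I.minimalPrimes := by
  classical
  haveI h𝔮prime : 𝔮.IsPrime := h𝔮.isPrime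
  rw [AssociatedPrimes.mem_iff, isAssociatedPrime_iff] at h𝔮
  obtain ⟨-, m, hm⟩ := h𝔮
  obtain ⟨a, rfl⟩ := Submodule.Quotient.mk_surjective _ m
  have hmem : ∀ r, r ∈ 𝔮 ↔ r * a ∈ I := by
    intro r
    rw [hm, mem_colon_singleton, Submodule.mem_bot, ← Submodule.Quotient.mk_smul,
      Submodule.Quotient.mk_eq_zero, smul_eq_mul]
  have haI : a ∉ I := by
    intro ha
    apply h𝔮prime.ne_top
    rw [Ideal.eq_top_iff_one, hmem, one_mul]; exact ha
  have hfin : I.minimalPrimes.Finite := Ideal.finite_minimalPrimes_of_isNoetherianRing A I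
  have hInf : sInf I.minimalPrimes = I := by rw [Ideal.sInf_minimalPrimes, hI.radical]
  -- the set of minimal primes not containing a
  set S : Set (Ideal A) := {P ∈ I.minimalPrimes | a ∉ P} with hS
  have hSfin : S.Finite := hfin.subset (fun P hP => hP.1)
  have h𝔮S : 𝔮 = sInf S := by
    ext r
    rw [hmem, ← hInf, Ideal.mem_sInf, Ideal.mem_sInf]
    constructor
    · intro h P hP
      have hPprime : P.IsPrime := hP.1.1.1
      exact (hPprime.mem_or_mem (h hP.1)).resolve_right hP.2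
    · intro h P hP
      by_cases haP : a ∈ P
      · exact P.mul_mem_left r haP
      · exact P.mul_mem_right a (h ⟨hP, haP⟩)
  -- 𝔮 contains one of them
  have hex : ∃ P ∈ S, P ≤ 𝔮 := by
    have h1 : sInf S ≤ 𝔮 := h𝔮S.ge
    have h2 : (hSfin.toFinset.inf id) ≤ 𝔮 := by
      refine le_trans ?_ h1
      rw [le_sInf_iff]
      intro P hP
      exact Finset.inf_le (f := id) (hSfin.mem_toFinset.2 hP)
    obtain ⟨P, hP, hle⟩ := (Ideal.IsPrime.inf_le' h𝔮prime).1 h2
    exact ⟨P, hSfin.mem_toFinset.1 hP, hle⟩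
  obtain ⟨P, hPS, hP𝔮⟩ := hex
  have h𝔮P : 𝔮 ≤ P := by rw [h𝔮S]; exact sInf_le hPS
  rw [le_antisymm h𝔮P hP𝔮]
  exact hPS.1

variable {X : Scheme.{u}}

/-- Associated primes of the reduced structure on a closed set are maximal points of the set. -/
theorem fromSpec_mem_and_maximal [IsLocallyNoetherian X] (Z : Closeds X) (W : X.affineOpens)
    (𝔮 : Ideal Γ(X, W.1))
    (h𝔮 : 𝔮 ∈ associatedPrimes Γ(X, W.1)
      (Γ(X, W.1) ⧸ (Scheme.IdealSheafData.vanishingIdeal Z).ideal W)) :
    W.2.fromSpec ⟨𝔮, h𝔮.isPrime⟩ ∈ (Z : Set X) ∧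
      ∀ y : X, y ∈ (Z : Set X) → y ⤳ W.2.fromSpec ⟨𝔮, h𝔮.isPrime⟩ →
        y = W.2.fromSpec ⟨𝔮, h𝔮.isPrime⟩ := by
  haveI : IsNoetherianRing Γ(X, W.1) := IsLocallyNoetherian.component_noetherian W
  haveI h𝔮prime : 𝔮.IsPrime := h𝔮.isPrime
  set D := Scheme.IdealSheafData.vanishingIdeal Z with hD
  have hsupp : (D.support : Set X) = (Z : Set X) := Scheme.IdealSheafData.coe_support_vanishingIdeal Z
  have hrad : (D.ideal W).IsRadical := by
    rw [hD, Scheme.IdealSheafData.vanishingIdeal_ideal]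
    exact PrimeSpectrum.isRadical_vanishingIdeal _
  have hmin := mem_minimalPrimes_of_mem_associatedPrimes_of_isRadical _ hrad 𝔮 h𝔮
  set p : PrimeSpectrum Γ(X, W.1) := ⟨𝔮, h𝔮prime⟩ with hp
  have hyW : W.2.fromSpec p ∈ W.1 := fromSpec_mem W.2 p
  have hpr : W.2.primeIdealOf ⟨W.2.fromSpec p, hyW⟩ = p := primeIdealOf_fromSpec W.2 p
  have hpr' : pr W.2 (W.2.fromSpec p) hyW = 𝔮 := congrArg PrimeSpectrum.asIdeal hpr
  constructor
  · rw [← hsupp]
    apply mem_support_of_ideal_le_pr W hyW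
    rw [hpr']
    exact hmin.1.2
  · intro y hyZ hspec
    have hyW' : y ∈ W.1 := hspec.mem_open W.1.2 hyW
    have h1 : D.ideal W ≤ pr W.2 y hyW' := by
      apply ideal_le_pr_of_mem_support _ W hyW'
      show y ∈ (D.support : Set X)
      rw [hsupp]; exact hyZ
    have h2 : pr W.2 y hyW' ≤ pr W.2 (W.2.fromSpec p) hyW := pr_le_of_specializes W.2 hyW hspec
    rw [hpr'] at h2
    have h3 : 𝔮 ≤ pr W.2 y hyW' := hmin.2 ⟨inferInstance, h1⟩ h2
    have h4 : W.2.primeIdealOf ⟨y, hyW'⟩ = W.2.primeIdealOf ⟨W.2.fromSpec p, hyW⟩ := by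
      rw [hpr]
      exact PrimeSpectrum.ext (le_antisymm h2 h3)
    have h5 := congrArg W.2.fromSpec h4
    rwa [W.2.fromSpec_primeIdealOf, W.2.fromSpec_primeIdealOf] at h5

/-- S1572 / S1687: the reduced structure on the complement of a dense open with affine inclusion
is an effective Cartier divisor when the local rings outside are factorial. -/
theorem exists_effCartier_support_eq_compl [IsLocallyNoetherian X] (U : X.Opens)
    [IsAffineHom U.ι] (hdense : Dense (U : Set X))
    (hufd : ∀ x : X, x ∉ U →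
      IsDomain (X.presheaf.stalk x) ∧ UniqueFactorizationMonoid (X.presheaf.stalk x)) :
    ∃ D : X.IdealSheafData, BlowUp.IsEffCartierIdeal D ∧ (D.support : Set X) = (U : Set X)ᶜ := by
  set Z : Closeds X := ⟨(U : Set X)ᶜ, U.2.isClosed_compl⟩ with hZ
  set D := Scheme.IdealSheafData.vanishingIdeal Z with hD
  have hsupp : (D.support : Set X) = (U : Set X)ᶜ :=
    Scheme.IdealSheafData.coe_support_vanishingIdeal Z
  refine ⟨D, ?_, hsupp⟩
  intro x
  by_cases hxs : x ∈ D.support
  swap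
  · exact exists_generator_of_notMem_support D x hxs
  have hxU : x ∉ U := by
    have : x ∈ (D.support : Set X) := hxs
    rw [hsupp] at this
    exact this
  obtain ⟨hdom, hufm⟩ := hufd x hxU
  obtain ⟨_, ⟨W, hW : IsAffineOpen W, rfl⟩, hxW, -⟩ :=
    X.isBasis_affineOpens.exists_subset_of_mem_open (Set.mem_univ x) isOpen_univ
  haveI : IsNoetherianRing Γ(X, W) := IsLocallyNoetherian.component_noetherian ⟨W, hW⟩
  letI : Algebra Γ(X, W) (X.presheaf.stalk x) :=
    TopCat.Presheaf.algebra_section_stalk X.presheaf ⟨x, hxW⟩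
  haveI hloc : IsLocalization.AtPrime (X.presheaf.stalk x)
      (hW.primeIdealOf ⟨x, hxW⟩).asIdeal := hW.isLocalization_stalk ⟨x, hxW⟩
  haveI : IsNoetherianRing (X.presheaf.stalk x) :=
    IsLocalization.isNoetherianRing (hW.primeIdealOf ⟨x, hxW⟩).asIdeal.primeCompl _ inferInstance
  set J := (D.ideal ⟨W, hW⟩).map (algebraMap Γ(X, W) (X.presheaf.stalk x)) with hJ
  have hJtop : J ≠ ⊤ := by
    have := stalkIdeal_ne_top_of_mem hxs
    rwa [stalkIdeal_eq D ⟨W, hW⟩ x hxW] at this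
  have hht : ∀ P ∈ associatedPrimes (X.presheaf.stalk x) (X.presheaf.stalk x ⧸ J), P.height = 1 :=
    fun P hP => height_eq_one_of_mem_associatedPrimes_map
      (hW.primeIdealOf ⟨x, hxW⟩).asIdeal.primeCompl (D.ideal ⟨W, hW⟩)
      (fun 𝔮 h𝔮 => by
        obtain ⟨h1, h2⟩ := fromSpec_mem_and_maximal Z ⟨W, hW⟩ 𝔮 h𝔮
        haveI : 𝔮.IsPrime := h𝔮.isPrime
        set p : PrimeSpectrum Γ(X, W) := ⟨𝔮, h𝔮.isPrime⟩ with hp
        have hyW : hW.fromSpec p ∈ W := fromSpec_mem hW p
        have hpr' : pr hW (hW.fromSpec p) hyW = 𝔮 :=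
          congrArg PrimeSpectrum.asIdeal (primeIdealOf_fromSpec hW p)
        have hdim := Groth.Agent.Lib.Helper64.AffineComplement.ringKrullDim_stalk_eq_one X U
          (hW.fromSpec p) h1 (fun y hy hspec => h2 y hy hspec) (hdense _)
        rw [ringKrullDim_stalk hW _ hyW, hpr'] at hdim
        exact_mod_cast hdim) P hP
  obtain ⟨g, hg0, hg⟩ := exists_eq_span_singleton_of_associatedPrimes_height_one J hJtop hht
  exact exists_generator_of_stalk D ⟨W, hW⟩ x hxW g (mem_nonZeroDivisors_of_ne_zero hg0) hg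

theorem isAffineHom_ι_of_isSeparated (X : Scheme.{u}) [X.IsSeparated] (U : X.Opens)
    (hU : IsAffineOpen U) : IsAffineHom U.ι := by
  haveI : IsAffine U := hU
  haveI : IsAffineHom (U.ι ≫ terminal.from X) := by
    rw [HasAffineProperty.iff_of_isAffine (P := @IsAffineHom)]
    infer_instance
  exact IsAffineHom.of_comp U.ι (terminal.from X)

theorem isAffineHom_ι_of_inf (X : Scheme.{u})
    (hΔ : ∀ V W : X.Opens, IsAffineOpen V → IsAffineOpen W → IsAffineOpen (V ⊓ W)) (U : X.Opens)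
    (hU : IsAffineOpen U) : IsAffineHom U.ι := by
  constructor
  intro V hV
  rw [← U.ι.isAffineOpen_iff_of_isOpenImmersion, U.ι.image_preimage_eq_opensRange_inf,
    Scheme.Opens.opensRange_ι]
  exact hΔ U V hU hV

end Groth.Agent.Lib.Helper21.ComplDivisor
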