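import Mathlib.AlgebraicGeometry.Morphisms.QuasiCompact
import Mathlib.AlgebraicGeometry.Morphisms.QuasiSeparated
import Mathlib.AlgebraicGeometry.Limits

/-!
# Coproduct inclusions are closed embeddings; quasi-compactness and quasi-separatedness
of `coprod.desc`
-/

set_option autoImplicit false
universe u
open AlgebraicGeometry CategoryTheory CategoryTheory.Limits

namespace Groth.Agent.Lib.Helper21

theorem isClosedEmbedding_coprod_inl (X Y : Scheme.{u}) :
    Topology.IsClosedEmbedding (coprod.inl : X ⟶ X ⨿ Y) := by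
  have : ((coprod.inl : X ⟶ X ⨿ Y) : X → (X ⨿ Y : Scheme.{u})) = coprodMk X Y ∘ Sum.inl := by
    ext x; simp [coprodMk_inl]
  rw [this]
  exact (coprodMk X Y).isClosedEmbedding.comp Topology.IsClosedEmbedding.inl

theorem isClosedEmbedding_coprod_inr (X Y : Scheme.{u}) :
    Topology.IsClosedEmbedding (coprod.inr : Y ⟶ X ⨿ Y) := by
  have : ((coprod.inr : Y ⟶ X ⨿ Y) : Y → (X ⨿ Y : Scheme.{u})) = coprodMk X Y ∘ Sum.inr := by
    ext x; simp [coprodMk_inr]
  rw [this]
  exact (coprodMk X Y).isClosedEmbedding.comp Topology.IsClosedEmbedding.inr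

instance quasiCompact_coprod_inl (X Y : Scheme.{u}) : QuasiCompact (coprod.inl : X ⟶ X ⨿ Y) :=
  ⟨fun _ _ hU ↦ (isClosedEmbedding_coprod_inl X Y).isCompact_preimage hU⟩

instance quasiCompact_coprod_inr (X Y : Scheme.{u}) : QuasiCompact (coprod.inr : Y ⟶ X ⨿ Y) :=
  ⟨fun _ _ hU ↦ (isClosedEmbedding_coprod_inr X Y).isCompact_preimage hU⟩

/-- Every subset of a binary coproduct of schemes is the union of the images of its two traces. -/
theorem coprod_eq_union_image_preimage {X Y : Scheme.{u}} (s : Set ↥(X ⨿ Y : Scheme.{u})) :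
    s = (coprod.inl : X ⟶ X ⨿ Y) '' ((coprod.inl : X ⟶ X ⨿ Y) ⁻¹' s) ∪
      (coprod.inr : Y ⟶ X ⨿ Y) '' ((coprod.inr : Y ⟶ X ⨿ Y) ⁻¹' s) := by
  ext x
  obtain ⟨x | x, rfl⟩ := (coprodMk X Y).surjective x
  · simp only [coprodMk_inl, Set.mem_union, Set.mem_image, Set.mem_preimage]
    constructor
    · intro hx; exact Or.inl ⟨x, hx, rfl⟩
    · rintro (⟨y, hy, e⟩ | ⟨y, hy, e⟩)
      · rwa [← e]
      · rwa [← e]
  · simp only [coprodMk_inr, Set.mem_union, Set.mem_image, Set.mem_preimage]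
    constructor
    · intro hx; exact Or.inr ⟨x, hx, rfl⟩
    · rintro (⟨y, hy, e⟩ | ⟨y, hy, e⟩)
      · rwa [← e]
      · rwa [← e]

/-- A subset of a binary coproduct of schemes is compact iff both of its traces are. -/
theorem isCompact_coprod_iff {X Y : Scheme.{u}} (s : Set ↥(X ⨿ Y : Scheme.{u})) :
    IsCompact s ↔ IsCompact ((coprod.inl : X ⟶ X ⨿ Y) ⁻¹' s) ∧
      IsCompact ((coprod.inr : Y ⟶ X ⨿ Y) ⁻¹' s) := by
  constructor
  · intro h
    exact ⟨(isClosedEmbedding_coprod_inl X Y).isCompact_preimage h,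
      (isClosedEmbedding_coprod_inr X Y).isCompact_preimage h⟩
  · rintro ⟨h1, h2⟩
    rw [coprod_eq_union_image_preimage s]
    exact (h1.image (coprod.inl : X ⟶ X ⨿ Y).continuous).union
      (h2.image (coprod.inr : Y ⟶ X ⨿ Y).continuous)

/-- A subset of a binary coproduct of schemes is quasi-separated if both of its traces are. -/
theorem isQuasiSeparated_coprod {X Y : Scheme.{u}} (s : Set ↥(X ⨿ Y : Scheme.{u}))
    (h1 : IsQuasiSeparated ((coprod.inl : X ⟶ X ⨿ Y) ⁻¹' s))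
    (h2 : IsQuasiSeparated ((coprod.inr : Y ⟶ X ⨿ Y) ⁻¹' s)) : IsQuasiSeparated s := by
  intro U V hU hU' hU'' hV hV' hV''
  rw [isCompact_coprod_iff] at hU'' hV'' ⊢
  rw [Set.preimage_inter, Set.preimage_inter]
  exact ⟨h1 _ _ (Set.preimage_mono hU) (hU'.preimage (coprod.inl : X ⟶ X ⨿ Y).continuous) hU''.1
      (Set.preimage_mono hV) (hV'.preimage (coprod.inl : X ⟶ X ⨿ Y).continuous) hV''.1,
    h2 _ _ (Set.preimage_mono hU) (hU'.preimage (coprod.inr : Y ⟶ X ⨿ Y).continuous) hU''.2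
      (Set.preimage_mono hV) (hV'.preimage (coprod.inr : Y ⟶ X ⨿ Y).continuous) hV''.2⟩

theorem quasiCompact_coprod_desc_iff {X' X'' Y : Scheme.{u}} (f' : X' ⟶ Y) (f'' : X'' ⟶ Y) :
    QuasiCompact (coprod.desc f' f'') ↔ QuasiCompact f' ∧ QuasiCompact f'' := by
  constructor
  · intro h
    constructor
    · rw [← coprod.inl_desc f' f'']; infer_instance
    · rw [← coprod.inr_desc f' f'']; infer_instance
  · rintro ⟨h', h''⟩
    constructor
    intro U hU hU'
    rw [isCompact_coprod_iff]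
    rw [← Set.preimage_comp, ← Set.preimage_comp, ← TopCat.coe_comp, ← TopCat.coe_comp,
      ← Scheme.Hom.comp_base, ← Scheme.Hom.comp_base, coprod.inl_desc, coprod.inr_desc]
    exact ⟨h'.isCompact_preimage U hU hU', h''.isCompact_preimage U hU hU'⟩

/-- A morphism is quasi-separated iff preimages of affine opens are quasi-separated. -/
theorem quasiSeparated_iff_forall_affineOpens {X Y : Scheme.{u}} (f : X ⟶ Y) :
    QuasiSeparated f ↔ ∀ U : Y.affineOpens, IsQuasiSeparated ((f ⁻¹ᵁ U : X.Opens) : Set X) := by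
  rw [HasAffineProperty.iff_of_iSup_eq_top (P := @QuasiSeparated) (fun i : Y.affineOpens ↦ i)
    (iSup_affineOpens_eq_top Y)]
  refine forall_congr' fun U ↦ ?_
  exact (isQuasiSeparated_iff_quasiSeparatedSpace _ (f ⁻¹ᵁ U.1).2).symm

theorem quasiSeparated_coprod_desc_iff {X' X'' Y : Scheme.{u}} (f' : X' ⟶ Y) (f'' : X'' ⟶ Y) :
    QuasiSeparated (coprod.desc f' f'') ↔ QuasiSeparated f' ∧ QuasiSeparated f'' := by
  constructor
  · intro h
    constructor
    · rw [← coprod.inl_desc f' f'']; infer_instance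
    · rw [← coprod.inr_desc f' f'']; infer_instance
  · rintro ⟨h', h''⟩
    rw [quasiSeparated_iff_forall_affineOpens] at h' h'' ⊢
    intro U
    refine isQuasiSeparated_coprod _ ?_ ?_
    · have e : f' ⁻¹ᵁ U.1 = (coprod.inl : X' ⟶ X' ⨿ X'') ⁻¹ᵁ (coprod.desc f' f'' ⁻¹ᵁ U.1) := by
        rw [← Scheme.Hom.comp_preimage, coprod.inl_desc]
      have := h' U
      rw [e] at this
      exact this
    · have e : f'' ⁻¹ᵁ U.1 = (coprod.inr : X'' ⟶ X' ⨿ X'') ⁻¹ᵁ (coprod.desc f' f'' ⁻¹ᵁ U.1) := by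
        rw [← Scheme.Hom.comp_preimage, coprod.inr_desc]
      have := h'' U
      rw [e] at this
      exact this

end Groth.Agent.Lib.Helper21
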