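import Groth.Prelude.Def_EGA41
import Groth.Prelude.Def_Exal2
import Mathlib.RingTheory.Kaehler.Basic
import Mathlib.Algebra.Module.Projective

/-!
# Lifting derivations along surjections, for adically formally smooth algebras (helper21)

`DerLift.derHom D : B →ₐ[A] C ⊕ L`, `b ↦ (b, D b)`, for an `A`-derivation `D : B → L` into a module over
a `B`-algebra `C`, and `DerLift.exists_derivation_lift`: if `B` is formally smooth over `A` for adic
topologies and `C` is discrete, derivations `B → N` lift along surjections `M → N` of `C`-modules.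
-/

set_option autoImplicit false
universe u

namespace Groth.Agent.Lib.Helper21

namespace DerLift

attribute [local instance] Exal.opModule Exal.isCentralScalar_opModule

variable {A B C : Type u} [CommRing A] [CommRing B] [CommRing C] [Algebra A B] [Algebra A C]
  [Algebra B C] [IsScalarTower A B C]

/-- With the opposite action of `Exal.opModule`, `A`-scalars still commute past `Cᵐᵒᵖ`. -/
theorem isScalarTower_op (L : Type u) [AddCommGroup L] [Module C L] [Module A L]
    [IsScalarTower A C L] : IsScalarTower A Cᵐᵒᵖ L :=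
  ⟨fun a c m => by
    change (a • c.unop) • m = a • (c.unop • m)
    rw [smul_assoc]⟩

attribute [local instance] isScalarTower_op

variable {L : Type u} [AddCommGroup L] [Module C L] [Module B L] [Module A L]
  [IsScalarTower B C L] [IsScalarTower A B L] [IsScalarTower A C L]

/-- `b ↦ (b, D b)` as an `A`-algebra map `B → C ⊕ L`. -/
noncomputable def derHom (D : Derivation A B L) : B →ₐ[A] TrivSqZeroExt C L :=
  { Exal.Ext.derivationHom (C := C) D with
    commutes' := fun a => by
      change TrivSqZeroExt.inl (algebraMap B C (algebraMap A B a)) +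
        TrivSqZeroExt.inr (D (algebraMap A B a)) = TrivSqZeroExt.inl (algebraMap A C a)
      rw [Derivation.map_algebraMap, TrivSqZeroExt.inr_zero, add_zero,
        ← IsScalarTower.algebraMap_apply A B C] }

lemma derHom_apply (D : Derivation A B L) (b : B) :
    derHom (C := C) D b = TrivSqZeroExt.inl (algebraMap B C b) + TrivSqZeroExt.inr (D b) := rfl

lemma fst_derHom (D : Derivation A B L) (b : B) :
    TrivSqZeroExt.fst (derHom (C := C) D b) = algebraMap B C b := by
  rw [derHom_apply]; simp

lemma snd_derHom (D : Derivation A B L) (b : B) :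
    TrivSqZeroExt.snd (derHom (C := C) D b) = D b := by
  rw [derHom_apply]; simp

/-- `derHom D` kills `I ^ 2` if `I` dies in `C`. -/
lemma derHom_eq_zero_of_mem_sq (D : Derivation A B L) (I : Ideal B)
    (hI : ∀ x ∈ I, algebraMap B C x = 0) (x : B) (hx : x ∈ I ^ 2) : derHom (C := C) D x = 0 := by
  rw [pow_two] at hx
  refine Submodule.mul_induction_on hx ?_ ?_
  · intro y hy z hz
    rw [map_mul, derHom_apply, derHom_apply, hI y hy, hI z hz, TrivSqZeroExt.inl_zero, zero_add,
      zero_add, TrivSqZeroExt.inr_mul_inr]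
  · intro y z hy hz
    rw [map_add, hy, hz, add_zero]

variable {M N : Type u} [AddCommGroup M] [Module C M] [Module B M] [Module A M]
  [IsScalarTower B C M] [IsScalarTower A B M] [IsScalarTower A C M]
  [AddCommGroup N] [Module C N] [Module B N] [Module A N]
  [IsScalarTower B C N] [IsScalarTower A B N] [IsScalarTower A C N]

/-- Formal smoothness lifts derivations along surjections of modules over a discrete quotient. -/
theorem exists_derivation_lift {𝔞 : Ideal A} {𝔟 : Ideal B}
    (hfs : EGA41.IsFormallySmoothAdic A 𝔞 B 𝔟)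
    (hC : ∃ k : ℕ, (𝔞 ^ k).map (algebraMap A C) = ⊥)
    (h𝔟 : ∃ n : ℕ, ∀ x ∈ 𝔟 ^ n, algebraMap B C x = 0)
    (f : M →ₗ[C] N) (hf : Function.Surjective f) (D : Derivation A B N) :
    ∃ D' : Derivation A B M, ∀ b, f (D' b) = D b := by
  let φ : TrivSqZeroExt C M →ₐ[A] TrivSqZeroExt C N := (TrivSqZeroExt.map f).restrictScalars A
  have hφfst : ∀ x, TrivSqZeroExt.fst (φ x) = TrivSqZeroExt.fst x := fun x =>
    TrivSqZeroExt.fst_map f x
  have hφsnd : ∀ x, TrivSqZeroExt.snd (φ x) = f (TrivSqZeroExt.snd x) := fun x =>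
    TrivSqZeroExt.snd_map f x
  have hφ : Function.Surjective φ := by
    intro y
    obtain ⟨m, hm⟩ := hf y.snd
    refine ⟨TrivSqZeroExt.inl y.fst + TrivSqZeroExt.inr m, ?_⟩
    apply TrivSqZeroExt.ext
    · rw [hφfst]; simp
    · rw [hφsnd]; simp [hm]
  let J : Ideal (TrivSqZeroExt C M) := RingHom.ker φ.toRingHom
  have hJ : IsNilpotent J := by
    refine ⟨2, ?_⟩
    rw [pow_two, Ideal.zero_eq_bot, eq_bot_iff, Ideal.mul_le]
    intro x hx y hy
    have hx' : TrivSqZeroExt.fst x = 0 := by
      have : φ x = 0 := hx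
      rw [← hφfst, this, TrivSqZeroExt.fst_zero]
    have hy' : TrivSqZeroExt.fst y = 0 := by
      have : φ y = 0 := hy
      rw [← hφfst, this, TrivSqZeroExt.fst_zero]
    rw [Ideal.mem_bot]
    apply TrivSqZeroExt.ext
    · simp [hx']
    · simp [hx', hy']
  let e : (TrivSqZeroExt C M ⧸ J) ≃ₐ[A] TrivSqZeroExt C N :=
    Ideal.quotientKerAlgEquivOfSurjective hφ
  have he : ∀ x : TrivSqZeroExt C M, e (Ideal.Quotient.mk J x) = φ x := fun x => rfl
  let u : B →ₐ[A] TrivSqZeroExt C M ⧸ J := (e.symm : _ →ₐ[A] _).comp (derHom (C := C) D)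
  have hCE : ∃ k : ℕ, (𝔞 ^ k).map (algebraMap A (TrivSqZeroExt C M)) = ⊥ := by
    obtain ⟨k, hk⟩ := hC
    refine ⟨k, ?_⟩
    rw [IsScalarTower.algebraMap_eq A C (TrivSqZeroExt C M), ← Ideal.map_map, hk, Ideal.map_bot]
  have hu : ∃ k : ℕ, ∀ x ∈ 𝔟 ^ k, u x = 0 := by
    obtain ⟨n, hn⟩ := h𝔟
    refine ⟨n * 2, fun x hx => ?_⟩
    rw [pow_mul] at hx
    change e.symm (derHom (C := C) D x) = 0
    rw [derHom_eq_zero_of_mem_sq D (𝔟 ^ n) hn x hx, map_zero]
  obtain ⟨v, hv⟩ := hfs (TrivSqZeroExt C M) J hJ hCE u hu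
  have hφv : ∀ b, φ (v b) = derHom (C := C) D b := by
    intro b
    have h1 : Ideal.Quotient.mk J (v b) = u b := AlgHom.congr_fun hv b
    rw [← he, h1]
    change e (e.symm _) = _
    exact e.apply_symm_apply _
  have hfst : ∀ b, TrivSqZeroExt.fst (v b) = algebraMap B C b := by
    intro b
    rw [← hφfst, hφv, fst_derHom]
  have hsnd : ∀ b, f (TrivSqZeroExt.snd (v b)) = D b := by
    intro b
    rw [← hφsnd, hφv, snd_derHom]
  let D₀ : B →ₗ[A] M :=
    { toFun := fun b => TrivSqZeroExt.snd (v b)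
      map_add' := fun x y => by rw [map_add, TrivSqZeroExt.snd_add]
      map_smul' := fun a x => by
        rw [RingHom.id_apply, map_smul, TrivSqZeroExt.snd_smul] }
  refine ⟨Derivation.mk' D₀ ?_, hsnd⟩
  intro x y
  change TrivSqZeroExt.snd (v (x * y)) = x • TrivSqZeroExt.snd (v y) + y • TrivSqZeroExt.snd (v x)
  rw [map_mul, TrivSqZeroExt.snd_mul, hfst, hfst, op_smul_eq_smul, algebraMap_smul,
    algebraMap_smul]

end DerLift

end Groth.Agent.Lib.Helper21
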