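import Mathlib
import Groth.Agent.Lib.Helper21.QFDimOneScheme
import Groth.Agent.Lib.Helper55.FiberCompDim
import Groth.Agent.S9798
import Groth.Agent.H53.CodimQF3
import Groth.Agent.H53.NoSpecNoeth
import Groth.Prelude.Def_Dual3

set_option autoImplicit false
universe u
open CategoryTheory CategoryTheory.Limits AlgebraicGeometry Topology
open AlgSp

namespace Groth.Agent.Lib.Helper21.QFDimOneSp

open Groth.Agent.Lib.Helper21.QFDimOne Groth.Agent.H53 Groth.Agent.H53.CodimQF

variable {X Y : Scheme.{u}}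

set_option backward.isDefEq.respectTransparency.types false in
/-- Sharpening of `quasiFiniteAt_of_dim_le_one`: only the generic points specializing to `x`
matter. -/
theorem quasiFiniteAt_of_dim_le_one' (f : X ⟶ Y) [LocallyOfFiniteType f]
    (x : X) [IsNoetherianRing (Y.presheaf.stalk (f x))]
    (hy : ringKrullDim (Y.presheaf.stalk (f x)) ≤ 1)
    (hgen : ∀ Z ∈ irreducibleComponents (X : Type u), ∀ η : X, IsGenericPoint η Z → η ⤳ x →
      f.QuasiFiniteAt η) : f.QuasiFiniteAt x := by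
  obtain ⟨_, ⟨U, hU : IsAffineOpen U, rfl⟩, hyU, -⟩ :=
    Y.isBasis_affineOpens.exists_subset_of_mem_open (Set.mem_univ (f x)) isOpen_univ
  obtain ⟨_, ⟨V, hV : IsAffineOpen V, rfl⟩, hxV, hVU'⟩ :=
    X.isBasis_affineOpens.exists_subset_of_mem_open (show x ∈ (f ⁻¹ᵁ U : Set X) from hyU)
      (f ⁻¹ᵁ U).2
  have hVU : V ≤ f ⁻¹ᵁ U := hVU'
  refine quasiFiniteAt_of_appLE hV hVU hxV ?_
  have hft : (f.appLE U V hVU).hom.FiniteType := f.finiteType_appLE hU hV hVU
  algebraize [(f.appLE U V hVU).hom]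
  rw [RingHom.QuasiFiniteAt]
  set q : Ideal Γ(X, V) := (hV.primeIdealOf ⟨x, hxV⟩).asIdeal with hq
  have hqu : q.under Γ(Y, U) = (hU.primeIdealOf ⟨f x, hVU hxV⟩).asIdeal :=
    congrArg PrimeSpectrum.asIdeal
      (IsAffineOpen.comap_primeIdealOf_appLE U hU V hV hVU hxV)
  letI := TopCat.Presheaf.algebra_section_stalk Y.presheaf (U := U) ⟨f x, hVU hxV⟩
  have hloc0 := hU.isLocalization_stalk ⟨f x, hVU hxV⟩
  haveI hloc : IsLocalization.AtPrime (Y.presheaf.stalk (f x)) (q.under Γ(Y, U)) := by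
    have hpc : (q.under Γ(Y, U)).primeCompl = (hU.primeIdealOf ⟨f x, hVU hxV⟩).asIdeal.primeCompl := by
      ext z
      simp only [Ideal.mem_primeCompl_iff, hqu]
    unfold IsLocalization.AtPrime
    rw [hpc]
    exact hloc0
  let e : Localization.AtPrime (q.under Γ(Y, U)) ≃ₐ[Γ(Y, U)] Y.presheaf.stalk (f x) :=
    IsLocalization.algEquiv (q.under Γ(Y, U)).primeCompl _ _
  haveI : IsNoetherianRing (Localization.AtPrime (q.under Γ(Y, U))) :=
    isNoetherianRing_of_ringEquiv _ e.symm.toRingEquiv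
  have hdim : ringKrullDim (Localization.AtPrime (q.under Γ(Y, U))) ≤ 1 := by
    rw [ringKrullDim_eq_of_ringEquiv e.toRingEquiv]; exact hy
  refine quasiFiniteAt_of_forall_minimalPrimes q hdim ?_
  intro 𝔯 _ h𝔯 h𝔯q
  let 𝔯' : PrimeSpectrum Γ(X, V) := ⟨𝔯, inferInstance⟩
  have hηV : hV.fromSpec 𝔯' ∈ V := by
    have : hV.fromSpec 𝔯' ∈ Set.range hV.fromSpec := ⟨𝔯', rfl⟩
    rwa [hV.range_fromSpec] at this
  have hspec : hV.fromSpec 𝔯' ⤳ x := by
    have h1 : (𝔯' : PrimeSpectrum Γ(X, V)) ⤳ hV.primeIdealOf ⟨x, hxV⟩ :=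
      (PrimeSpectrum.le_iff_specializes 𝔯' (hV.primeIdealOf ⟨x, hxV⟩)).mp h𝔯q
    have h2 := h1.map hV.fromSpec.continuous
    rwa [hV.fromSpec_primeIdealOf ⟨x, hxV⟩] at h2
  have hqf : f.QuasiFiniteAt (hV.fromSpec 𝔯') :=
    hgen _ (closure_fromSpec_mem_irreducibleComponents hV 𝔯' h𝔯) _ rfl hspec
  have h2 := hqf.quasiFiniteAt hV hU hVU hηV
  have h3 : hV.primeIdealOf ⟨hV.fromSpec 𝔯', hηV⟩ = 𝔯' := by
    apply hV.fromSpec.isOpenEmbedding.injective
    exact hV.fromSpec_primeIdealOf ⟨hV.fromSpec 𝔯', hηV⟩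
  rw [RingHom.QuasiFiniteAt] at h2
  convert h2 using 2
  exact congrArg PrimeSpectrum.asIdeal h3.symm

/-- A morphism locally of finite type is quasi-finite at a point with zero-dimensional local ring
whose residue field has transcendence degree zero over the residue field of the image. -/
theorem quasiFiniteAt_of_dim_zero_of_resTrdeg_zero (g : X ⟶ Y) [LocallyOfFiniteType g] (x : X)
    (hdim : ringKrullDim (X.presheaf.stalk x) = 0) (htr : Dual3.resTrdeg g x = 0) :
    g.QuasiFiniteAt x := by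
  obtain ⟨n, hn1, hn2⟩ := Groth.Agent.Lib.Helper55.fibreDimAt_eq_stalk_add_trdeg g x
  have hn : n = 0 := by
    change @Algebra.trdeg (Y.residueField (g x)) (X.residueField x) _ _
      (g.residueFieldMap x).hom.toAlgebra = 0 at htr
    rw [hn1] at htr
    exact_mod_cast htr
  subst hn
  have hI : Ideal.map (g.stalkMap x).hom (IsLocalRing.maximalIdeal (Y.presheaf.stalk (g x))) ≠ ⊤ :=
    (IsLocalRing.map_maximalIdeal_lt_top (g.stalkMap x).hom).ne
  have hnt : Nontrivial (X.presheaf.stalk x ⧸ Ideal.map (g.stalkMap x).hom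
      (IsLocalRing.maximalIdeal (Y.presheaf.stalk (g x)))) :=
    Ideal.Quotient.nontrivial_iff.mpr hI
  have hq : ringKrullDim (X.presheaf.stalk x ⧸ Ideal.map (g.stalkMap x).hom
      (IsLocalRing.maximalIdeal (Y.presheaf.stalk (g x)))) = 0 := by
    apply le_antisymm
    · rw [← hdim]
      exact ringKrullDim_quotient_le _
    · exact ringKrullDim_nonneg_of_nontrivial
  rw [hq] at hn2
  have hlft : LocallyOfFiniteType (g.fiberToSpecResidueField (g x)) :=
    MorphismProperty.pullback_snd (P := @LocallyOfFiniteType) _ _ ‹_›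
  have hnoeth : IsLocallyNoetherian (g.fiber (g x)) := by
    unfold Scheme.Hom.fiber
    infer_instance
  rw [Scheme.Hom.quasiFiniteAt_iff_isOpen_singleton_asFiber, ← Groth.Agent.S9798.result]
  change FlatMor.fibreDimAt g x = 0
  rw [hn2]
  simp

/-- The generic point of an irreducible component has a zero-dimensional local ring. -/
theorem stalk_dim_zero_of_isGenericPoint {Z : Set X} (hZ : Z ∈ irreducibleComponents (X : Type u))
    (η : X) (hη : IsGenericPoint η Z) : ringKrullDim (X.presheaf.stalk η) = 0 := by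
  rw [stalk_dim_zero_iff]
  intro y hy
  have h1 : Z ⊆ closure {y} := by
    rw [← hη.def]
    exact closure_minimal (Set.singleton_subset_iff.mpr (specializes_iff_mem_closure.mp hy))
      isClosed_closure
  have h2 : closure {y} ⊆ Z := hZ.2 isIrreducible_singleton.closure h1
  have h3 : IsGenericPoint y Z := Set.Subset.antisymm h2 h1
  exact h3.eq hη

variable {S : Scheme.{u}}

/-- Algebraic space version of `quasiFiniteAt_of_dim_le_one'`. -/
theorem hasAtMor_qf_of_codim_le_one {X Y : Sp S} (hX : IsAlgSpace X) (f : X ⟶ Y)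
    (hf : LocP @LocallyOfFiniteType f) (hY : IsLocNoethSp Y) (y : Points Y)
    (hy : HasAt (fun U u => ringKrullDim ↥(U.presheaf.stalk u) ≤ 1) Y y)
    (x : Points X) (hx : Points.map f x = y)
    (h : ∀ x' : Points X, HasAt (fun U u => ringKrullDim ↥(U.presheaf.stalk u) = 0) X x' →
      x' ⤳ x → HasAtMor QF f x') : HasAtMor QF f x := by
  obtain ⟨V, b, v, hbe, rfl, hdim⟩ := hy
  obtain ⟨U, a, k, u, hae, comm, rfl, hu, hlft⟩ := exists_chart_through hX f hf b hbe v x hx
  have hVn : IsLocallyNoetherian V.left := isLocallyNoetherian_of_etale_chart hY b hbe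
  have hdim' : ringKrullDim (V.left.presheaf.stalk (k.left u)) ≤ 1 := by rw [hu]; exact hdim
  have hq : k.left.QuasiFiniteAt u := by
    refine quasiFiniteAt_of_dim_le_one' k.left u hdim' ?_
    intro Z hZ η hη hηu
    have h0 := stalk_dim_zero_of_isGenericPoint hZ η hη
    have hs : Points.ofPt a η ⤳ Points.ofPt a u := hηu.map (Points.continuous_ofPt a)
    exact quasiFiniteAt_of_hasAtMor f hf a b k hae hbe comm η
      (h _ ⟨U, a, η, hae, rfl, h0⟩ hs)
  exact ⟨U, V, a, b, k, u, hae, hbe, comm, rfl, (qf_iff_quasiFiniteAt k.left u).2 hq⟩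

/-- Variant with the transcendence degree hypothesis. -/
theorem hasAtMor_qf_of_codim_le_one_of_resTrdeg {X Y : Sp S} (hX : IsAlgSpace X) (f : X ⟶ Y)
    (hf : LocP @LocallyOfFiniteType f) (hY : IsLocNoethSp Y) (y : Points Y)
    (hy : HasAt (fun U u => ringKrullDim ↥(U.presheaf.stalk u) ≤ 1) Y y)
    (h : ∀ x' : Points X, HasAt (fun U u => ringKrullDim ↥(U.presheaf.stalk u) = 0) X x' →
      Points.map f x' ⤳ y → HasAtMor (fun _ _ h u => Dual3.resTrdeg h u = 0) f x')
    (x : Points X) (hx : Points.map f x = y) : HasAtMor QF f x := by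
  refine hasAtMor_qf_of_codim_le_one hX f hf hY y hy x hx ?_
  intro x' hx' hs
  have hs' : Points.map f x' ⤳ y := by
    rw [← hx]; exact hs.map (Points.continuous_map f)
  obtain ⟨U₂, V₂, a₂, b₂, h₂, u₂, ha₂, hb₂, comm₂, hpt, hQ⟩ := h x' hx' hs'
  have hlft : LocallyOfFiniteType h₂.left := hf a₂ b₂ h₂ ha₂ hb₂ comm₂
  have h0 : ringKrullDim ↥(U₂.left.presheaf.stalk u₂) = 0 :=
    stalk_dim_zero_of_hasAt a₂ ha₂ u₂ (by rw [hpt]; exact hx')
  have hq := quasiFiniteAt_of_dim_zero_of_resTrdeg_zero h₂.left u₂ h0 hQ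
  exact ⟨U₂, V₂, a₂, b₂, h₂, u₂, ha₂, hb₂, comm₂, hpt, (qf_iff_quasiFiniteAt h₂.left u₂).2 hq⟩

end Groth.Agent.Lib.Helper21.QFDimOneSp
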