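import Mathlib
import Groth.Agent.Lib.Helper21.QFDimOneSp
import Groth.Agent.H53.Decent2
import Groth.Agent.H52.DimLocal2
import Groth.Agent.S10343

set_option autoImplicit false
universe u
open CategoryTheory CategoryTheory.Limits AlgebraicGeometry Topology TopologicalSpace
open AlgSp

namespace Groth.Agent.Lib.Helper21.IntegralQF

open Groth.Agent.Lib.Helper21.QFDimOneSp Groth.Agent.H53 Groth.Agent.H53.CodimQF Groth.Agent.H52

variable {X Y : Scheme.{u}}

/-- The residue field extension at a point where the morphism is quasi-finite is algebraic. -/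
theorem resTrdeg_eq_zero_of_quasiFiniteAt (g : X ⟶ Y) [LocallyOfFiniteType g] (x : X)
    (h : g.QuasiFiniteAt x) : Dual3.resTrdeg g x = 0 := by
  obtain ⟨n, hn1, hn2⟩ := Groth.Agent.Lib.Helper55.fibreDimAt_eq_stalk_add_trdeg g x
  have hlft : LocallyOfFiniteType (g.fiberToSpecResidueField (g x)) :=
    MorphismProperty.pullback_snd (P := @LocallyOfFiniteType) _ _ ‹_›
  have hnoeth : IsLocallyNoetherian (g.fiber (g x)) := by
    unfold Scheme.Hom.fiber
    infer_instance
  have h0 : FlatMor.fibreDimAt g x = 0 := by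
    rw [Scheme.Hom.quasiFiniteAt_iff_isOpen_singleton_asFiber, ← Groth.Agent.S9798.result] at h
    exact h
  rw [h0] at hn2
  have hn : n = 0 := by
    generalize ringKrullDim (X.presheaf.stalk x ⧸ Ideal.map (g.stalkMap x).hom
      (IsLocalRing.maximalIdeal (Y.presheaf.stalk (g x)))) = a at hn2
    induction a using WithBot.recBotCoe with
    | bot => simp at hn2
    | coe a =>
      have h2 : ((a + (n : ℕ∞) : ℕ∞) : WithBot ℕ∞) = ((0 : ℕ∞) : WithBot ℕ∞) := by
        rw [WithBot.coe_add]; exact hn2.symm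
      have h3 : a + (n : ℕ∞) = 0 := WithBot.coe_injective h2
      have h4 : (n : ℕ∞) = 0 := (add_eq_zero.mp h3).2
      exact_mod_cast h4
  change @Algebra.trdeg (Y.residueField (g x)) (X.residueField x) _ _
    (g.residueFieldMap x).hom.toAlgebra = 0
  rw [hn1, hn]
  rfl

variable {S : Scheme.{u}}

theorem hasAt_dim_zero_of_isGenericPoint_univ {X : Sp S} (hX : IsAlgSpace X) (hXd : IsDecent X)
    (x : Points X) (hx : IsGenericPoint x Set.univ) :
    HasAt (fun U u => ringKrullDim ↥(U.presheaf.stalk u) = 0) X x := by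
  haveI := t0Space_points_of_isDecent hX hXd
  obtain ⟨U, a, u, hae, rfl⟩ := exists_chart_through_point hX x
  refine ⟨U, a, u, hae, rfl, ?_⟩
  change ringKrullDim ↥(U.left.presheaf.stalk u) = 0
  rw [stalk_dim_zero_iff]
  intro u₁ hu₁
  have h1 : Points.ofPt a u₁ ⤳ Points.ofPt a u := hu₁.map (Points.continuous_ofPt a)
  have h2 : Points.ofPt a u ⤳ Points.ofPt a u₁ := by
    rw [specializes_iff_mem_closure, hx.def]; trivial
  have h3 : Points.ofPt a u = Points.ofPt a u₁ := (h2.antisymm h1).eq
  exact (eq_of_specializes_of_isDecent hXd a hae u u₁ h3 hu₁).symm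

theorem map_generic_eq {X Y : Sp S} (hY : IsAlgSpace Y) (hYd : IsDecent Y) (f : X ⟶ Y)
    (hd : IsDominantMor f) (x : Points X) (hx : IsGenericPoint x Set.univ) (y : Points Y)
    (hy : IsGenericPoint y Set.univ) : Points.map f x = y := by
  haveI := t0Space_points_of_isDecent hY hYd
  have h1 : IsGenericPoint (Points.map f x) (closure (Points.map f '' Set.univ)) :=
    hx.image (Points.continuous_map f)
  rw [Set.image_univ, hd.closure_range] at h1
  exact h1.eq hy

/-- Quasi-finiteness at the generic point versus uniqueness of the point over the generic point. -/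
theorem qf_generic_iff {X Y : Sp S} (hX : IsAlgSpace X) (hXd : IsDecent X)
    (hY : IsAlgSpace Y) (hYd : IsDecent Y) (f : X ⟶ Y) (hft : LocP @LocallyOfFiniteType f)
    (hd : IsDominantMor f) (x : Points X) (hx : IsGenericPoint x Set.univ) (y : Points Y)
    (hy : IsGenericPoint y Set.univ) :
    HasAtMor QF f x ↔ ∀ x' : Points X, Points.map f x' = y → x' = x := by
  have hfx := map_generic_eq hY hYd f hd x hx y hy
  have hx0 := hasAt_dim_zero_of_isGenericPoint_univ hX hXd x hx
  have hy0 := hasAt_dim_zero_of_isGenericPoint_univ hY hYd y hy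
  constructor
  · intro hq x' hx'
    obtain ⟨V, b, v, hbe, rfl, hdim⟩ := hy0
    obtain ⟨U, a, k, u', hae, comm, rfl, hu', hlft⟩ := exists_chart_through hX f hft b hbe v x' hx'
    have hs : x ⤳ Points.ofPt a u' := by
      rw [specializes_iff_mem_closure, hx.def]; trivial
    obtain ⟨u, huu', rfl⟩ := Groth.Agent.S10343.result ⟨X, hX⟩ (Points.ofPt a u') x hs (hXd x) a hae u' rfl
    have huv : k.left u = v := by
      have h1 : k.left u ⤳ k.left u' := huu'.map k.left.continuous
      rw [hu'] at h1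
      exact (stalk_dim_zero_iff V.left v).1 hdim _ h1
    have hqu : k.left.QuasiFiniteAt u := quasiFiniteAt_of_hasAtMor f hft a b k hae hbe comm u hq
    have hcl := hqu.isClopen_singleton_asFiber.1
    have hu_fib : u' ∈ Set.range (k.left.fiberι (k.left u)) := by
      rw [Scheme.Hom.range_fiberι]
      simp only [Set.mem_preimage, Set.mem_singleton_iff]
      rw [hu', huv]
    obtain ⟨z, hz⟩ := hu_fib
    have hzs : k.left.asFiber u ⤳ z := by
      apply (k.left.fiberι (k.left u)).isEmbedding.toIsInducing.specializes_iff.1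
      rw [Scheme.Hom.fiberι_asFiber, hz]
      exact huu'
    have hzeq : z = k.left.asFiber u := hzs.mem_closed hcl rfl
    have : u' = u := by rw [← hz, hzeq, Scheme.Hom.fiberι_asFiber]
    rw [this]
  · intro H
    have key := (codim_zero_fibre hX f hft y hy0).1.1
    refine key ?_ x hfx
    intro x' hx'
    rw [H x' hx']
    exact hx0

/-- Transcendence degree zero at the generic point versus uniqueness of the point over the
generic point. -/
theorem resTrdeg_generic_iff {X Y : Sp S} (hX : IsAlgSpace X) (hXd : IsDecent X)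
    (hY : IsAlgSpace Y) (hYd : IsDecent Y) (f : X ⟶ Y) (hft : LocP @LocallyOfFiniteType f)
    (hd : IsDominantMor f) (x : Points X) (hx : IsGenericPoint x Set.univ) (y : Points Y)
    (hy : IsGenericPoint y Set.univ) :
    HasAtMor (fun _ _ h u => Dual3.resTrdeg h u = 0) f x ↔
      ∀ x' : Points X, Points.map f x' = y → x' = x := by
  rw [← qf_generic_iff hX hXd hY hYd f hft hd x hx y hy]
  have hx0 := hasAt_dim_zero_of_isGenericPoint_univ hX hXd x hx
  constructor
  · rintro ⟨U₂, V₂, a₂, b₂, h₂, u₂, ha₂, hb₂, comm₂, hpt, hQ⟩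
    have hlft : LocallyOfFiniteType h₂.left := hft a₂ b₂ h₂ ha₂ hb₂ comm₂
    have h0 : ringKrullDim ↥(U₂.left.presheaf.stalk u₂) = 0 :=
      stalk_dim_zero_of_hasAt a₂ ha₂ u₂ (by rw [hpt]; exact hx0)
    have hq := quasiFiniteAt_of_dim_zero_of_resTrdeg_zero h₂.left u₂ h0 hQ
    exact ⟨U₂, V₂, a₂, b₂, h₂, u₂, ha₂, hb₂, comm₂, hpt, (qf_iff_quasiFiniteAt h₂.left u₂).2 hq⟩
  · rintro ⟨U₂, V₂, a₂, b₂, h₂, u₂, ha₂, hb₂, comm₂, hpt, hQ⟩
    have hlft : LocallyOfFiniteType h₂.left := hft a₂ b₂ h₂ ha₂ hb₂ comm₂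
    have hq : h₂.left.QuasiFiniteAt u₂ := (qf_iff_quasiFiniteAt h₂.left u₂).1 hQ
    exact ⟨U₂, V₂, a₂, b₂, h₂, u₂, ha₂, hb₂, comm₂, hpt,
      resTrdeg_eq_zero_of_quasiFiniteAt h₂.left u₂ hq⟩

end Groth.Agent.Lib.Helper21.IntegralQF
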