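import Mathlib
import Groth.Agent.Lib.Helper21.IntegralQF
import Groth.Agent.Lib.Helper54.DecentDim
import Groth.Agent.Lib.Helper55.FiberTrdeg
import Groth.Agent.H53.Proper

set_option autoImplicit false
universe u
open CategoryTheory CategoryTheory.Limits AlgebraicGeometry Topology TopologicalSpace
open AlgSp

namespace Groth.Agent.Lib.Helper21.DimProper

/-! ### Order theory -/

theorem height_le_of_lifts {α β : Type*} [Preorder α] [Preorder β] (f : α → β)
    (hlift : ∀ (x : α) (b : β), b < f x → ∃ x', x' < x ∧ f x' = b) (x : α) :
    Order.height (f x) ≤ Order.height x := by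
  rw [← ENat.forall_natCast_le_iff_le]
  intro n
  induction n generalizing x with
  | zero => intro _; simp
  | succ n ih =>
    intro h
    obtain ⟨p, hlast, hlen⟩ := Order.exists_series_of_le_height (f x) h
    let i : Fin (p.length + 1) := ⟨n, by omega⟩
    have hi : i < Fin.last p.length := by
      rw [Fin.lt_def]; simp only [i, Fin.val_last]; omega
    have hb : p i < f x := by
      rw [← hlast]; exact p.strictMono hi
    have hnb : (n : ℕ∞) ≤ Order.height (p i) := by
      have := Order.index_le_height p i
      simpa [i] using this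
    obtain ⟨x', hx'x, hfx'⟩ := hlift x (p i) hb
    have h1 : (n : ℕ∞) ≤ Order.height x' := ih x' (by rw [hfx']; exact hnb)
    have h2 := Order.height_add_one_le hx'x
    calc ((n + 1 : ℕ) : ℕ∞) = (n : ℕ∞) + 1 := by push_cast; rfl
      _ ≤ Order.height x' + 1 := by gcongr
      _ ≤ Order.height x := h2

theorem height_head_add_length_le {α : Type*} [Preorder α] (p : LTSeries α) :
    Order.height p.head + p.length ≤ Order.height p.last := by
  have key : ∀ i : Fin (p.length + 1), Order.height p.head + (i : ℕ) ≤ Order.height (p i) := by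
    intro i
    induction i using Fin.induction with
    | zero => simp [RelSeries.head]
    | succ i ih =>
      have h1 := Order.height_add_one_le (p.step i)
      calc Order.height p.head + ((i.succ : Fin (p.length + 1)) : ℕ)
          = (Order.height p.head + ((i.castSucc : Fin (p.length + 1)) : ℕ)) + 1 := by
            simp only [Fin.val_succ, Fin.val_castSucc]; push_cast; ring
        _ ≤ Order.height (p i.castSucc) + 1 := by gcongr
        _ ≤ Order.height (p i.succ) := h1
  have := key (Fin.last p.length)
  simpa [RelSeries.last] using this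

/-! ### Topology -/

/-- A closed continuous map does not decrease heights for the specialization preorder. -/
theorem height_le_of_isClosedMap {α β : Type*} [TopologicalSpace α] [TopologicalSpace β]
    (f : α → β) (hf : IsClosedMap f) (hc : Continuous f) (x : α) :
    @Order.height β (specializationPreorder β) (f x) ≤
      @Order.height α (specializationPreorder α) x := by
  letI : Preorder α := specializationPreorder α
  letI : Preorder β := specializationPreorder β
  refine height_le_of_lifts f ?_ x
  intro x b hb
  have h1 : f x ⤳ b := hb.le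
  obtain ⟨x', hxx', hfx'⟩ := hf.specializingMap h1
  refine ⟨x', lt_of_le_not_ge hxx' ?_, hfx'⟩
  intro h2
  have h3 : x' ⤳ x := h2
  have h4 : f x' ⤳ f x := h3.map hc
  rw [hfx'] at h4
  exact hb.not_ge h4

/-- The generic point has height the Krull dimension (for the specialization preorder). -/
theorem height_generic_eq_krullDim {β : Type*} [TopologicalSpace β] (y : β)
    (hy : IsGenericPoint y Set.univ) :
    ((@Order.height β (specializationPreorder β) y : ℕ∞) : WithBot ℕ∞) =
      @Order.krullDim β (specializationPreorder β) := by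
  letI : Preorder β := specializationPreorder β
  refine le_antisymm (Order.height_le_krullDim y) ?_
  rw [Order.krullDim_eq_iSup_height]
  apply iSup_le
  intro b
  have hb : b ≤ y := by
    change y ⤳ b
    rw [specializes_iff_mem_closure, hy.def]; trivial
  exact_mod_cast Order.height_mono hb

/-- The Krull dimension of a sober `T0` space is the Krull dimension of its specialization
preorder. -/
theorem topologicalKrullDim_eq_krullDim_specialization (α : Type*) [TopologicalSpace α]
    [QuasiSober α] [T0Space α] :
    topologicalKrullDim α = @Order.krullDim α (specializationPreorder α) := by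
  letI : PartialOrder α := specializationOrder α
  rw [topologicalKrullDim, Order.krullDim_eq_of_orderIso (irreducibleSetEquivPoints (α := α))]

variable {X Y : Scheme.{u}}

/-- A chain of length `trdeg κ(u)/κ(k u)` in the fibre through `u`. -/
theorem exists_ltSeries_fibre (k : X ⟶ Y) [LocallyOfFiniteType k] (u : X) (r : ℕ)
    (hr : Dual3.resTrdeg k u = (r : Cardinal.{u})) :
    ∃ p : LTSeries X, p.length = r ∧ ∀ i, k (p i) = k u := by
  obtain ⟨n, hn1, hn2⟩ := Groth.Agent.Lib.Helper55.exists_dim_closure_asFiber_eq_trdeg k u
  have hnr : n = r := by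
    change @Algebra.trdeg (Y.residueField (k u)) (X.residueField u) _ _
      (k.residueFieldMap u).hom.toAlgebra = r at hr
    rw [hn2] at hr
    exact_mod_cast hr
  subst hnr
  set Z : Set ↥(k.fiber (k u)) := closure {k.asFiber u} with hZ
  haveI : QuasiSober ↥Z := (isClosed_closure.isClosedEmbedding_subtypeVal).quasiSober
  have h1 : ((n : ℕ) : WithBot ℕ∞) ≤ Order.krullDim (IrreducibleCloseds ↥Z) := by
    change _ ≤ topologicalKrullDim ↥Z
    rw [hn1]
  obtain ⟨l, hl⟩ := Order.le_krullDim_iff.1 h1
  let e := irreducibleSetEquivPoints (α := ↥Z)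
  let g : IrreducibleCloseds ↥Z → X := fun T =>
    k.fiberι (k u) ((e T : ↥Z) : ↥(k.fiber (k u)))
  have hg : StrictMono g := by
    intro T T' hTT'
    have hle : (e T' : ↥Z) ⤳ e T := (e.map_rel_iff).2 hTT'.le
    have hnle : ¬ ((e T : ↥Z) ⤳ e T') := fun h => hTT'.not_ge ((e.map_rel_iff).1 h)
    have hi : Topology.IsInducing (fun z : ↥Z => k.fiberι (k u) (z : ↥(k.fiber (k u)))) :=
      (k.fiberι (k u)).isEmbedding.toIsInducing.comp Topology.IsInducing.subtypeVal
    refine lt_of_le_not_ge ?_ ?_
    · exact hi.specializes_iff.2 hle
    · intro h3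
      exact hnle (hi.specializes_iff.1 h3)
  refine ⟨l.map g hg, by simpa using hl, fun i => ?_⟩
  have : (l.map g hg) i ∈ Set.range (k.fiberι (k u)) := ⟨_, rfl⟩
  rw [Scheme.Hom.range_fiberι] at this
  exact this

variable {S : Scheme.{u}}

open Groth.Agent.Lib.Helper54 in
/-- For a proper dominant morphism of integral (decent) spaces, `dim Y + r ≤ dim X`, `r` the
transcendence degree at the generic point. -/
theorem dim_add_le_of_proper {X Y : Sp S} (hX : IsAlgSpace X) (hXd : IsDecent X)
    (hY : IsAlgSpace Y) (hYd : IsDecent Y) (f : X ⟶ Y) (hp : IsProperMor f)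
    (hd : IsDominantMor f) (x : Points X) (hx : IsGenericPoint x Set.univ) (y : Points Y)
    (hy : IsGenericPoint y Set.univ) (r : ℕ)
    (hr : HasAtMor (fun _ _ h u => Dual3.resTrdeg h u = (r : Cardinal.{u})) f x) :
    AlgSp.dim Y + ((r : ℕ∞) : WithBot ℕ∞) ≤ AlgSp.dim X := by
  haveI := t0Space_points_of_isDecent hX hXd
  haveI := quasiSober_points_of_isDecent hX hXd
  haveI := t0Space_points_of_isDecent hY hYd
  haveI := quasiSober_points_of_isDecent hY hYd
  have hft : LocP @LocallyOfFiniteType f := hp.2.1.1
  have hfx := Groth.Agent.Lib.Helper21.IntegralQF.map_generic_eq hY hYd f hd x hx y hy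
  obtain ⟨U, V, a, b, k, u, ha, hb, comm, hu, hQ⟩ := hr
  have hlft : LocallyOfFiniteType k.left := hft a b k ha hb comm
  obtain ⟨p, hpl, hpk⟩ := exists_ltSeries_fibre k.left u r hQ
  letI : Preorder (Points X) := specializationPreorder _
  letI : Preorder (Points Y) := specializationPreorder _
  have hsm : StrictMono (Points.ofPt a) := by
    intro u₁ u₂ h
    have h1 : u₂ ⤳ u₁ := h.le
    have h2 : ¬ u₁ ⤳ u₂ := fun h' => h.not_ge h'
    have h1' : Points.ofPt a u₂ ⤳ Points.ofPt a u₁ := h1.map (Points.continuous_ofPt a)
    refine lt_of_le_not_ge h1' ?_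
    intro h3
    have h3' : Points.ofPt a u₁ ⤳ Points.ofPt a u₂ := h3
    have he : Points.ofPt a u₁ = Points.ofPt a u₂ := (h3'.antisymm h1').eq
    exact h2 (by rw [eq_of_specializes_of_ofPt_eq hX hXd a ha u₁ u₂ he h1])
  let q : LTSeries (Points X) := p.map (Points.ofPt a) hsm
  have hq_len : q.length = r := by simpa [q] using hpl
  have hq_head : Points.map f q.head = y := by
    have h1 : q.head = Points.ofPt a p.head := rfl
    rw [h1, Points.map_ofPt, comm, Groth.Agent.H53.ofPt_yon_map_comp]
    have h2 : k.left p.head = k.left u := hpk 0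
    rw [h2, ← Groth.Agent.H53.ofPt_yon_map_comp, ← comm, ← Points.map_ofPt, hu, hfx]
  have hcl : IsClosedMap (Points.map f) := Groth.Agent.H53.univSp_self _ hY hp.2.2
  have s1 : Order.height (Points.map f q.head) ≤ Order.height q.head :=
    height_le_of_isClosedMap (Points.map f) hcl (Points.continuous_map f) q.head
  have s2 : Order.height q.head + (q.length : ℕ∞) ≤ Order.height q.last :=
    height_head_add_length_le q
  have s3 : ((Order.height q.last : ℕ∞) : WithBot ℕ∞) ≤ Order.krullDim (Points X) :=
    Order.height_le_krullDim _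
  rw [← topologicalKrullDim_points_eq_dim hX hXd, ← topologicalKrullDim_points_eq_dim hY hYd,
    topologicalKrullDim_eq_krullDim_specialization (Points X),
    topologicalKrullDim_eq_krullDim_specialization (Points Y),
    ← height_generic_eq_krullDim y hy, ← hq_head]
  refine le_trans ?_ s3
  rw [hq_len] at s2
  have s4 : Order.height (Points.map f q.head) + (r : ℕ∞) ≤ Order.height q.last :=
    le_trans (by gcongr) s2
  exact_mod_cast s4

end Groth.Agent.Lib.Helper21.DimProper
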