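import Groth.Agent.Lib.Helper21.TildeEtFin

set_option autoImplicit false
set_option linter.style.haveILetI false
set_option linter.unusedSimpArgs false
set_option backward.isDefEq.respectTransparency false
universe u
open CategoryTheory CategoryTheory.Limits AlgebraicGeometry Opposite
open AlgSp

namespace Groth.Agent.Lib.Helper21.Tilde

variable {S : Scheme.{u}} {X : Sp S}

/-- The base change property on affine objects of the small etale site. -/
def IsBCEt (M : ModEt X) : Prop :=
  ∀ ⦃E E' : EtOver X⦄ (g : E' ⟶ E), IsAffine E.obj.left.left → IsAffine E'.obj.left.left →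
    IsBC M.val g.op

theorem isBCEt_of_isQuasicoherent (M : ModEt X) [M.IsQuasicoherent] : IsBCEt M :=
  fun _ _ g h₁ h₂ => isBC_of_isQuasicoherent_et M g h₁ h₂

theorem IsBCEt.isQuasicoherent {M : ModEt X} (h : IsBCEt M) : M.IsQuasicoherent :=
  isQuasicoherent_of_isBC_et M h

theorem isBCEt_iff (M : ModEt X) : IsBCEt M ↔ M.IsQuasicoherent :=
  ⟨fun h => h.isQuasicoherent, fun _ => isBCEt_of_isQuasicoherent M⟩

/-- Kernels (in the general form of a limit kernel fork). -/
theorem IsBCEt.of_isKernel {K F G : ModEt X} (ι : K ⟶ F) (φ : F ⟶ G) (hw : ι ≫ φ = 0)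
    (h : IsLimit (KernelFork.ofι ι hw)) (hF : IsBCEt F) (hG : IsBCEt G) : IsBCEt K :=
  fun _ _ g h₁ h₂ => (etAffData X).isBC_of_isKernel ι φ hw h hF hG g h₁ h₂

theorem IsBCEt.kernel {F G : ModEt X} (φ : F ⟶ G) (hF : IsBCEt F) (hG : IsBCEt G) :
    IsBCEt (kernel φ) :=
  IsBCEt.of_isKernel (kernel.ι φ) φ (kernel.condition φ) (kernelIsKernel φ) hF hG

/-- Colimits. -/
theorem IsBCEt.of_isColimit {K : Type*} [Category K] [HasColimitsOfShape K AddCommGrpCat.{u+1}]
    (F : K ⥤ ModEt X) (c : Cocone F) (hc : IsColimit c) (hF : ∀ j, IsBCEt (F.obj j)) :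
    IsBCEt c.pt :=
  fun _ _ g h₁ h₂ => (etAffData X).isBC_of_isColimit F c hc (fun j => hF j) g h₁ h₂

theorem IsBCEt.cokernel {F G : ModEt X} (φ : F ⟶ G) (hF : IsBCEt F) (hG : IsBCEt G) :
    IsBCEt (cokernel φ) := by
  refine IsBCEt.of_isColimit (parallelPair φ 0) (colimit.cocone _) (colimit.isColimit _) ?_
  rintro (_ | _)
  · exact hF
  · exact hG

/-- Epimorphisms between quasi-coherent modules are surjective on affine objects. -/
theorem IsBCEt.surjective_of_epi {F G : ModEt X} (φ : F ⟶ G) [Epi φ] (hF : IsBCEt F)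
    (hG : IsBCEt G) (E : EtOver X) (hE : IsAffine E.obj.left.left) :
    Function.Surjective (φ.val.app (op E)) :=
  (etAffData X).surjective_of_epi φ hF hG hE

/-- Monomorphisms of modules are injective on sections. -/
theorem injective_of_mono_et {F G : ModEt X} (φ : F ⟶ G) [Mono φ] (E : EtOver X) :
    Function.Injective (φ.val.app (op E)) := by
  have h : Mono ((SheafOfModules.evaluation (OEtRing X) (op E)).map φ) := inferInstance
  exact (ModuleCat.mono_iff_injective _).1 h

end Groth.Agent.Lib.Helper21.Tilde
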