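import Groth.Agent.Lib.Helper21.TildeH1
import Groth.Agent.Lib.Helper21.TildeEtCoh
import Groth.Prelude.Def_AlgSpD

set_option autoImplicit false
set_option linter.style.haveILetI false
set_option linter.unusedSimpArgs false
set_option backward.isDefEq.respectTransparency false
universe u
open CategoryTheory CategoryTheory.Limits AlgebraicGeometry Opposite
open AlgSp

namespace Groth.Agent.Lib.Helper21.Tilde

variable {S : Scheme.{u}} {X : Sp S}

/-- In a short exact sequence of modules on the small etale site with quasi-coherent kernel,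
sections of the quotient over affine objects lift. -/
theorem surjective_of_shortExact_et (T : ShortComplex (ModEt X)) (hT : T.ShortExact)
    (h₁ : IsBCEt T.X₁) (E : EtOver X) (hE : IsAffine E.obj.left.left) :
    Function.Surjective (T.g.val.app (op E)) := by
  intro s
  have hT' : (T.map (resModEt E)).ShortExact := hT.map_of_exact (resModEt E)
  obtain ⟨m, hm⟩ := ((etAffData X).over E).exists_lift_of_shortExact (T.map (resModEt E)) hT'
    (fun _ _ g h₂ h₃ => h₁ g.left h₂ h₃) (T := Over.mk (𝟙 E)) Over.mkIdTerminal hE s
  exact ⟨m, hm⟩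

/-- **Extensions**: an extension of quasi-coherent modules is quasi-coherent. -/
theorem IsBCEt.of_shortExact (T : ShortComplex (ModEt X)) (hT : T.ShortExact)
    (h₁ : IsBCEt T.X₁) (h₃ : IsBCEt T.X₃) : IsBCEt T.X₂ := by
  intro E E' g hE hE'
  have hl := sections_leftExact T.f T.g T.zero hT.fIsKernel (op E)
  have hl' := sections_leftExact T.f T.g T.zero hT.fIsKernel (op E')
  refine SLBC.of_shortExact (T.f.val.app (op E)).hom (T.g.val.app (op E)).hom
    (surjective_of_shortExact_et T hT h₁ E hE) hl.2 (T.f.val.app (op E')).hom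
    (T.g.val.app (op E')).hom hl'.1 hl'.2
    (T.X₁.val.restrictₛₗ g.op) (T.X₂.val.restrictₛₗ g.op) (T.X₃.val.restrictₛₗ g.op) ?_ ?_
    (h₁ g hE hE') (h₃ g hE hE')
  · intro m
    exact PresheafOfModules.naturality_apply T.f.val g.op m
  · intro m
    exact PresheafOfModules.naturality_apply T.g.val g.op m

end Groth.Agent.Lib.Helper21.Tilde
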