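import Groth.Prelude.Def_AlgSpModX
import Groth.Agent.H53.EtLocus
import Groth.Agent.H53.LocSurj

set_option autoImplicit false
set_option backward.isDefEq.respectTransparency false
universe u
open CategoryTheory CategoryTheory.Limits AlgebraicGeometry Opposite Topology TopologicalSpace
open AlgSp

namespace Groth.Agent.Lib.Helper21.WeakAss

variable {S : Scheme.{u}} {X : Sp S}

/-- On an affine scheme every prime ideal of the ring of global functions is the prime of a point. -/
theorem exists_primeAtPt_eq (U : Scheme.{u}) [IsAffine U] (p : Ideal Γ(U, ⊤)) [hp : p.IsPrime] :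
    ∃ u : U, primeAtPt U u = p := by
  have hU : IsAffineOpen (⊤ : U.Opens) := isAffineOpen_top U
  let y : PrimeSpectrum Γ(U, ⊤) := ⟨p, hp⟩
  refine ⟨hU.fromSpec y, ?_⟩
  have h1 : hU.primeIdealOf ⟨hU.fromSpec y, trivial⟩ = y := by
    apply hU.fromSpec.isOpenEmbedding.injective
    exact hU.fromSpec_primeIdealOf ⟨hU.fromSpec y, trivial⟩
  have h2 := hU.primeIdealOf_eq_map_closedPoint ⟨hU.fromSpec y, trivial⟩
  rw [h1] at h2
  have h3 := congrArg PrimeSpectrum.asIdeal h2
  exact h3.symm

theorem primeAtPt_eq_primeIdealOf (U : Scheme.{u}) [IsAffine U] (u : U) :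
    primeAtPt U u = ((isAffineOpen_top U).primeIdealOf ⟨u, trivial⟩).asIdeal := by
  have h2 := (isAffineOpen_top U).primeIdealOf_eq_map_closedPoint ⟨u, trivial⟩
  exact (congrArg PrimeSpectrum.asIdeal h2).symm


/-- A nonzero section over an affine object has a weakly associated point on that object. -/
theorem exists_isWeakAssOn_of_ne_zero (M : ModEt X) (E : EtOver X) [IsAffine E.obj.left.left]
    (s : sectModEt M E) (hs : s ≠ 0) : ∃ u : E.obj.left.left, IsWeakAssOn M E u := by
  have hne : annSect s ≠ ⊤ := by
    intro h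
    have h1 : (1 : Γ(E.obj.left.left, ⊤)) ∈ annSect s := h ▸ Submodule.mem_top
    rw [mem_annSect_iff, map_one, one_smul] at h1
    exact hs h1
  obtain ⟨p, hp⟩ := Ideal.nonempty_minimalPrimes hne
  have hpp : p.IsPrime := hp.1.1
  obtain ⟨u, hu⟩ := exists_primeAtPt_eq E.obj.left.left p
  exact ⟨u, s, hu ▸ hp⟩

/-- The zero section has no weakly associated point. -/
theorem not_isWeakAssOn_of_subsingleton (M : ModEt X) (E : EtOver X) [IsAffine E.obj.left.left]
    (h : ∀ s : sectModEt M E, s = 0) (u : E.obj.left.left) : ¬ IsWeakAssOn M E u := by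
  rintro ⟨s, hs⟩
  have htop : annSect s = ⊤ := by
    rw [Ideal.eq_top_iff_one, mem_annSect_iff, h s, smul_zero]
  rw [htop, Ideal.minimalPrimes_top] at hs
  exact hs


/-- A sheaf of modules is zero iff all its sections vanish. -/
theorem isZero_iff_forall_sect_eq_zero (M : ModEt X) :
    IsZero M ↔ ∀ (E : EtOver X) (s : sectModEt M E), s = 0 := by
  rw [IsZero.iff_id_eq_zero]
  constructor
  · intro h E s
    have h1 : (𝟙 M : M ⟶ M).val.app (op E) s = (0 : M ⟶ M).val.app (op E) s := by rw [h]
    have h0 : (0 : M ⟶ M).val = 0 := (SheafOfModules.forget _).map_zero M M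
    rw [h0] at h1
    simpa using h1
  · intro h
    apply SheafOfModules.hom_ext
    apply PresheafOfModules.hom_ext
    intro E
    apply ModuleCat.hom_ext
    apply LinearMap.ext
    intro s
    rw [h E.unop s]
    simp


open Groth.Agent.H52 Groth.Agent.H53.QcIdeal in
/-- The open subscheme `A` of an object `E` of the small etale site, as an object. -/
noncomputable abbrev openObj (E : EtOver X) (A : E.obj.left.left.Opens) : EtOver X :=
  EtOver.mk ((yon S).map (overOpenι E.obj.left A) ≫ E.obj.hom)
    (repWith_etale_overOpenι_comp E.obj.hom E.property A)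

open Groth.Agent.H52 in
/-- The inclusion of an open subscheme of an object, as a morphism of the site. -/
noncomputable abbrev openObjι (E : EtOver X) (A : E.obj.left.left.Opens) : openObj E A ⟶ E :=
  EtOver.homMk (overOpenι E.obj.left A) rfl

/-- If a module vanishes on all affine objects, it vanishes. -/
theorem sect_eq_zero_of_forall_affine (M : ModEt X)
    (h : ∀ E : EtOver X, IsAffine E.obj.left.left → ∀ s : sectModEt M E, s = 0)
    (E : EtOver X) (s : sectModEt M E) : s = 0 := by
  let F : AbEt X := (toAbEt X).obj M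
  let s' : ToType (F.obj.obj (op E)) := s
  let z' : ToType (F.obj.obj (op E)) := (0 : sectModEt M E)
  have hall : ∀ u : ↥E.obj.left.left,
      u ∈ Groth.Agent.H53.eqLocus F.obj (U := E) s' z' := by
    intro u
    obtain ⟨_, ⟨A, hA, rfl⟩, huA, -⟩ :=
      (E.obj.left.left.isBasis_affineOpens).exists_subset_of_mem_open (Set.mem_univ u) isOpen_univ
    refine (Groth.Agent.H53.mem_eqLocus_iff F.obj s' z' u).2 ?_
    have hAaff : IsAffine (openObj E A).obj.left.left := hA
    have h1 : F.obj.map (openObjι E A).op s' = F.obj.map (openObjι E A).op z' := by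
      have h1 := h (openObj E A) hAaff (F.obj.map (openObjι E A).op s')
      have h2 := h (openObj E A) hAaff (F.obj.map (openObjι E A).op z')
      exact h1.trans h2.symm
    exact ⟨openObj E A, openObjι E A, h1, ⟨⟨u, huA⟩, rfl⟩⟩
  have key : Set.range (𝟙 E : E ⟶ E).hom.left.left ⊆
      (Groth.Agent.H53.eqLocus F.obj (U := E) s' z' : Set ↥E.obj.left.left) :=
    fun x _ => hall x
  have h3 := Groth.Agent.H53.eq_of_range_subset_eqLocus F (U := E) (V := E) s'
    z' (𝟙 E) key
  have hid : F.obj.map (𝟙 E).op = 𝟙 _ := by rw [op_id, F.obj.map_id]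
  rw [hid] at h3
  exact h3

/-- A module on the small etale site is zero iff it has no weakly associated point. -/
theorem isZero_iff_weakAssEt_eq_empty (M : ModEt X) : IsZero M ↔ WeakAssEt M = ∅ := by
  constructor
  · intro h
    rw [isZero_iff_forall_sect_eq_zero] at h
    rw [Set.eq_empty_iff_forall_notMem]
    rintro x ⟨E, hE, u, -, hu⟩
    exact not_isWeakAssOn_of_subsingleton M E (h E) u hu
  · intro h
    rw [isZero_iff_forall_sect_eq_zero]
    refine sect_eq_zero_of_forall_affine M fun E hE s => ?_
    by_contra hs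
    obtain ⟨u, hu⟩ := exists_isWeakAssOn_of_ne_zero M E s hs
    have : Points.ofPt E.obj.hom u ∈ WeakAssEt M := ⟨E, hE, u, rfl, hu⟩
    rw [h] at this
    exact this

end Groth.Agent.Lib.Helper21.WeakAss
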