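import Groth.Agent.Lib.Helper21.TildeGlue
import Groth.Agent.Lib.Helper21.WeakAss

set_option autoImplicit false
set_option linter.style.haveILetI false
set_option linter.unusedSimpArgs false
set_option backward.isDefEq.respectTransparency false
universe u
open CategoryTheory CategoryTheory.Limits AlgebraicGeometry Opposite
open AlgSp

namespace Groth.Agent.Lib.Helper21.Tilde

variable {S : Scheme.{u}} (X : Sp S)

instance commSections_OEtRing : CommSections (OEtRing X) :=
  ⟨fun E a b => mul_comm (G := (OEt X).obj.obj E) a b⟩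


variable {X}

/-- The ring map on sections of the structure sheaf, through `ULift`. -/
theorem OEtRing_map_apply {E E' : EtOver X} (g : E' ⟶ E) (s : (OEtRing X).obj.obj (op E)) :
    ((OEtRing X).obj.map g.op).hom s = ULift.up (g.hom.left.left.appTop.hom s.down) := rfl

/-- Sections of `OEtRing` are `ULift` of global functions. -/
noncomputable def sectEquiv (E : EtOver X) : (OEtRing X).obj.obj (op E) ≃+* Γ(E.obj.left.left, ⊤) :=
  ULift.ringEquiv

theorem sectEquiv_map {E E' : EtOver X} (g : E' ⟶ E) (s : (OEtRing X).obj.obj (op E)) :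
    sectEquiv E' (((OEtRing X).obj.map g.op).hom s) = g.hom.left.left.appTop.hom (sectEquiv E s) := rfl



theorem flat_OEtRing_map {E E' : EtOver X} (g : E' ⟶ E) (hE : IsAffine E.obj.left.left)
    (hE' : IsAffine E'.obj.left.left) : ((OEtRing X).obj.map g.op).hom.Flat := by
  have het : Etale g.hom.left.left := EtOver.etale_left g
  have hfl : Flat g.hom.left.left := inferInstance
  have h1 : g.hom.left.left.appTop.hom.Flat :=
    (HasRingHomProperty.iff_of_isAffine (P := @Flat)).1 hfl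
  have e : ((OEtRing X).obj.map g.op).hom =
      ((ULift.ringEquiv.symm : Γ(E'.obj.left.left, ⊤) ≃+* ULift.{u+1} Γ(E'.obj.left.left, ⊤)).toRingHom).comp
        (g.hom.left.left.appTop.hom.comp
          (ULift.ringEquiv : ULift.{u+1} Γ(E.obj.left.left, ⊤) ≃+* Γ(E.obj.left.left, ⊤)).toRingHom) :=
    RingHom.ext fun _ => rfl
  rw [e]
  exact RingHom.Flat.comp (RingHom.Flat.comp (RingHom.Flat.of_bijective (RingEquiv.bijective _)) h1)
    (RingHom.Flat.of_bijective (RingEquiv.bijective _))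



/-- A pushout square of commutative rings in the categorical sense is a `PushoutSq`. -/
theorem pushoutSq_of_isPushout {A B A' B' : CommRingCat.{u}} {φ : A ⟶ B} {α : A ⟶ A'} {β : B ⟶ B'}
    {φ' : A' ⟶ B'} (h : IsPushout φ α β φ') : PushoutSq φ.hom α.hom β.hom φ'.hom := by
  have hc : ∀ a, β.hom (φ.hom a) = φ'.hom (α.hom a) := fun a =>
    congrArg (fun k => k.hom a) h.w
  refine ⟨hc, ?_⟩
  letI : Algebra A B := φ.hom.toAlgebra
  letI : Algebra A A' := α.hom.toAlgebra
  letI : Algebra B B' := β.hom.toAlgebra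
  letI : Algebra A' B' := φ'.hom.toAlgebra
  letI : Algebra A B' := (β.hom.comp φ.hom).toAlgebra
  haveI : IsScalarTower A B B' := IsScalarTower.of_algebraMap_eq fun _ => rfl
  haveI : IsScalarTower A A' B' := IsScalarTower.of_algebraMap_eq fun a => hc a
  have h' : IsPushout (CommRingCat.ofHom (algebraMap A B)) (CommRingCat.ofHom (algebraMap A A'))
      (CommRingCat.ofHom (algebraMap B B')) (CommRingCat.ofHom (algebraMap A' B')) := h
  have h2 : Algebra.IsPushout A B A' B' := CommRingCat.isPushout_iff_isPushout.1 h'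
  exact h2.out


theorem pb_OEtRing {W E V : EtOver X} (a : W ⟶ E) (b : V ⟶ E) (hW : IsAffine W.obj.left.left)
    (hE : IsAffine E.obj.left.left) (hV : IsAffine V.obj.left.left) :
    ∃ (P : EtOver X) (p : P ⟶ W) (q : P ⟶ V), IsPullback p q a b ∧ IsAffine P.obj.left.left ∧
      PushoutSq ((OEtRing X).obj.map a.op).hom ((OEtRing X).obj.map b.op).hom
        ((OEtRing X).obj.map p.op).hom ((OEtRing X).obj.map q.op).hom := by
  have hpb := EtOver.isPullback a b
  have hsch : IsPullback (EtOver.pullbackFst a b).hom.left.left (EtOver.pullbackSnd a b).hom.left.left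
      a.hom.left.left b.hom.left.left := hpb.map (EtOver.toScheme X)
  have hPaff : IsAffine (EtOver.pullbackObj a b).obj.left.left := IsAffine.of_isPullback hsch
  refine ⟨_, _, _, hpb, hPaff, ?_⟩
  have hpo := isPushout_appTop_of_isPullback hsch
  have h1 := pushoutSq_of_isPushout hpo
  exact PushoutSq.transport h1
    (eA := (ULift.ringEquiv.symm : Γ(E.obj.left.left, ⊤) ≃+* ULift.{u+1} Γ(E.obj.left.left, ⊤)).toRingHom)
    (RingEquiv.bijective _)
    (eB := (ULift.ringEquiv.symm : Γ(W.obj.left.left, ⊤) ≃+* ULift.{u+1} Γ(W.obj.left.left, ⊤)).toRingHom)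
    (RingEquiv.bijective _)
    (eA' := (ULift.ringEquiv.symm : Γ(V.obj.left.left, ⊤) ≃+* ULift.{u+1} Γ(V.obj.left.left, ⊤)).toRingHom)
    (RingEquiv.bijective _)
    (eB' := (ULift.ringEquiv.symm : Γ((EtOver.pullbackObj a b).obj.left.left, ⊤) ≃+*
      ULift.{u+1} Γ((EtOver.pullbackObj a b).obj.left.left, ⊤)).toRingHom)
    (RingEquiv.bijective _)
    (fun _ => rfl) (fun _ => rfl) (fun _ => rfl) (fun _ => rfl)


open Groth.Agent.Lib.Helper21.WeakAss in
theorem basis_etTop (Y : EtOver X) (T : Sieve Y)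
    (hT : ∀ ⦃W : EtOver X⦄ (f : W ⟶ Y), IsAffine W.obj.left.left → T f) : T ∈ etTop X Y := by
  have hcov : Sieve.ofArrows (fun A : Y.obj.left.left.affineOpens => openObj Y A.1)
      (fun A => openObjι Y A.1) ∈ etTop X Y := by
    refine ofArrows_mem_etTop _ _ fun y => ?_
    obtain ⟨_, ⟨A, hA, rfl⟩, hyA, -⟩ :=
      (Y.obj.left.left.isBasis_affineOpens).exists_subset_of_mem_open (Set.mem_univ y) isOpen_univ
    exact ⟨⟨A, hA⟩, ⟨⟨y, hyA⟩, rfl⟩⟩
  have hmem : ∀ A : Y.obj.left.left.affineOpens, T (openObjι Y A.1) := fun A =>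
    hT _ (show IsAffine (openObj Y A.1).obj.left.left from A.2)
  refine (etTop X).superset_covering ?_ hcov
  rintro Z f ⟨Z', s, _, ⟨A⟩, rfl⟩
  exact T.downward_closed (hmem A) s



theorem exists_prime_comap_of_mem_range {Y E : Scheme.{u}} [IsAffine Y] [IsAffine E] (g : Y ⟶ E)
    (p : ↥(Spec Γ(E, ⊤))) (h : E.isoSpec.inv p ∈ Set.range g) :
    ∃ q : PrimeSpectrum Γ(Y, ⊤), q.comap g.appTop.hom = p := by
  obtain ⟨y, hy⟩ := h
  refine ⟨Y.isoSpec.hom y, ?_⟩
  have hn := Scheme.isoSpec_hom_naturality g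
  have h1 : (Spec.map g.appTop) (Y.isoSpec.hom y) = E.isoSpec.hom (g y) := by
    rw [← Scheme.Hom.comp_apply, ← Scheme.Hom.comp_apply, hn]
  have h2 : E.isoSpec.hom (E.isoSpec.inv p) = p := by
    rw [← Scheme.Hom.comp_apply, Iso.inv_hom_id]
    rfl
  rw [hy, h2] at h1
  exact h1


open Groth.Agent.Lib.Helper21.WeakAss in
theorem cover_etTop {E : EtOver X} (T : Sieve E) (hE : IsAffine E.obj.left.left)
    (hT : T ∈ etTop X E) :
    ∃ (n : ℕ) (Y : Fin n → EtOver X) (g : ∀ k, Y k ⟶ E), (∀ k, IsAffine (Y k).obj.left.left) ∧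
      (∀ k, T (g k)) ∧ Sieve.ofArrows Y g ∈ etTop X E ∧
      ∀ p : PrimeSpectrum ((OEtRing X).obj.obj (op E)), ∃ k,
        ∃ q : PrimeSpectrum ((OEtRing X).obj.obj (op (Y k))),
          q.comap ((OEtRing X).obj.map (g k).op).hom = p := by
  rw [etTop, Precoverage.mem_toGrothendieck_iff_of_isStableUnderComposition] at hT
  obtain ⟨R', hR', hle⟩ := hT
  obtain ⟨ι, Z, f, rfl⟩ := R'.exists_eq_ofArrows
  rw [ofArrows_mem_etPre_iff] at hR'
  have hpt : ∀ x : E.obj.left.left, ∃ (i : ι) (A : (Z i).obj.left.left.affineOpens),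
      x ∈ Set.range (openObjι (Z i) A.1 ≫ f i).hom.left.left := by
    intro x
    obtain ⟨i, z, hz⟩ := hR' x
    obtain ⟨_, ⟨A, hA, rfl⟩, hzA, -⟩ :=
      ((Z i).obj.left.left.isBasis_affineOpens).exists_subset_of_mem_open (Set.mem_univ z)
        isOpen_univ
    exact ⟨i, ⟨A, hA⟩, ⟨⟨z, hzA⟩, hz⟩⟩
  choose i A hx using hpt
  let V : E.obj.left.left → Set E.obj.left.left := fun x =>
    Set.range (openObjι (Z (i x)) (A x).1 ≫ f (i x)).hom.left.left
  have hVopen : ∀ x, IsOpen (V x) := fun x => by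
    have : Etale (openObjι (Z (i x)) (A x).1 ≫ f (i x)).hom.left.left := EtOver.etale_left _
    exact (Scheme.Hom.isOpenMap _).isOpen_range
  have hcomp : CompactSpace E.obj.left.left := inferInstance
  obtain ⟨t, ht⟩ := isCompact_univ.elim_finite_subcover V hVopen
    (fun x _ => Set.mem_iUnion.2 ⟨x, hx x⟩)
  let e : Fin t.card ≃ t := t.equivFin.symm
  let Y : Fin t.card → EtOver X := fun k => openObj (Z (i (e k).1)) (A (e k).1).1
  let g : ∀ k, Y k ⟶ E := fun k => openObjι (Z (i (e k).1)) (A (e k).1).1 ≫ f (i (e k).1)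
  have hsurj : ∀ x : E.obj.left.left, ∃ k, x ∈ Set.range (g k).hom.left.left := by
    intro x
    have := ht (Set.mem_univ x)
    simp only [Set.mem_iUnion] at this
    obtain ⟨x', hx't, hxx'⟩ := this
    refine ⟨e.symm ⟨x', hx't⟩, ?_⟩
    change x ∈ Set.range (openObjι (Z (i (e (e.symm ⟨x', hx't⟩)).1))
      (A (e (e.symm ⟨x', hx't⟩)).1).1 ≫ f (i (e (e.symm ⟨x', hx't⟩)).1)).hom.left.left
    rw [Equiv.apply_symm_apply]
    exact hxx'
  have hYaff : ∀ k, IsAffine (Y k).obj.left.left := fun k => (A (e k).1).2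
  refine ⟨t.card, Y, g, hYaff, fun k => ?_, ofArrows_mem_etTop Y g hsurj, fun p => ?_⟩
  · exact Sieve.downward_closed _ (hle _ _ (Presieve.ofArrows.mk (i (e k).1))) _
  · let p' : PrimeSpectrum Γ(E.obj.left.left, ⊤) :=
      p.comap (ULift.ringEquiv.symm :
        Γ(E.obj.left.left, ⊤) ≃+* ULift.{u+1} Γ(E.obj.left.left, ⊤)).toRingHom
    obtain ⟨k, hk⟩ := hsurj (E.obj.left.left.isoSpec.inv p')
    haveI := hYaff k
    obtain ⟨q', hq'⟩ := exists_prime_comap_of_mem_range (g k).hom.left.left p' hk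
    have hq'' : ∀ a, a ∈ (q'.comap (g k).hom.left.left.appTop.hom).asIdeal ↔ a ∈ p'.asIdeal := by
      intro a
      rw [hq']
    refine ⟨k, q'.comap (ULift.ringEquiv :
        ULift.{u+1} Γ((Y k).obj.left.left, ⊤) ≃+* Γ((Y k).obj.left.left, ⊤)).toRingHom,
      PrimeSpectrum.ext (Ideal.ext fun s => ?_)⟩
    exact hq'' s.down


variable (X) in
/-- The affine data of the small etale site of `X`: the objects with affine underlying scheme. -/
def etAffData : AffData (etTop X) (OEtRing X) where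
  Aff E := IsAffine E.obj.left.left
  basis := basis_etTop
  flat := fun _ _ g hE hE' => flat_OEtRing_map g hE hE'
  pb := fun _ _ _ a b hW hE hV => pb_OEtRing a b hW hE hV
  cover := fun _ T hE hT => cover_etTop T hE hT

/-- **Theorem A on the small etale site**: for a quasi-coherent module `M` and a morphism
`g : E' ⟶ E` of affine objects, `M(E') = O(E') ⊗_{O(E)} M(E)`. -/
theorem isBC_of_isQuasicoherent_et (M : ModEt X) [M.IsQuasicoherent] {E E' : EtOver X}
    (g : E' ⟶ E) (hE : IsAffine E.obj.left.left) (hE' : IsAffine E'.obj.left.left) :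
    IsBC M.val g.op :=
  (etAffData X).isBC_of_isQuasicoherent M g hE hE'

end Groth.Agent.Lib.Helper21.Tilde
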