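import Groth.Agent.Lib.Helper21.TildeQc
import Groth.Agent.Lib.Helper21.TildeEt

set_option autoImplicit false
set_option linter.style.haveILetI false
set_option linter.unusedSimpArgs false
set_option backward.isDefEq.respectTransparency false
universe u
open CategoryTheory CategoryTheory.Limits AlgebraicGeometry Opposite
open AlgSp

namespace Groth.Agent.Lib.Helper21.Tilde

variable {S : Scheme.{u}} {X : Sp S}

/-- **Theorem B on the small etale site**: a module which is a base change presheaf on affine
objects is quasi-coherent. -/
theorem isQuasicoherent_of_isBC_et (M : ModEt X)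
    (hM : ∀ ⦃E E' : EtOver X⦄ (g : E' ⟶ E), IsAffine E.obj.left.left → IsAffine E'.obj.left.left →
      IsBC M.val g.op) : M.IsQuasicoherent :=
  (etAffData X).isQuasicoherent_of_isBC M hM

/-- Quasi-coherence on the small etale site is the base change property on affine objects. -/
theorem isQuasicoherent_iff_isBC_et (M : ModEt X) :
    M.IsQuasicoherent ↔ ∀ ⦃E E' : EtOver X⦄ (g : E' ⟶ E), IsAffine E.obj.left.left →
      IsAffine E'.obj.left.left → IsBC M.val g.op :=
  ⟨fun _ _ _ g hE hE' => isBC_of_isQuasicoherent_et M g hE hE', isQuasicoherent_of_isBC_et M⟩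

end Groth.Agent.Lib.Helper21.Tilde
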