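import Groth.Agent.Lib.Helper21.TildeFin
import Groth.Agent.Lib.Helper21.TildeEtQc
import Groth.Agent.H53.NoSpecNoeth

set_option autoImplicit false
set_option linter.style.haveILetI false
set_option linter.unusedSimpArgs false
set_option backward.isDefEq.respectTransparency false
universe u
open CategoryTheory CategoryTheory.Limits AlgebraicGeometry Opposite
open AlgSp

namespace Groth.Agent.Lib.Helper21.Tilde

variable {S : Scheme.{u}} {X : Sp S}

/-- On a locally Noetherian space, the rings of sections of the structure sheaf over affine
objects of the small etale site are Noetherian. -/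
theorem isNoetherianRing_sections_et (hX : IsLocNoethSp X) (E : EtOver X)
    (hE : IsAffine E.obj.left.left) : IsNoetherianRing ((OEtRing X).obj.obj (op E)) := by
  have h1 : IsLocallyNoetherian E.obj.left.left :=
    Groth.Agent.H53.isLocallyNoetherian_of_etale_chart hX E.obj.hom E.property
  have h2 : IsNoetherianRing Γ(E.obj.left.left, ⊤) :=
    IsLocallyNoetherian.component_noetherian ⟨⊤, isAffineOpen_top _⟩
  exact isNoetherianRing_of_ringEquiv Γ(E.obj.left.left, ⊤)
    (ULift.ringEquiv : ULift.{u+1} Γ(E.obj.left.left, ⊤) ≃+* Γ(E.obj.left.left, ⊤)).symm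

/-- Sections over affine objects of a quasi-coherent module of finite type form a finite
module. -/
theorem finite_sections_et (M : ModEt X) [M.IsQuasicoherent] [M.IsFiniteType] (E : EtOver X)
    (hE : IsAffine E.obj.left.left) :
    Module.Finite ((OEtRing X).obj.obj (op E)) (M.val.obj (op E)) :=
  (etAffData X).finite_sections_of_isFiniteType M
    (fun _ _ g h₁ h₂ => isBC_of_isQuasicoherent_et M g h₁ h₂) hE

/-- On a locally Noetherian space, a quasi-coherent module with finite modules of sections over
affine objects is of finite presentation. -/
theorem isFinitePresentation_of_finite_et (hX : IsLocNoethSp X) (M : ModEt X)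
    (hM : ∀ ⦃E E' : EtOver X⦄ (g : E' ⟶ E), IsAffine E.obj.left.left → IsAffine E'.obj.left.left →
      IsBC M.val g.op)
    (hfin : ∀ (E : EtOver X), IsAffine E.obj.left.left →
      Module.Finite ((OEtRing X).obj.obj (op E)) (M.val.obj (op E))) :
    M.IsFinitePresentation :=
  (etAffData X).isFinitePresentation_of_isBC M hM (fun E hE => hfin E hE)
    (fun E hE => isNoetherianRing_sections_et hX E hE)

end Groth.Agent.Lib.Helper21.Tilde
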