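import Groth.Agent.Lib.Helper21.TildeEtFin

set_option autoImplicit false
set_option linter.style.haveILetI false
set_option linter.unusedSimpArgs false
universe w v u
open CategoryTheory CategoryTheory.Limits Opposite TensorProduct

namespace Groth.Agent.Lib.Helper21.Tilde

section
variable {C : Type u} [Category.{v} C] {J : GrothendieckTopology C}
variable {R : Sheaf J RingCat.{w}} [CommSections R] (D : AffData J R)
variable [∀ X, HasSheafify (J.over X) AddCommGrpCat.{w}]
  [∀ X, (J.over X).WEqualsLocallyBijective AddCommGrpCat.{w}]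

/-- Finitely many generating sections over an affine object from a finite module of sections. -/
theorem AffData.exists_finite_generatingSections (M : SheafOfModules.{w} R)
    (hM : ∀ ⦃E E' : C⦄ (g : E' ⟶ E), D.Aff E → D.Aff E' → IsBC M.val g.op)
    {E : C} (hE : D.Aff E) (hfin : Module.Finite (R.obj.obj (op E)) (M.val.obj (op E))) :
    ∃ σ : (M.over E).GeneratingSections, σ.IsFiniteType := by
  have hM' : ∀ ⦃E₁ E₂ : Over E⦄ (g : E₂ ⟶ E₁), (D.over E).Aff E₁ → (D.over E).Aff E₂ →
      IsBC (M.over E).val g.op := fun _ _ g h₁ h₂ => hM g.left h₁ h₂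
  have hT : IsTerminal (Over.mk (𝟙 E)) := Over.mkIdTerminal
  have hTaff : (D.over E).Aff (Over.mk (𝟙 E)) := hE
  obtain ⟨n, s, hs⟩ := Module.Finite.exists_fin (R := R.obj.obj (op E))
    (M := M.val.obj (op E))
  let s₁ : ULift.{w} (Fin n) → (M.over E).val.obj (op (Over.mk (𝟙 E))) := fun i => s i.down
  have hs₁ : Submodule.span ((R.over E).obj.obj (op (Over.mk (𝟙 E)))) (Set.range s₁) = ⊤ := by
    have : Set.range s₁ = Set.range s := by
      ext x
      constructor
      · rintro ⟨i, rfl⟩
        exact ⟨i.down, rfl⟩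
      · rintro ⟨i, rfl⟩
        exact ⟨ULift.up i, rfl⟩
    rw [this]
    exact hs
  exact ⟨(D.over E).generatingSections (M.over E) hM' hT hTaff s₁ hs₁,
    ⟨inferInstanceAs (Finite (ULift.{w} (Fin n)))⟩⟩

/-- A sheaf of modules which is a base change presheaf on affines, with finite modules of sections
over a covering family of affine objects, is of finite type. -/
theorem AffData.isFiniteType_of_isBC_cover (M : SheafOfModules.{w} R)
    (hM : ∀ ⦃E E' : C⦄ (g : E' ⟶ E), D.Aff E → D.Aff E' → IsBC M.val g.op)
    {I : Type u} (X : I → C) (hX : J.CoversTop X) (hXaff : ∀ i, D.Aff (X i))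
    (hfin : ∀ i, Module.Finite (R.obj.obj (op (X i))) (M.val.obj (op (X i)))) :
    M.IsFiniteType := by
  have key := fun i => D.exists_finite_generatingSections M hM (hXaff i) (hfin i)
  choose σ hσ using key
  exact ⟨⟨{ I := I, X := X, coversTop := hX, generators := σ }, ⟨hσ⟩⟩⟩

/-- A sheaf of modules which is a base change presheaf on affines, with finite modules of sections
over affine objects, is of finite type. -/
theorem AffData.isFiniteType_of_isBC (M : SheafOfModules.{w} R)
    (hM : ∀ ⦃E E' : C⦄ (g : E' ⟶ E), D.Aff E → D.Aff E' → IsBC M.val g.op)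
    (hfin : ∀ ⦃E : C⦄, D.Aff E → Module.Finite (R.obj.obj (op E)) (M.val.obj (op E))) :
    M.IsFiniteType :=
  D.isFiniteType_of_isBC_cover M hM (I := {E : C // D.Aff E}) Subtype.val
    (fun W => D.basis W _ (fun V _ hV => (Sieve.mem_ofObjects_iff ..).2 ⟨⟨V, hV⟩, ⟨𝟙 V⟩⟩))
    (fun E => E.2) (fun E => hfin E.2)

end

end Groth.Agent.Lib.Helper21.Tilde
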