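import Groth.Agent.Lib.Helper21.TildeAlg

set_option autoImplicit false
set_option linter.style.haveILetI false
set_option linter.unusedSimpArgs false
open TensorProduct

namespace Groth.Agent.Lib.Helper21.Tilde

section
variable {A B : Type*} [CommRing A] [CommRing B]
variable {M N : Type*} [AddCommGroup M] [Module A M] [AddCommGroup N] [Module B N]

/-- Flat base change and annihilators: if `m` dies in the flat base change `B ⊗_A M`, then the
annihilator of `m` generates the unit ideal of `B`; in particular it lies in the contraction of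
no proper ideal of `B`. -/
theorem SLBC.false_of_ann_le {φ : A →+* B} (hφ : φ.Flat) {f : M →ₛₗ[φ] N} (hf : SLBC φ f)
    (m : M) (hm : f m = 0) (q : Ideal B) (hq : q ≠ ⊤) (hle : ∀ a : A, a • m = 0 → φ a ∈ q) :
    False := by
  letI : Algebra A B := φ.toAlgebra
  haveI : Module.Flat A B := hφ
  obtain ⟨e, he⟩ := hf.exists_equiv
  have h0 : (1 : B) ⊗ₜ[A] m = 0 := by
    apply e.injective
    rw [he, one_smul, hm, map_zero]
  let I : Ideal A := LinearMap.ker (LinearMap.toSpanSingleton A M m)
  let g : A ⧸ I →ₗ[A] M := Submodule.liftQ I (LinearMap.toSpanSingleton A M m) le_rfl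
  have hg : Function.Injective g := by
    rw [← LinearMap.ker_eq_bot]
    exact Submodule.ker_liftQ_eq_bot _ _ _ le_rfl
  have hgB := Module.Flat.lTensor_preserves_injective_linearMap (M := B) g hg
  have h1 : (1 : B) ⊗ₜ[A] (Ideal.Quotient.mk I 1) = 0 := by
    apply hgB
    rw [LinearMap.lTensor_tmul, map_zero]
    have : g (Ideal.Quotient.mk I 1) = m := by
      change Submodule.liftQ I (LinearMap.toSpanSingleton A M m) le_rfl (Submodule.Quotient.mk 1) = m
      rw [Submodule.liftQ_apply, LinearMap.toSpanSingleton_apply, one_smul]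
    rw [this, h0]
  have h2 := congrArg (TensorProduct.tensorQuotEquivQuotSMul B I) h1
  rw [tensorQuotEquivQuotSMul_tmul_mk, one_smul, map_zero, Submodule.Quotient.mk_eq_zero] at h2
  have h3 : (I • (⊤ : Submodule A B)) ≤ q.restrictScalars A := by
    rw [Submodule.smul_le]
    intro a ha b _
    have ha' : a • m = 0 := by simpa [I, LinearMap.toSpanSingleton_apply] using ha
    have : φ a ∈ q := hle a ha'
    exact q.mul_mem_right b this
  exact hq (q.eq_top_iff_one.2 (h3 h2))

end

end Groth.Agent.Lib.Helper21.Tilde
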