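import Groth.Agent.Lib.Helper21.TildeEt
import Groth.Agent.Lib.Helper21.TildeAnn
import Groth.Agent.H53.EtReduced
import Groth.Prelude.Def_AlgSpSub

set_option autoImplicit false
set_option linter.style.haveILetI false
set_option linter.unusedSimpArgs false
set_option backward.isDefEq.respectTransparency false
universe u
open CategoryTheory CategoryTheory.Limits AlgebraicGeometry Opposite
open AlgSp

namespace Groth.Agent.Lib.Helper21.Tilde

variable {S : Scheme.{u}} {X : Sp S}

/-- The prime of a point pulls back to the prime of its image. -/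
theorem comap_primeAtPt {Z W : Scheme.{u}} (f : Z ⟶ W) (z : Z) :
    (primeAtPt Z z).comap f.appTop.hom = primeAtPt W (f z) := by
  ext x
  simp only [primeAtPt, Ideal.mem_comap, IsLocalRing.mem_maximalIdeal, mem_nonunits_iff]
  have h := Scheme.Hom.germ_stalkMap_apply f ⊤ z trivial x
  have h' : (Z.presheaf.germ ⊤ z trivial).hom (f.appTop.hom x) =
      (f.stalkMap z).hom ((W.presheaf.germ ⊤ (f z) trivial).hom x) := h.symm
  rw [h']
  have : IsLocalHom (f.stalkMap z).hom := inferInstance
  rw [isUnit_map_iff]

/-- A section of a module on the small etale site vanishing on all affine objects over its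
object vanishes. -/
theorem sect_eq_zero_of_affine (M : ModEt X) {W : EtOver X} (d : M.val.obj (op W))
    (h : ∀ (W' : EtOver X) (f : W' ⟶ W), IsAffine W'.obj.left.left → M.val.map f.op d = 0) :
    d = 0 := by
  let T : Sieve W :=
    { arrows := fun Y f => M.val.map f.op d = 0
      downward_closed := fun {Y Z f} hf g => by
        rw [op_comp, PresheafOfModules.map_comp_apply, hf, map_zero] }
  have hT : T ∈ etTop X W := basis_etTop W T (fun W' f hW' => h W' f hW')
  refine eq_of_locally_eq M T hT d 0 (fun Y f hf => ?_)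
  rw [map_zero]
  exact hf

open Groth.Agent.Lib.Helper21.WeakAss in
/-- Key step: a section over an affine object, of a quasi-coherent module, whose restrictions to
the objects over `E` vanish, vanishes if the image of `E` contains the weakly associated points. -/
theorem sect_eq_zero_of_weakAss_subset (M : ModEt X) [M.IsQuasicoherent] (E : EtOver X)
    (hE : WeakAssEt M ⊆ Set.range (Points.ofPt E.obj.hom)) (W : EtOver X)
    (hW : IsAffine W.obj.left.left) (t : M.val.obj (op W))
    (ht : ∀ (Z : EtOver X) (a : Z ⟶ W) (_ : Z ⟶ E), M.val.map a.op t = 0) : t = 0 := by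
  by_contra hne
  have hann : annSect (M := M) (E := W) t ≠ ⊤ := by
    intro h
    have h1 : (1 : Γ(W.obj.left.left, ⊤)) ∈ annSect (M := M) (E := W) t := h ▸ Submodule.mem_top
    rw [mem_annSect_iff, map_one, one_smul] at h1
    exact hne h1
  obtain ⟨p, hp⟩ := Ideal.nonempty_minimalPrimes hann
  have hpp : p.IsPrime := hp.1.1
  obtain ⟨u, hu⟩ := exists_primeAtPt_eq W.obj.left.left p
  have hwa : Points.ofPt W.obj.hom u ∈ WeakAssEt M := ⟨W, hW, u, rfl, t, hu ▸ hp⟩
  obtain ⟨e, he⟩ := hE hwa
  obtain ⟨z, hz1, hz2⟩ := Groth.Agent.H53.exists_point_prodObj' W E u e he.symm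
  obtain ⟨_, ⟨A, hA, rfl⟩, hzA, -⟩ :=
    ((EtOver.prodObj W E).obj.left.left.isBasis_affineOpens).exists_subset_of_mem_open
      (Set.mem_univ z) isOpen_univ
  let Z : EtOver X := openObj (EtOver.prodObj W E) A
  have hZ : IsAffine Z.obj.left.left := hA
  let a : Z ⟶ W := openObjι (EtOver.prodObj W E) A ≫ EtOver.prodFst W E
  let b : Z ⟶ E := openObjι (EtOver.prodObj W E) A ≫ EtOver.prodSnd W E
  let z' : Z.obj.left.left := ⟨z, hzA⟩
  have haz : a.hom.left.left z' = u := hz1
  have hBC := isBC_of_isQuasicoherent_et M a hW hZ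
  have hfl := flat_OEtRing_map a hW hZ
  let q : Ideal ((OEtRing X).obj.obj (op Z)) :=
    (primeAtPt Z.obj.left.left z').comap
      (ULift.ringEquiv : ULift.{u+1} Γ(Z.obj.left.left, ⊤) ≃+* Γ(Z.obj.left.left, ⊤)).toRingHom
  have hq : q ≠ ⊤ := (Ideal.comap_isPrime _ _).ne_top
  refine SLBC.false_of_ann_le hfl hBC t (ht Z a b) q hq (fun r hr => ?_)
  have h1 : r.down ∈ annSect (M := M) (E := W) t := by
    rw [mem_annSect_iff]
    exact hr
  have h2 : r.down ∈ primeAtPt W.obj.left.left u := by
    rw [hu]
    exact hp.1.2 h1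
  rw [← haz, ← comap_primeAtPt] at h2
  exact h2

end Groth.Agent.Lib.Helper21.Tilde
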