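import Groth.Prelude.Def_Exal
import Groth.Prelude.Def_Exal2
import Mathlib.LinearAlgebra.Isomorphisms
import Mathlib.LinearAlgebra.Prod
import Mathlib.Tactic.LinearCombination
import Mathlib.Tactic.Ring

/-!
# Basic lemmas on `Exal.Ext` (helper21)
-/

set_option autoImplicit false
universe u v

namespace Groth.Agent.Lib.Helper21

namespace ExalLemmas

open Exal

variable {A : Type u} {B L : Type v} [CommRing A] [CommRing B] [Algebra A B] [AddCommGroup L]
  [Module B L]

lemma proj_incl (X : Exal.Ext A B L) (z : L) : X.proj (X.incl z) = 0 :=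
  (X.isExtension.exact _).2 ⟨z, rfl⟩

lemma incl_mul_incl (X : Exal.Ext A B L) (z z' : L) : X.incl z * X.incl z' = 0 := by
  rw [X.isExtension.mul_incl, proj_incl, zero_smul, map_zero]

lemma ker_proj_sq (X : Exal.Ext A B L) : RingHom.ker (X.proj : X.E →+* B) ^ 2 = ⊥ := by
  rw [eq_bot_iff, pow_two, Ideal.mul_le]
  intro x hx y hy
  rw [RingHom.mem_ker] at hx hy
  obtain ⟨z, rfl⟩ := (X.isExtension.exact x).1 hx
  obtain ⟨z', rfl⟩ := (X.isExtension.exact y).1 hy
  rw [incl_mul_incl]
  exact Ideal.zero_mem _

lemma kerLift_incl (X : Exal.Ext A B L) (z : L) (h : X.proj (X.incl z) = 0) :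
    X.kerLift (X.incl z) h = z :=
  X.isExtension.incl_injective (X.incl_kerLift _ _)

variable [Module A L] [IsScalarTower A B L]

lemma algebraMap_mul_incl (X : Exal.Ext A B L) (a : A) (z : L) :
    algebraMap A X.E a * X.incl z = X.incl (a • z) := by
  rw [X.isExtension.mul_incl, AlgHom.commutes, algebraMap_smul]

/-- The inclusion of an extension as an `A`-linear map. -/
noncomputable def inclₗ (X : Exal.Ext A B L) : L →ₗ[A] X.E where
  toFun := X.incl
  map_add' := map_add _
  map_smul' a z := by
    rw [RingHom.id_apply, Algebra.smul_def, algebraMap_mul_incl]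

@[simp] lemma inclₗ_apply (X : Exal.Ext A B L) (z : L) : inclₗ X z = X.incl z := rfl

/-- The map `A × L → E`, `(a, z) ↦ a + i z`. -/
noncomputable def psi (X : Exal.Ext A B L) : (A × L) →ₗ[A] X.E :=
  (Algebra.linearMap A X.E).coprod (inclₗ X)

lemma psi_apply (X : Exal.Ext A B L) (p : A × L) :
    psi X p = algebraMap A X.E p.1 + X.incl p.2 := rfl

lemma psi_mul (X : Exal.Ext A B L) (p q : A × L) :
    psi X p * psi X q = psi X (p.1 * q.1, p.1 • q.2 + q.1 • p.2) := by
  simp only [psi_apply, map_add, map_mul, ← algebraMap_mul_incl]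
  have := incl_mul_incl X p.2 q.2
  linear_combination this

lemma proj_psi (X : Exal.Ext A B L) (p : A × L) : X.proj (psi X p) = algebraMap A B p.1 := by
  rw [psi_apply, map_add, proj_incl, add_zero, AlgHom.commutes]

lemma psi_surjective (X : Exal.Ext A B L) (hs : Function.Surjective (algebraMap A B)) :
    Function.Surjective (psi X) := by
  intro x
  obtain ⟨a, ha⟩ := hs (X.proj x)
  have h0 : X.proj (x - algebraMap A X.E a) = 0 := by
    rw [map_sub, AlgHom.commutes, ha, sub_self]
  obtain ⟨z, hz⟩ := (X.isExtension.exact _).1 h0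
  exact ⟨(a, z), by rw [psi_apply, hz]; ring⟩

/-- Two extensions of `B` by `L` over `A → B` surjective, whose maps `psi` have the same kernel,
are equivalent. -/
noncomputable def equivOfKerPsiEq (X Y : Exal.Ext A B L)
    (hs : Function.Surjective (algebraMap A B))
    (hk : LinearMap.ker (psi X) = LinearMap.ker (psi Y)) : X.Equiv Y :=
  let e : X.E ≃ₗ[A] Y.E :=
    ((psi X).quotKerEquivOfSurjective (psi_surjective X hs)).symm ≪≫ₗ
      (Submodule.quotEquivOfEq _ _ hk) ≪≫ₗ
      ((psi Y).quotKerEquivOfSurjective (psi_surjective Y hs))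
  have he : ∀ p, e (psi X p) = psi Y p := by
    intro p
    have h1 : ((psi X).quotKerEquivOfSurjective (psi_surjective X hs)).symm (psi X p) =
        Submodule.Quotient.mk p := by
      rw [LinearEquiv.symm_apply_eq]
      rfl
    simp only [e, LinearEquiv.trans_apply, h1]
    rfl
  { toAlgEquiv := AlgEquiv.ofLinearEquiv e
      (by
        have := he (1, 0)
        simpa [psi_apply] using this)
      (by
        intro x y
        obtain ⟨p, rfl⟩ := psi_surjective X hs x
        obtain ⟨q, rfl⟩ := psi_surjective X hs y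
        rw [psi_mul, he, he, he, psi_mul])
    proj_apply := by
      intro x
      obtain ⟨p, rfl⟩ := psi_surjective X hs x
      change Y.proj (e (psi X p)) = _
      rw [he, proj_psi, proj_psi]
    apply_incl := by
      intro z
      have := he (0, z)
      simpa [psi_apply] using this }

section Conormal

variable {B₁ : Type v} [CommRing B₁] (J : Ideal B₁) {M : Type v} [AddCommGroup M]
  [Module (B₁ ⧸ J) M] [Module B₁ M] [IsScalarTower B₁ (B₁ ⧸ J) M]

lemma incl_idealToKer (Z : Exal.Ext B₁ (B₁ ⧸ J) M) (z : J) :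
    Z.incl (Z.idealToKer J z) = algebraMap B₁ Z.E z :=
  Z.incl_kerLift _ (Z.proj_algebraMap_eq_zero J z)

lemma idealToKer_eq_comp (Z : Exal.Ext B₁ (B₁ ⧸ J) M) :
    Z.idealToKer J = (Z.conormalMap J).comp (Submodule.mkQ _) :=
  (Submodule.liftQ_mkQ _ _ _).symm

lemma conormalMap_toCotangent (Z : Exal.Ext B₁ (B₁ ⧸ J) M) (z : J) :
    Z.conormalMap J (J.toCotangent z) = Z.idealToKer J z := rfl

end Conormal

end ExalLemmas

end Groth.Agent.Lib.Helper21
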