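import Groth.Agent.Lib.Helper21.Exal
import Mathlib.RingTheory.Ideal.Cotangent
import Mathlib.RingTheory.Ideal.Quotient.Operations

/-!
# The extension `P ⧸ J ^ 2 → B` attached to a surjection `P → B` with kernel `J` (helper21)
-/

set_option autoImplicit false
universe u v

namespace Groth.Agent.Lib.Helper21

namespace ExalLemmas

open Exal

variable {A : Type u} {B P : Type v} [CommRing A] [CommRing B] [Algebra A B] [CommRing P]
  [Algebra A P]

/-- The `B`-module structure on `J/J²` for `J` the kernel of a surjection `f : P → B`. -/
@[reducible] noncomputable def cotangentModule (f : P →ₐ[A] B) (hf : Function.Surjective f) :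
    Module B (RingHom.ker f.toRingHom).Cotangent :=
  Module.compHom _
    ((RingHom.quotientKerEquivOfSurjective (f := f.toRingHom) hf).symm :
      B →+* P ⧸ RingHom.ker f.toRingHom)

lemma cotangentModule_smul (f : P →ₐ[A] B) (hf : Function.Surjective f) (p : P)
    (c : (RingHom.ker f.toRingHom).Cotangent) :
    letI := cotangentModule f hf
    f p • c = p • c := by
  letI := cotangentModule f hf
  change ((RingHom.quotientKerEquivOfSurjective (f := f.toRingHom) hf).symm (f p)) • c = p • c
  have : (RingHom.quotientKerEquivOfSurjective (f := f.toRingHom) hf).symm (f p) =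
      Ideal.Quotient.mk _ p := by
    rw [RingEquiv.symm_apply_eq]
    rfl
  rw [this]
  rfl

/-- The extension `0 → J/J² → P/J² → B → 0` attached to a surjection `f : P → B` with kernel `J`. -/
noncomputable def extOfSurjective (f : P →ₐ[A] B) (hf : Function.Surjective f) :
    letI := cotangentModule f hf
    Exal.Ext A B (RingHom.ker f.toRingHom).Cotangent :=
  letI := cotangentModule f hf
  { E := P ⧸ RingHom.ker f.toRingHom ^ 2
    commRing := inferInstance
    algebra := inferInstance
    proj := f.kerSquareLift
    incl := (RingHom.ker f.toRingHom).cotangentToQuotientSquare.toAddMonoidHom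
    isExtension :=
      { proj_surjective := fun b => by
          obtain ⟨p, rfl⟩ := hf b
          exact ⟨Ideal.Quotient.mk _ p, rfl⟩
        incl_injective := (RingHom.ker f.toRingHom).cotangentToQuotientSquare_injective
        exact := fun x => by
          obtain ⟨x, rfl⟩ := Ideal.Quotient.mk_surjective x
          rw [AlgHom.kerSquareLift_mk]
          change x ∈ RingHom.ker f.toRingHom ↔ _
          rw [← Ideal.mk_mem_cotangentIdeal (I := RingHom.ker f.toRingHom),
            ← Submodule.restrictScalars_mem P,
            ← Ideal.range_cotangentToQuotientSquare, LinearMap.mem_range]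
          rfl
        mul_incl := fun x z => by
          obtain ⟨x, rfl⟩ := Ideal.Quotient.mk_surjective x
          rw [AlgHom.kerSquareLift_mk, cotangentModule_smul f hf]
          obtain ⟨z, rfl⟩ := (RingHom.ker f.toRingHom).toCotangent_surjective z
          rw [LinearMap.toAddMonoidHom_coe, Ideal.toCotangent_to_quotient_square, ← map_smul,
            Ideal.toCotangent_to_quotient_square,
            Submodule.mkQ_apply, Submodule.mkQ_apply, Submodule.coe_smul, smul_eq_mul]
          rfl } }

lemma extOfSurjective_proj (f : P →ₐ[A] B) (hf : Function.Surjective f) :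
    letI := cotangentModule f hf
    (extOfSurjective f hf).proj = f.kerSquareLift := rfl

end ExalLemmas

end Groth.Agent.Lib.Helper21
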