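import Groth.Agent.Lib.Helper21.OrdOpen
import Groth.Agent.Lib.Helper21.OrdAffine

/-!
# The map of function fields induced by a dominant morphism of integral schemes (helper21)
-/

set_option autoImplicit false
universe u
open CategoryTheory CategoryTheory.Limits AlgebraicGeometry TopologicalSpace

namespace Groth.Agent.Lib.Helper21.FFMap

section Def

variable {Y Z : Scheme.{u}} [IsIntegral Y] [IsIntegral Z] (f : Y ⟶ Z)

/-- The map of function fields induced by a morphism of integral schemes sending the generic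
point to the generic point. -/
noncomputable def ffMap (hf : f (genericPoint Y) = genericPoint Z) :
    Z.functionField ⟶ Y.functionField :=
  Z.presheaf.stalkSpecializes (specializes_of_eq hf) ≫ f.stalkMap (genericPoint Y)

lemma ffMap_algebraMap (hf : f (genericPoint Y) = genericPoint Z) (y : Y)
    (r : Z.presheaf.stalk (f y)) :
    (ffMap f hf).hom (algebraMap (Z.presheaf.stalk (f y)) Z.functionField r) =
      algebraMap (Y.presheaf.stalk y) Y.functionField ((f.stalkMap y).hom r) := by
  simp only [RingHom.algebraMap_toAlgebra]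
  have hY : genericPoint Y ⤳ y := (genericPoint_spec Y).specializes trivial
  have := Scheme.Hom.stalkSpecializes_stalkMap f (genericPoint Y) y hY
  have h2 : (Z.presheaf.stalkSpecializes ((genericPoint_spec Z).specializes trivial)) ≫
      ffMap f hf = f.stalkMap y ≫ Y.presheaf.stalkSpecializes hY := by
    rw [← this, ffMap, ← Category.assoc, TopCat.Presheaf.stalkSpecializes_comp]
  exact congr($(h2).hom r)

lemma ffMap_germ (hf : f (genericPoint Y) = genericPoint Z) (V : Z.Opens)
    (hV : genericPoint Z ∈ V) (s : Γ(Z, V)) :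
    (ffMap f hf).hom (Z.presheaf.germ V (genericPoint Z) hV s) =
      Y.presheaf.germ (f ⁻¹ᵁ V) (genericPoint Y) (by show f (genericPoint Y) ∈ V; rw [hf]; exact hV)
        (f.app V s) := by
  have hV' : f (genericPoint Y) ∈ V := by rw [hf]; exact hV
  have h1 : (Z.presheaf.stalkSpecializes (specializes_of_eq hf)).hom
      (Z.presheaf.germ V (genericPoint Z) hV s) = Z.presheaf.germ V (f (genericPoint Y)) hV' s :=
    TopCat.Presheaf.germ_stalkSpecializes_apply _ _ _ _
  change (f.stalkMap (genericPoint Y)).hom ((Z.presheaf.stalkSpecializes (specializes_of_eq hf)).hom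
    (Z.presheaf.germ V (genericPoint Z) hV s)) = _
  rw [h1]
  exact Scheme.Hom.germ_stalkMap_apply f V (genericPoint Y) hV' s

lemma ffMap_injective (hf : f (genericPoint Y) = genericPoint Z) :
    Function.Injective (ffMap f hf).hom :=
  (ffMap f hf).hom.injective

end Def

section Comp

variable {W Y Z : Scheme.{u}} [IsIntegral W] [IsIntegral Y] [IsIntegral Z]

lemma ffMap_comp (f : W ⟶ Y) (g : Y ⟶ Z) (hf : f (genericPoint W) = genericPoint Y)
    (hg : g (genericPoint Y) = genericPoint Z)
    (hfg : (f ≫ g) (genericPoint W) = genericPoint Z) :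
    ffMap (f ≫ g) hfg = ffMap g hg ≫ ffMap f hf := by
  ext a
  obtain ⟨V, hV, s, rfl⟩ := TopCat.Presheaf.exists_germ_eq Z.presheaf a
  rw [ffMap_germ (f ≫ g) hfg V hV s]
  change _ = (ffMap f hf).hom ((ffMap g hg).hom _)
  rw [ffMap_germ g hg V hV s, ffMap_germ f hf (g ⁻¹ᵁ V) _ (g.app V s)]
  rfl

lemma ffMap_congr (f g : Y ⟶ Z) (e : f = g) (hf : f (genericPoint Y) = genericPoint Z)
    (hg : g (genericPoint Y) = genericPoint Z) : ffMap f hf = ffMap g hg := by
  subst e; rfl

end Comp

section Square

variable {Y' Y X' X : Scheme.{u}} [IsIntegral Y'] [IsIntegral Y] [IsIntegral X'] [IsIntegral X]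

lemma ffMap_square (j : Y' ⟶ Y) (π : Y ⟶ X) (c : Y' ⟶ X') (h : X' ⟶ X) (e : j ≫ π = c ≫ h)
    (hj : j (genericPoint Y') = genericPoint Y) (hπ : π (genericPoint Y) = genericPoint X)
    (hc : c (genericPoint Y') = genericPoint X') (hh : h (genericPoint X') = genericPoint X) :
    ffMap π hπ ≫ ffMap j hj = ffMap h hh ≫ ffMap c hc := by
  have h1 : (j ≫ π) (genericPoint Y') = genericPoint X := by
    rw [Scheme.Hom.comp_apply, hj, hπ]
  have h2 : (c ≫ h) (genericPoint Y') = genericPoint X := by
    rw [Scheme.Hom.comp_apply, hc, hh]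
  rw [← ffMap_comp j π hj hπ h1, ← ffMap_comp c h hc hh h2]
  exact ffMap_congr _ _ e h1 h2

end Square

end Groth.Agent.Lib.Helper21.FFMap
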