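import Groth.Agent.Lib.Helper21.Chart
import Mathlib.RingTheory.Ideal.UFD

set_option autoImplicit false
universe u
open CategoryTheory AlgebraicGeometry TopologicalSpace
open Groth.Agent.Lib.Helper21 Groth.Agent.Lib.Helper21.Chart

namespace Groth.Agent.Lib.Helper21.Factorial

/-- For a finitely generated ideal `P` whose extension to a localization lies in the extension of
`I`, a single denominator moves `P` into `I`. -/
lemma exists_mul_mem_of_map_le {R S : Type*} [CommRing R] [CommRing S] [Algebra R S]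
    (M : Submonoid R) [IsLocalization M S] (P I : Ideal R) (hP : P.FG)
    (h : P.map (algebraMap R S) ≤ I.map (algebraMap R S)) :
    ∃ s ∈ M, ∀ g ∈ P, s * g ∈ I := by
  classical
  obtain ⟨G, hG⟩ := hP
  have h1 : ∀ g ∈ G, ∃ m ∈ M, m * g ∈ I := by
    intro g hg
    have hgP : g ∈ P := hG ▸ Submodule.subset_span hg
    exact (IsLocalization.algebraMap_mem_map_algebraMap_iff M S I g).mp
      (h (Ideal.mem_map_of_mem _ hgP))
  choose! m hmM hm using h1
  refine ⟨∏ g ∈ G, m g, Submonoid.prod_mem M (fun g hg => hmM g hg), ?_⟩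
  intro g hg
  rw [← hG] at hg
  induction hg using Submodule.span_induction with
  | mem x hx =>
    obtain ⟨c, hc⟩ := Finset.dvd_prod_of_mem m hx
    rw [hc, mul_comm (m x) c, mul_assoc]
    exact I.mul_mem_left c (hm x hx)
  | zero => rw [mul_zero]; exact I.zero_mem
  | add x y _ _ hx hy => rw [mul_add]; exact I.add_mem hx hy
  | smul a x _ hx =>
    rw [smul_eq_mul, mul_left_comm]
    exact I.mul_mem_left a hx

variable {X : Scheme.{u}} {W : X.Opens} (hW : IsAffineOpen W)

/-- The prime of `O_{X,y}` corresponding to a generization `x₀` of `y`. -/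
noncomputable def pI (x₀ y : X) (h : x₀ ⤳ y) : Ideal (X.presheaf.stalk y) :=
  Ideal.comap (X.presheaf.stalkSpecializes h).hom (IsLocalRing.maximalIdeal (X.presheaf.stalk x₀))

instance (x₀ y : X) (h : x₀ ⤳ y) : (pI x₀ y h).IsPrime := by
  unfold pI
  infer_instance

lemma pI_refl (x₀ : X) : pI x₀ x₀ (specializes_refl x₀) = IsLocalRing.maximalIdeal _ := by
  unfold pI
  rw [TopCat.Presheaf.stalkSpecializes_refl]
  rfl

include hW in
lemma pI_under {x₀ y : X} (hy : y ∈ W) (h : x₀ ⤳ y) (r : Γ(X, W)) :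
    X.presheaf.germ W y hy r ∈ pI x₀ y h ↔ r ∈ pr hW x₀ (h.mem_open W.isOpen hy) := by
  unfold pI
  rw [Ideal.mem_comap, ← CommRingCat.comp_apply, TopCat.Presheaf.germ_stalkSpecializes,
    IsLocalRing.mem_maximalIdeal, mem_nonunits_iff, isUnit_germ_iff hW, not_not]

include hW in
lemma pI_eq_map {x₀ y : X} (hy : y ∈ W) (h : x₀ ⤳ y) :
    pI x₀ y h = Ideal.map (X.presheaf.germ W y hy).hom (pr hW x₀ (h.mem_open W.isOpen hy)) := by
  letI := TopCat.Presheaf.algebra_section_stalk X.presheaf (U := W) ⟨y, hy⟩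
  haveI := hW.isLocalization_stalk ⟨y, hy⟩
  have h1 : (pI x₀ y h).under Γ(X, W) = pr hW x₀ (h.mem_open W.isOpen hy) := by
    ext r
    exact pI_under hW hy h r
  have h2 := IsLocalization.map_under (pr hW y hy).primeCompl (X.presheaf.stalk y) (pI x₀ y h)
  rw [h1] at h2
  exact h2.symm

lemma pI_height {x₀ y : X} (h : x₀ ⤳ y) (hx₀ : Order.coheight x₀ = 1) : (pI x₀ y h).height = 1 := by
  obtain ⟨_, ⟨W, hW, rfl⟩, hy, -⟩ :=
    X.isBasis_affineOpens.exists_subset_of_mem_open (Set.mem_univ y) isOpen_univ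
  letI := TopCat.Presheaf.algebra_section_stalk X.presheaf (U := W) ⟨y, hy⟩
  haveI := hW.isLocalization_stalk ⟨y, hy⟩
  have h1 : (pI x₀ y h).under Γ(X, W) = pr hW x₀ (h.mem_open W.isOpen hy) := by
    ext r
    exact pI_under hW hy h r
  rw [← IsLocalization.height_under (pr hW y hy).primeCompl, h1, ← coheight_eq_height, hx₀]


section Forward

variable {X : Scheme.{u}} [IsIntegral X] [IsLocallyNoetherian X]

omit [IsIntegral X] [IsLocallyNoetherian X] in
/-- If `x₀ ⤳ x`, `x ≠ x₀` and `x₀` has codimension one then `x` does not. -/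
lemma not_specializes_of_coheight {x₀ x : X} (hx₀ : Order.coheight x₀ = 1)
    (hx : Order.coheight x = 1) (hne : x ≠ x₀) : ¬ x₀ ⤳ x := by
  intro h
  have hle : x ≤ x₀ := h
  have hlt : x < x₀ := lt_of_le_not_ge hle (fun h2 => hne ((h.antisymm h2).eq.symm))
  have := Order.coheight_add_one_le hlt
  rw [hx₀, hx] at this
  exact absurd this (by decide)

theorem exists_divisor_of_ufd (hufd : ∀ x : X, UniqueFactorizationMonoid (X.presheaf.stalk x))
    (x₀ : X) (hx₀ : Order.coheight x₀ = 1) :
    ∃ D : CDiv.Divisor X,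
      (∀ f : CDiv.KUnits X, D.1 x₀ = CDiv.germOf X x₀ f →
        Scheme.ord (f : ↑X.functionField) x₀ = 1) ∧
      ∀ x : ↥X, x ≠ x₀ → Order.coheight x = 1 → ∀ f : CDiv.KUnits X,
        D.1 x = CDiv.germOf X x f → Scheme.ord (f : ↑X.functionField) x = 0 := by
  classical
  -- generators
  have hgen : ∀ (y : X) (h : x₀ ⤳ y), ∃ π : X.presheaf.stalk y, π ≠ 0 ∧
      pI x₀ y h = Ideal.span {π} := by
    intro y h
    haveI := hufd y
    have h1 := pI_height h hx₀
    obtain ⟨π, hπ⟩ := UniqueFactorizationMonoid.isPrincipal_of_height_eq_one h1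
    refine ⟨π, ?_, hπ⟩
    rintro rfl
    have hbot : pI x₀ y h = ⊥ := by rw [hπ]; simp
    rw [hbot, Ideal.height_bot] at h1
    exact zero_ne_one h1
  choose π hπ0 hπ using hgen
  let piK : ∀ y : X, CDiv.KUnits X := fun y =>
    if h : x₀ ⤳ y then Units.mk0 (algebraMap (X.presheaf.stalk y) X.functionField (π y h))
      (algebraMap_ne_zero (hπ0 y h)) else 1
  have piK_pos : ∀ (y : X) (h : x₀ ⤳ y), (piK y : X.functionField) =
      algebraMap (X.presheaf.stalk y) X.functionField (π y h) := by
    intro y h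
    simp only [piK, dif_pos h, Units.val_mk0]
  have piK_neg : ∀ (y : X), ¬ x₀ ⤳ y → piK y = 1 := by
    intro y h
    simp only [piK, dif_neg h]
  have hmem : (fun y => CDiv.germOf X y (piK y)) ∈ CDiv.divisorGroup X := by
    intro x
    by_cases h : x₀ ⤳ x
    · -- chart at x
      obtain ⟨_, ⟨W, hW, rfl⟩, hxW, -⟩ :=
        X.isBasis_affineOpens.exists_subset_of_mem_open (Set.mem_univ x) isOpen_univ
      haveI : Nonempty W := ⟨⟨x, hxW⟩⟩
      haveI : IsNoetherianRing Γ(X, W) := IsLocallyNoetherian.component_noetherian ⟨W, hW⟩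
      have hx₀W : x₀ ∈ W := h.mem_open W.isOpen hxW
      letI algx := TopCat.Presheaf.algebra_section_stalk X.presheaf (U := W) ⟨x, hxW⟩
      haveI locx : IsLocalization.AtPrime (X.presheaf.stalk x) (pr hW x hxW) :=
        hW.isLocalization_stalk ⟨x, hxW⟩
      have halg : ∀ r : Γ(X, W), algebraMap Γ(X, W) (X.presheaf.stalk x) r =
          X.presheaf.germ W x hxW r := fun r => rfl
      obtain ⟨t, s₀, hts⟩ := IsLocalization.exists_mk'_eq (pr hW x hxW).primeCompl (π x h)
      have hspec' : π x h * X.presheaf.germ W x hxW s₀ = X.presheaf.germ W x hxW t := by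
        rw [← hts, ← halg, ← halg, IsLocalization.mk'_spec]
      have hs₀u : IsUnit (X.presheaf.germ W x hxW s₀) := (isUnit_germ_iff hW x hxW s₀).mpr s₀.2
      have htP : t ∈ pr hW x₀ hx₀W := by
        rw [← pI_under hW hxW h, ← hspec', hπ x h]
        exact Ideal.mul_mem_right _ _ (Ideal.subset_span rfl)
      have ht0 : t ≠ 0 := by
        rintro rfl
        rw [map_zero] at hspec'
        exact hπ0 x h ((hs₀u.mul_left_eq_zero).mp hspec')
      have hle : (pr hW x₀ hx₀W).map (algebraMap Γ(X, W) (X.presheaf.stalk x)) ≤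
          (Ideal.span {t}).map (algebraMap Γ(X, W) (X.presheaf.stalk x)) := by
        have h1 : (pr hW x₀ hx₀W).map (algebraMap Γ(X, W) (X.presheaf.stalk x)) = pI x₀ x h :=
          (pI_eq_map hW hxW h).symm
        rw [h1, hπ x h, Ideal.map_span, Set.image_singleton, halg, ← hspec',
          Ideal.span_singleton_le_span_singleton]
        exact hs₀u.mul_right_dvd.mpr dvd_rfl
      obtain ⟨s, hsq, hs⟩ := exists_mul_mem_of_map_le (pr hW x hxW).primeCompl
        (S := X.presheaf.stalk x) (pr hW x₀ hx₀W) (Ideal.span {t})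
        (IsNoetherian.noetherian _) hle
      have hφt : (X.germToFunctionField W t : ↑X.functionField) ≠ 0 := by
        intro h0
        exact ht0 (Scheme.germToFunctionField_injective X W (by rw [h0, map_zero]))
      refine ⟨X.basicOpen s, Units.mk0 _ hφt, ?_, ?_⟩
      · rw [X.mem_basicOpen s x hxW]
        exact (isUnit_germ_iff hW x hxW s).mpr hsq
      · intro y hy
        have hyW : y ∈ W := X.basicOpen_le s hy
        have hsu : IsUnit (X.presheaf.germ W y hyW s) := (X.mem_basicOpen s y hyW).mp hy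
        -- germs of elements of P are multiples of the germ of t
        have hdvd : ∀ g ∈ pr hW x₀ hx₀W,
            X.presheaf.germ W y hyW t ∣ X.presheaf.germ W y hyW g := by
          intro g hg
          obtain ⟨c, hc⟩ := Ideal.mem_span_singleton.mp (hs g hg)
          have h2 : X.presheaf.germ W y hyW s * X.presheaf.germ W y hyW g =
              X.presheaf.germ W y hyW t * X.presheaf.germ W y hyW c := by
            rw [← map_mul, ← map_mul, hc]
          exact (hsu.dvd_mul_left).mp (Dvd.intro _ h2.symm)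
        show CDiv.germOf X y (piK y) = CDiv.germOf X y (Units.mk0 _ hφt)
        rw [CDivLib.germOf_eq_germOf_iff, CDivLib.mem_stalkUnits_iff]
        by_cases hy0 : x₀ ⤳ y
        · -- π y and germ t are associated
          have h3 : Ideal.span {π y hy0} = Ideal.span {X.presheaf.germ W y hyW t} := by
            rw [← hπ y hy0, pI_eq_map hW hyW hy0]
            apply le_antisymm
            · rw [Ideal.map_le_iff_le_comap]
              intro g hg
              exact Ideal.mem_span_singleton.mpr (hdvd g hg)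
            · rw [Ideal.span_singleton_le_iff_mem]
              exact Ideal.mem_map_of_mem _ htP
          obtain ⟨v, hv⟩ := Ideal.span_singleton_eq_span_singleton.mp h3
          refine ⟨v, ?_⟩
          rw [Units.val_mul, Units.val_inv_eq_inv_val, piK_pos y hy0, Units.val_mk0,
            ← Scheme.algebraMap_germ_eq_germToFunctionField X (hx := hyW) t, ← hv, map_mul,
            inv_mul_cancel_left₀ (algebraMap_ne_zero (hπ0 y hy0))]
        · -- germ t is a unit
          rw [piK_neg y hy0, inv_one, one_mul]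
          have hex : ∃ g ∈ pr hW x₀ hx₀W, g ∉ pr hW y hyW := by
            by_contra hcon
            push Not at hcon
            exact hy0 (specializes_of_pr_le hW hx₀W hyW hcon)
          obtain ⟨g, hgP, hgy⟩ := hex
          have hgu : IsUnit (X.presheaf.germ W y hyW g) := (isUnit_germ_iff hW y hyW g).mpr hgy
          have htu : IsUnit (X.presheaf.germ W y hyW t) := isUnit_of_dvd_unit (hdvd g hgP) hgu
          refine ⟨htu.unit, ?_⟩
          rw [IsUnit.unit_spec, Scheme.algebraMap_germ_eq_germToFunctionField X (hx := hyW) t,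
            Units.val_mk0]
    · -- away from the closure of x₀
      have hcl : IsClosed (closure ({x₀} : Set X)) := isClosed_closure
      refine ⟨⟨(closure ({x₀} : Set X))ᶜ, hcl.isOpen_compl⟩, 1, ?_, ?_⟩
      · intro hx
        exact h (specializes_iff_mem_closure.mpr hx)
      · intro y hy
        have hy0 : ¬ x₀ ⤳ y := fun h' => hy (specializes_iff_mem_closure.mp h')
        show CDiv.germOf X y (piK y) = CDiv.germOf X y 1
        rw [piK_neg y hy0]
  refine ⟨⟨_, hmem⟩, ?_, ?_⟩
  · intro f hf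
    change CDiv.germOf X x₀ (piK x₀) = CDiv.germOf X x₀ f at hf
    rw [CDivLib.germOf_eq_germOf_iff] at hf
    have h0 := ord_eq_zero_of_mem_stalkUnits x₀ _ hf
    have hfeq : (f : ↑X.functionField) = (piK x₀ : ↑X.functionField) *
        (((piK x₀)⁻¹ * f : CDiv.KUnits X) : ↑X.functionField) := by
      rw [← Units.val_mul, mul_inv_cancel_left]
    have hspan : Ideal.span {π x₀ (specializes_refl x₀)} =
        IsLocalRing.maximalIdeal (X.presheaf.stalk x₀) := by
      rw [← hπ x₀ (specializes_refl x₀), pI_refl]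
    have h1 := ord_eq_one_of_span_eq_maximalIdeal x₀ hx₀ _ (hπ0 x₀ (specializes_refl x₀)) hspan
    rw [← piK_pos x₀ (specializes_refl x₀)] at h1
    rw [hfeq, Scheme.ord_mul (Units.ne_zero _) (Units.ne_zero _), h0, h1, add_zero]
  · intro x hne hx f hf
    have hns := not_specializes_of_coheight hx₀ hx hne
    change CDiv.germOf X x (piK x) = CDiv.germOf X x f at hf
    rw [piK_neg x hns] at hf
    have hf' : f ∈ CDiv.stalkUnits X x := by
      rw [← CDivLib.germOf_eq_one_iff, ← hf]
      exact QuotientGroup.mk_one _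
    exact ord_eq_zero_of_mem_stalkUnits x f hf'

/-- Conversely: if every prime cycle of codimension one is the cycle of a divisor, the local rings
are factorial. -/
theorem ufd_stalk (hnorm : ∀ x : X, IsIntegrallyClosed (X.presheaf.stalk x))
    (H : ∀ x₀ : ↥X, Order.coheight x₀ = 1 → ∃ D : CDiv.Divisor X,
        (∀ f : CDiv.KUnits X, D.1 x₀ = CDiv.germOf X x₀ f →
          Scheme.ord (f : ↑X.functionField) x₀ = 1) ∧
          ∀ x : ↥X, x ≠ x₀ → Order.coheight x = 1 → ∀ f : CDiv.KUnits X,
            D.1 x = CDiv.germOf X x f → Scheme.ord (f : ↑X.functionField) x = 0) (x : X) :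
    UniqueFactorizationMonoid (X.presheaf.stalk x) := by
  obtain ⟨_, ⟨W, hW, rfl⟩, hxW, -⟩ :=
    X.isBasis_affineOpens.exists_subset_of_mem_open (Set.mem_univ x) isOpen_univ
  haveI : Nonempty W := ⟨⟨x, hxW⟩⟩
  haveI : IsNoetherianRing Γ(X, W) := IsLocallyNoetherian.component_noetherian ⟨W, hW⟩
  letI algx := TopCat.Presheaf.algebra_section_stalk X.presheaf (U := W) ⟨x, hxW⟩
  haveI locx : IsLocalization.AtPrime (X.presheaf.stalk x) (pr hW x hxW) :=
    hW.isLocalization_stalk ⟨x, hxW⟩
  have halg : ∀ r : Γ(X, W), algebraMap Γ(X, W) (X.presheaf.stalk x) r =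
      X.presheaf.germ W x hxW r := fun r => rfl
  have hinjx := IsFractionRing.injective (X.presheaf.stalk x) X.functionField
  apply UniqueFactorizationMonoid.of_forall_isPrincipal_of_height_eq_one
  intro p' hp' hp'1
  have hP1 : (p'.under Γ(X, W)).height = 1 := by
    rw [IsLocalization.height_under (pr hW x hxW).primeCompl, hp'1]
  have hPprime : (p'.under Γ(X, W)).IsPrime := inferInstance
  have hPq : p'.under Γ(X, W) ≤ pr hW x hxW := by
    intro r hr
    by_contra hrq
    have hu : IsUnit (X.presheaf.germ W x hxW r) := (isUnit_germ_iff hW x hxW r).mpr hrq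
    exact hp'.ne_top (Ideal.eq_top_of_isUnit_mem _ hr hu)
  -- the point x₀
  obtain ⟨x₀, hx₀W, hprx₀⟩ : ∃ (x₀ : X) (hx₀W : x₀ ∈ W), pr hW x₀ hx₀W = p'.under Γ(X, W) := by
    refine ⟨hW.fromSpec ⟨p'.under Γ(X, W), hPprime⟩, fromSpec_mem hW _, ?_⟩
    exact congrArg PrimeSpectrum.asIdeal (primeIdealOf_fromSpec hW _)
  have hx₀1 : Order.coheight x₀ = 1 := by rw [coheight_eq_height hW x₀ hx₀W, hprx₀, hP1]
  have hspec : x₀ ⤳ x := specializes_of_pr_le hW hx₀W hxW (hprx₀ ▸ hPq)
  haveI := hnorm x₀
  haveI : IsDiscreteValuationRing (X.presheaf.stalk x₀) :=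
    OrdNormal.isDiscreteValuationRing_stalk x₀ hx₀1
  obtain ⟨D, hD1, hD2⟩ := H x₀ hx₀1
  obtain ⟨U, f, hxU, hU⟩ := D.2 x
  have hx₀U : x₀ ∈ U := hspec.mem_open U.isOpen hxU
  have hf1 : Scheme.ord (f : ↑X.functionField) x₀ = 1 := hD1 f (hU x₀ hx₀U)
  have hf0 : ∀ y ∈ U, y ≠ x₀ → Order.coheight y = 1 → Scheme.ord (f : ↑X.functionField) y = 0 :=
    fun y hy hne hy1 => hD2 y hne hy1 f (hU y hy)
  obtain ⟨a, ha⟩ := OrdNormal.mem_range_of_ord_nonneg hnorm (f : ↑X.functionField) x U hxU
    (fun y hy hy1 => by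
      by_cases hyx : y = x₀
      · rw [hyx, hf1]; exact zero_le_one
      · rw [hf0 y hy hyx hy1])
  -- the map to the function field
  have hφ : ∀ (y : X) (hy : y ∈ W) (r : Γ(X, W)),
      algebraMap (X.presheaf.stalk y) X.functionField (X.presheaf.germ W y hy r) =
        X.germToFunctionField W r := fun y hy r =>
    Scheme.algebraMap_germ_eq_germToFunctionField X (hx := hy) r
  have hφ0 : ∀ r : Γ(X, W), r ≠ 0 → (X.germToFunctionField W r : ↑X.functionField) ≠ 0 := by
    intro r hr h0
    exact hr (Scheme.germToFunctionField_injective X W (by rw [h0, map_zero]))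
  have hgerm0 : ∀ (y : X) (hy : y ∈ W) (r : Γ(X, W)), r ≠ 0 → X.presheaf.germ W y hy r ≠ 0 := by
    intro y hy r hr h0
    exact hr (germ_injective_of_isIntegral X y hy (by rw [h0, map_zero]))
  -- (7a) a ∈ p'
  have ha_mem : a ∈ p' := by
    obtain ⟨r, s, hrs⟩ := IsLocalization.exists_mk'_eq (pr hW x hxW).primeCompl a
    have hspec' : a * X.presheaf.germ W x hxW s = X.presheaf.germ W x hxW r := by
      rw [← hrs, ← halg, ← halg, IsLocalization.mk'_spec]
    have hsP : (s : Γ(X, W)) ∉ pr hW x₀ hx₀W := fun h => s.2 (hPq (hprx₀ ▸ h))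
    have hsu : IsUnit (X.presheaf.germ W x₀ hx₀W s) := (isUnit_germ_iff hW x₀ hx₀W s).mpr hsP
    have hrP : r ∈ p'.under Γ(X, W) := by
      rw [← hprx₀]
      by_contra hrP
      have hru : IsUnit (X.presheaf.germ W x₀ hx₀W r) := (isUnit_germ_iff hW x₀ hx₀W r).mpr hrP
      have h1 := ord_algebraMap_of_isUnit x₀ _ hru
      have h2 := ord_algebraMap_of_isUnit x₀ _ hsu
      rw [hφ] at h1 h2
      have h3 : (X.germToFunctionField W r : ↑X.functionField) =
          (f : ↑X.functionField) * X.germToFunctionField W s := by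
        rw [← hφ x hxW r, ← hφ x hxW s, ← ha, ← map_mul, hspec']
      have hs0 : (X.germToFunctionField W s : ↑X.functionField) ≠ 0 := by
        rw [← hφ x₀ hx₀W]
        exact algebraMap_ne_zero hsu.ne_zero
      rw [h3, Scheme.ord_mul f.ne_zero hs0, hf1, h2] at h1
      omega
    have hrp' : X.presheaf.germ W x hxW r ∈ p' := hrP
    rw [← hspec'] at hrp'
    rcases hp'.mem_or_mem hrp' with h | h
    · exact h
    · exfalso
      exact s.2 (hPq h)
  have ha0 : a ≠ 0 := by
    intro h0
    rw [h0, map_zero] at ha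
    exact f.ne_zero ha.symm
  -- (7b) p' ≤ span {a}
  have hle : p' ≤ Ideal.span {a} := by
    intro g' hg'
    obtain ⟨g, t, hgt⟩ := IsLocalization.exists_mk'_eq (pr hW x hxW).primeCompl g'
    have hspec' : g' * X.presheaf.germ W x hxW t = X.presheaf.germ W x hxW g := by
      rw [← hgt, ← halg, ← halg, IsLocalization.mk'_spec]
    have htu : IsUnit (X.presheaf.germ W x hxW t) := (isUnit_germ_iff hW x hxW t).mpr t.2
    have hgP : g ∈ p'.under Γ(X, W) := by
      change X.presheaf.germ W x hxW g ∈ p'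
      rw [← hspec']
      exact Ideal.mul_mem_right _ _ hg'
    suffices hsuff : X.presheaf.germ W x hxW g ∈ Ideal.span {a} by
      obtain ⟨v, hv⟩ := htu
      have : g' = X.presheaf.germ W x hxW g * (v⁻¹ : (X.presheaf.stalk x)ˣ) := by
        rw [← hspec', ← hv, mul_assoc, Units.mul_inv, mul_one]
      rw [this]
      exact Ideal.mul_mem_right _ _ hsuff
    by_cases hg0 : g = 0
    · rw [hg0, map_zero]; exact Ideal.zero_mem _
    have hgnu : ¬ IsUnit (X.presheaf.germ W x₀ hx₀W g) := by
      rw [isUnit_germ_iff hW x₀ hx₀W g, not_not, hprx₀]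
      exact hgP
    obtain ⟨c, hc⟩ := OrdNormal.mem_range_of_ord_nonneg hnorm
      ((X.germToFunctionField W g : ↑X.functionField) / (f : ↑X.functionField)) x (U ⊓ W)
      ⟨hxU, hxW⟩
      (fun y hy hy1 => by
        rw [ord_div y (hφ0 g hg0) f.ne_zero]
        by_cases hyx : y = x₀
        · subst hyx
          have h1 := one_le_ord_algebraMap y hy1 _ (hgerm0 y hy.2 g hg0) hgnu
          rw [hφ] at h1
          rw [hf1]
          omega
        · rw [hf0 y hy.1 hyx hy1]
          have h1 := ord_algebraMap_nonneg y _ (hgerm0 y hy.2 g hg0)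
          rw [hφ] at h1
          omega)
    have : X.presheaf.germ W x hxW g = a * c := by
      apply hinjx
      rw [map_mul, ha, hc, hφ, mul_div_cancel₀ _ f.ne_zero]
    rw [this]
    exact Ideal.mul_mem_right _ _ (Ideal.subset_span rfl)
  exact ⟨⟨a, le_antisymm hle ((Ideal.span_singleton_le_iff_mem _).mpr ha_mem)⟩⟩

end Forward

end Groth.Agent.Lib.Helper21.Factorial
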