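import Mathlib.Algebra.Module.Projective
import Mathlib.Algebra.Module.Torsion.Basic
import Mathlib.LinearAlgebra.FreeModule.Basic
import Mathlib.RingTheory.Ideal.Quotient.Operations
import Mathlib.RingTheory.Nilpotent.Defs
import Mathlib.RingTheory.Ideal.Operations

/-!
# Projective modules over a ring with a nilpotent ideal (helper21)

If `I` is a nilpotent ideal of `R`, `P` a projective `R`-module and `P ⧸ I P` is free over `R ⧸ I`,
then `P` is free.  In particular projective modules over a local ring with nilpotent maximal ideal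
are free (no finiteness).
-/

set_option autoImplicit false
universe u v

namespace Groth.Agent.Lib.Helper21

open Submodule

variable {R : Type u} [CommRing R] (I : Ideal R) {P : Type v} [AddCommGroup P] [Module R P]

/-- Nakayama for a nilpotent ideal: no finiteness needed. -/
theorem eq_top_of_sup_smul_top_eq_top_of_isNilpotent (hI : IsNilpotent I) (N : Submodule R P)
    (h : N ⊔ I • ⊤ = ⊤) : N = ⊤ := by
  obtain ⟨k, hk⟩ := hI
  have hj : ∀ j : ℕ, N ⊔ I ^ j • (⊤ : Submodule R P) = ⊤ := by
    intro j
    induction j with
    | zero => simp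
    | succ j ih =>
      rw [eq_top_iff]
      calc (⊤ : Submodule R P) = N ⊔ I ^ j • (⊤ : Submodule R P) := ih.symm
        _ = N ⊔ I ^ j • (N ⊔ I • ⊤) := by rw [h]
        _ ≤ N ⊔ I ^ (j + 1) • ⊤ := by
          rw [Submodule.smul_sup, ← Submodule.mul_smul, ← pow_succ]
          refine sup_le le_sup_left (sup_le ?_ le_sup_right)
          exact (Submodule.smul_le_right).trans le_sup_left
  have := hj k
  rw [hk, Ideal.zero_eq_bot, Submodule.bot_smul, sup_bot_eq] at this
  exact this

theorem free_of_projective_of_isNilpotent (hI : IsNilpotent I) [Module.Projective R P]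
    [Module.Free (R ⧸ I) (P ⧸ (I • ⊤ : Submodule R P))] : Module.Free R P := by
  classical
  let ι := Module.Free.ChooseBasisIndex (R ⧸ I) (P ⧸ (I • ⊤ : Submodule R P))
  let b : Module.Basis ι (R ⧸ I) (P ⧸ (I • ⊤ : Submodule R P)) := Module.Free.chooseBasis _ _
  have hp : ∀ i, ∃ p : P, Submodule.Quotient.mk p = b i := fun i =>
    Submodule.Quotient.mk_surjective _ (b i)
  choose p hp using hp
  let φ : (ι →₀ R) →ₗ[R] P := Finsupp.linearCombination R p
  let mk' : P →ₗ[R] P ⧸ (I • ⊤ : Submodule R P) := Submodule.mkQ _
  -- the coordinates of `φ y` modulo `I`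
  have hrepr : ∀ y : ι →₀ R, ∀ i, b.repr (mk' (φ y)) i = Ideal.Quotient.mk I (y i) := by
    intro y
    induction y using Finsupp.induction_linear with
    | zero => intro i; simp
    | add f g hf hg => intro i; simp only [map_add, Finsupp.add_apply, hf i, hg i]
    | single j r =>
      intro i
      have h1 : mk' (φ (Finsupp.single j r)) = (Ideal.Quotient.mk I r) • b j := by
        change Submodule.Quotient.mk (Finsupp.linearCombination R p (Finsupp.single j r)) = _
        rw [Finsupp.linearCombination_single, Submodule.Quotient.mk_smul, hp]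
        rfl
      rw [h1, map_smul, Module.Basis.repr_self, Finsupp.smul_apply, Finsupp.single_apply,
        Finsupp.single_apply]
      split_ifs <;> simp
  -- (*)
  have hstar : ∀ y : ι →₀ R, φ y ∈ (I • ⊤ : Submodule R P) → y ∈ (I • ⊤ : Submodule R (ι →₀ R)) := by
    intro y hy
    have h0 : mk' (φ y) = 0 := (Submodule.Quotient.mk_eq_zero _).2 hy
    have hyi : ∀ i, y i ∈ I := by
      intro i
      have := hrepr y i
      rw [h0, map_zero, Finsupp.zero_apply, eq_comm, Ideal.Quotient.eq_zero_iff_mem] at this
      exact this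
    rw [← Finsupp.sum_single y]
    refine Submodule.sum_mem _ (fun i _ => ?_)
    have : Finsupp.single i (y i) = (y i) • (Finsupp.single i 1 : ι →₀ R) := by
      rw [Finsupp.smul_single, smul_eq_mul, mul_one]
    rw [this]
    exact Submodule.smul_mem_smul (hyi i) mem_top
  -- surjectivity
  have hsurj : Function.Surjective φ := by
    rw [← LinearMap.range_eq_top]
    apply eq_top_of_sup_smul_top_eq_top_of_isNilpotent I hI
    rw [eq_top_iff]
    intro x _
    have h1 : (Submodule.span R (Set.range b) : Submodule R (P ⧸ (I • ⊤ : Submodule R P))) = ⊤ := by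
      rw [← Submodule.restrictScalars_span R (R ⧸ I) Ideal.Quotient.mk_surjective, b.span_eq,
        Submodule.restrictScalars_top]
    have h2 : (LinearMap.range φ).map mk' = ⊤ := by
      rw [Finsupp.range_linearCombination, Submodule.map_span, ← Set.range_comp, ← h1]
      congr 2
      ext i
      exact hp i
    have h3 : mk' x ∈ (LinearMap.range φ).map mk' := by rw [h2]; exact mem_top
    obtain ⟨y, hy, hyx⟩ := h3
    have h4 : x - y ∈ (I • ⊤ : Submodule R P) := by
      rw [← Submodule.Quotient.mk_eq_zero, Submodule.Quotient.mk_sub]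
      change mk' x - mk' y = 0
      rw [hyx, sub_self]
    have : x = y + (x - y) := by abel
    rw [this]
    exact Submodule.add_mem_sup hy h4
  -- a section
  obtain ⟨s, hs⟩ := Module.projective_lifting_property φ LinearMap.id hsurj
  have hs' : ∀ x, φ (s x) = x := fun x => LinearMap.congr_fun hs x
  let π : (ι →₀ R) →ₗ[R] (ι →₀ R) := LinearMap.id - s.comp φ
  have hπ : ∀ y, φ (π y) = 0 := by
    intro y
    change φ (y - s (φ y)) = 0
    rw [map_sub, hs', sub_self]
  have hπrange : (⊤ : Submodule R (ι →₀ R)).map π ≤ I • ⊤ := by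
    rintro _ ⟨y, _, rfl⟩
    apply hstar
    rw [hπ]
    exact zero_mem _
  have hinj : Function.Injective φ := by
    rw [← LinearMap.ker_eq_bot, eq_bot_iff]
    intro x hx
    rw [LinearMap.mem_ker] at hx
    have hπx : π x = x := by
      change x - s (φ x) = x
      rw [hx, map_zero, sub_zero]
    have hj : ∀ j : ℕ, x ∈ (I ^ j • ⊤ : Submodule R (ι →₀ R)) := by
      intro j
      induction j with
      | zero => simp
      | succ j ih =>
        have h1 : π x ∈ (I ^ j • ⊤ : Submodule R (ι →₀ R)).map π := Submodule.mem_map_of_mem ih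
        rw [Submodule.map_smul''] at h1
        rw [hπx] at h1
        have h2 : I ^ j • (⊤ : Submodule R (ι →₀ R)).map π ≤ I ^ (j + 1) • ⊤ := by
          rw [pow_succ, Submodule.mul_smul]
          exact Submodule.smul_mono le_rfl hπrange
        exact h2 h1
    obtain ⟨k, hk⟩ := hI
    have := hj k
    rw [hk, Ideal.zero_eq_bot, Submodule.bot_smul] at this
    exact this
  exact Module.Free.of_equiv (LinearEquiv.ofBijective φ ⟨hinj, hsurj⟩)

end Groth.Agent.Lib.Helper21
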