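import Groth.Prelude.Def_Frob
import Mathlib.AlgebraicGeometry.IdealSheaf.Functorial
import Mathlib.FieldTheory.IsAlgClosed.AlgebraicClosure
import Mathlib.CategoryTheory.Endomorphism
import Groth.Agent.Lib.Helper18.SubschemeIncl
import Mathlib.AlgebraicGeometry.Morphisms.Flat

set_option autoImplicit false
universe u
open CategoryTheory CategoryTheory.Limits AlgebraicGeometry TopologicalSpace

namespace Groth.Agent.Lib.Helper21.FrobContract

/-! ### local-to-global for ideals of ideal sheaves -/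

theorem ideal_le_of_local {X : Scheme.{u}} (M N : X.IdealSheafData) (U : X.affineOpens)
    (h : ∀ x ∈ U.1, ∃ D : X.affineOpens, x ∈ D.1 ∧ D ≤ U ∧ M.ideal D ≤ N.ideal D) :
    M.ideal U ≤ N.ideal U := by
  rw [U.2.ideal_le_iff]
  intro x hx
  obtain ⟨D, hxD, hDU, hle⟩ := h x hx
  have key : ∀ K : X.IdealSheafData, (K.ideal U).map (X.presheaf.germ U.1 x hx).hom =
      (K.ideal D).map (X.presheaf.germ D.1 x hxD).hom := by
    intro K
    rw [← K.map_ideal hDU, Ideal.map_map, ← CommRingCat.hom_comp]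
    congr 2
    exact (X.presheaf.germ_res (homOfLE (show D.1 ≤ U.1 from hDU)) x hxD).symm
  rw [key, key]
  exact Ideal.map_mono hle

theorem comap_ι_le_of_forall {C : Scheme.{u}} (W : C.Opens) (M N : C.IdealSheafData)
    (h : ∀ U : C.affineOpens, U.1 ≤ W → M.ideal U ≤ N.ideal U) :
    M.comap W.ι ≤ N.comap W.ι := by
  intro U'
  rw [Scheme.IdealSheafData.ideal_comap_of_isOpenImmersion,
    Scheme.IdealSheafData.ideal_comap_of_isOpenImmersion]
  apply Ideal.comap_mono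
  apply h
  exact W.ι_image_le U'.1

theorem ideal_le_radical_of_support {C : Scheme.{u}} (L J : C.IdealSheafData) (D : C.affineOpens)
    (h : (J.support : Set C) ∩ D.1 ⊆ L.support) : L.ideal D ≤ (J.ideal D).radical := by
  rw [← PrimeSpectrum.zeroLocus_subset_zeroLocus_iff]
  intro 𝔭 h𝔭
  have h1 : D.2.fromSpec 𝔭 ∈ (J.support : Set C) ∩ D.1 := by
    rw [J.coe_support_inter, ← D.2.fromSpec_image_zeroLocus]
    exact ⟨𝔭, h𝔭, rfl⟩
  have h2 := h h1
  have h3 : D.2.fromSpec 𝔭 ∈ (L.support : Set C) ∩ D.1 := ⟨h2, h1.2⟩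
  rw [L.coe_support_inter, ← D.2.fromSpec_image_zeroLocus] at h3
  obtain ⟨𝔮, h𝔮, e⟩ := h3
  have := D.2.fromSpec.isOpenEmbedding.injective e
  rwa [← this]

theorem comap_ideal_le_of_le_chart {C : Scheme.{u}} (Fr : C ⟶ C) (q : ℕ)
    (V : C.affineOpens) (e : V.1 ≤ Fr ⁻¹ᵁ V.1)
    (hV : ∀ s : Γ(C, V.1), ∃ t : Γ(C, V.1), (Fr.appLE V.1 V.1 e).hom s = t ^ q)
    (L' J : C.IdealSheafData) (D : C.affineOpens) (hDV : D ≤ V)
    (h : (J.support : Set C) ∩ D.1 ⊆ Fr.base ⁻¹' (L'.support : Set C)) :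
    (L'.comap Fr).ideal D ≤ (J.radical ^ q).ideal D := by
  have e' : D.1 ≤ Fr ⁻¹ᵁ V.1 := (show D.1 ≤ V.1 from hDV).trans e
  have hL : (L'.comap Fr).ideal D ≤ (J.ideal D).radical := by
    apply ideal_le_radical_of_support
    rw [Scheme.IdealSheafData.support_comap]; exact h
  rw [Groth.Agent.Lib.Helper18.ideal_comap_of_le Fr L' D V e', Ideal.map_le_iff_le_comap]
  intro s hs
  obtain ⟨t, ht⟩ := hV s
  rw [Ideal.mem_comap]
  have h1 : (Fr.appLE V.1 D.1 e').hom s = ((C.presheaf.map (homOfLE hDV).op).hom t) ^ q := by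
    rw [← map_pow, ← ht, ← Scheme.Hom.appLE_map Fr e (homOfLE hDV).op]; rfl
  have h2 : ((C.presheaf.map (homOfLE hDV).op).hom t) ^ q ∈ (L'.comap Fr).ideal D := by
    rw [← h1, Groth.Agent.Lib.Helper18.ideal_comap_of_le Fr L' D V e']
    exact Ideal.mem_map_of_mem _ hs
  rw [h1, Scheme.IdealSheafData.ideal_pow, Pi.pow_apply]
  apply Ideal.pow_mem_pow
  rw [Scheme.IdealSheafData.radical_ideal]
  exact (Ideal.radical_isRadical _) ⟨q, hL h2⟩

theorem comap_ideal_le {C : Scheme.{u}} (Fr : C ⟶ C) (q : ℕ)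
    (hpow : ∀ y : C, ∃ (V : C.affineOpens) (e : V.1 ≤ Fr ⁻¹ᵁ V.1), y ∈ V.1 ∧
      ∀ s : Γ(C, V.1), ∃ t : Γ(C, V.1), (Fr.appLE V.1 V.1 e).hom s = t ^ q)
    (L' J : C.IdealSheafData) (W : C.Opens)
    (h : (J.support : Set C) ∩ W ⊆ Fr.base ⁻¹' (L'.support : Set C))
    (U : C.affineOpens) (hU : U.1 ≤ W) :
    (L'.comap Fr).ideal U ≤ (J.radical ^ q).ideal U := by
  apply ideal_le_of_local
  intro x hx
  obtain ⟨V, e, hxV, hV⟩ := hpow x
  obtain ⟨D, hD, hxD, hDle⟩ := Opens.isBasis_iff_nbhd.mp C.isBasis_affineOpens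
    (show x ∈ U.1 ⊓ V.1 from ⟨hx, hxV⟩)
  refine ⟨⟨D, hD⟩, hxD, hDle.trans inf_le_left, ?_⟩
  apply comap_ideal_le_of_le_chart Fr q V e hV L' J ⟨D, hD⟩ (hDle.trans inf_le_right)
  exact fun y hy => h ⟨hy.1, hU (hDle hy.2).1⟩


/-! ### powers of the absolute Frobenius -/

theorem appLE_congr_hom {X Y : Scheme.{u}} {f g : X ⟶ Y} (h : f = g) (U : Y.Opens) (V : X.Opens)
    (e : V ≤ f ⁻¹ᵁ U) : f.appLE U V e = g.appLE U V (h ▸ e) := by
  subst h; rfl

theorem frobPow_spec (X : Scheme.{u}) (p : ℕ) [Fact p.Prime] [FrobSch.IsCharP X p] (m : ℕ)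
    (U : X.Opens) :
    ∃ e : U ≤ (End.asHom (End.of (FrobSch.frob X p) ^ m)) ⁻¹ᵁ U,
      ∀ s : Γ(X, U), ((End.asHom (End.of (FrobSch.frob X p) ^ m)).appLE U U e).hom s =
        s ^ (p ^ m) := by
  induction m with
  | zero =>
    have h0 : End.asHom (End.of (FrobSch.frob X p) ^ 0) = 𝟙 X := by rw [pow_zero]; rfl
    have e0 : U ≤ (End.asHom (End.of (FrobSch.frob X p) ^ 0)) ⁻¹ᵁ U := by rw [h0]; exact le_of_eq rfl
    refine ⟨e0, fun s => ?_⟩
    rw [appLE_congr_hom h0 U U e0]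
    rw [show p ^ 0 = 1 from pow_zero p, pow_one]
    have : (𝟙 X : X ⟶ X).appLE U U (h0 ▸ e0) = 𝟙 _ := by
      rw [Scheme.Hom.appLE]
      exact (congrArg (fun φ => (𝟙 X : X ⟶ X).app U ≫ φ)
        (X.presheaf.map_id (Opposite.op U))).trans (Category.comp_id _)
    rw [this]; rfl
  | succ m ih =>
    obtain ⟨e, he⟩ := ih
    have hsucc : End.asHom (End.of (FrobSch.frob X p) ^ (m + 1)) =
        FrobSch.frob X p ≫ End.asHom (End.of (FrobSch.frob X p) ^ m) := by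
      rw [pow_succ]; rfl
    have e2 : U ≤ (FrobSch.frob X p) ⁻¹ᵁ U := le_of_eq rfl
    have hfrob : ∀ s : Γ(X, U), ((FrobSch.frob X p).appLE U U e2).hom s = s ^ p := by
      intro s
      have : (FrobSch.frob X p).appLE U U e2 = (FrobSch.frob X p).app U := by
        rw [Scheme.Hom.appLE]
        exact (congrArg (fun φ => (FrobSch.frob X p).app U ≫ φ)
          (X.presheaf.map_id (Opposite.op U))).trans (Category.comp_id _)
      rw [this]
      exact FrobSch.frob_app X p U s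
    have e3 : U ≤ (End.asHom (End.of (FrobSch.frob X p) ^ (m + 1))) ⁻¹ᵁ U := by
      rw [hsucc]
      exact e2.trans ((Opens.map (FrobSch.frob X p).base).map (homOfLE e)).le
    refine ⟨e3, fun s => ?_⟩
    have h1 := Scheme.Hom.appLE_comp_appLE (FrobSch.frob X p)
      (End.asHom (End.of (FrobSch.frob X p) ^ m)) U U U e e2
    rw [appLE_congr_hom hsucc U U e3, ← h1]
    simp only [CommRingCat.hom_comp, RingHom.comp_apply]
    rw [he, hfrob, ← pow_mul, pow_succ]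


theorem frobPow_apply (X : Scheme.{u}) (p : ℕ) [Fact p.Prime] [FrobSch.IsCharP X p] (m : ℕ)
    (x : X) : (End.asHom (End.of (FrobSch.frob X p) ^ m)) x = x := by
  induction m with
  | zero =>
    have h0 : End.asHom (End.of (FrobSch.frob X p) ^ 0) = 𝟙 X := by rw [pow_zero]; rfl
    rw [h0]; rfl
  | succ m ih =>
    have hsucc : End.asHom (End.of (FrobSch.frob X p) ^ (m + 1)) =
        FrobSch.frob X p ≫ End.asHom (End.of (FrobSch.frob X p) ^ m) := by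
      rw [pow_succ]; rfl
    rw [hsucc, Scheme.Hom.comp_apply, FrobSch.frob_apply, ih]

/-! ### generation of a pushout of rings by the two images -/

theorem mem_of_isPushout {A B R P : CommRingCat.{u}} {f : R ⟶ A} {g : R ⟶ B} {inl : A ⟶ P}
    {inr : B ⟶ P} (h : IsPushout f g inl inr) (S : Subring P) (hl : ∀ a, inl.hom a ∈ S)
    (hr : ∀ b, inr.hom b ∈ S) (x : P) : x ∈ S := by
  let ι : CommRingCat.of S ⟶ P := CommRingCat.ofHom S.subtype
  let inl' : A ⟶ CommRingCat.of S := CommRingCat.ofHom (inl.hom.codRestrict S hl)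
  let inr' : B ⟶ CommRingCat.of S := CommRingCat.ofHom (inr.hom.codRestrict S hr)
  have hι : Function.Injective ι.hom := Subtype.val_injective
  have hl' : inl' ≫ ι = inl := by ext a; rfl
  have hr' : inr' ≫ ι = inr := by ext a; rfl
  have w : f ≫ inl' = g ≫ inr' := by
    ext r
    have := congrArg (fun φ => φ.hom r) h.w
    exact this
  let d := h.desc inl' inr' w
  have hd : d ≫ ι = 𝟙 P := by
    apply h.hom_ext
    · rw [← Category.assoc, h.inl_desc, hl', Category.comp_id]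
    · rw [← Category.assoc, h.inr_desc, hr', Category.comp_id]
  have hx : x = ι.hom (d.hom x) := by
    have := congrArg (fun φ => φ.hom x) hd
    exact this.symm
  rw [hx]; exact (d.hom x).2

/-- The `p^m`-th power map of a ring in which `p = 0`. -/
noncomputable def powPowHom (p : ℕ) [Fact p.Prime] (R : Type u) [CommRing R] (h : (p : R) = 0)
    (m : ℕ) : R →+* R := (FrobSch.powHom p R h) ^ m

theorem powPowHom_apply (p : ℕ) [Fact p.Prime] (R : Type u) [CommRing R] (h : (p : R) = 0)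
    (m : ℕ) (r : R) : powPowHom p R h m r = r ^ (p ^ m) := by
  induction m generalizing r with
  | zero => simp [powPowHom]
  | succ m ih =>
    have : powPowHom p R h (m + 1) = (FrobSch.powHom p R h).comp (powPowHom p R h m) := by
      rw [powPowHom, pow_succ']; rfl
    rw [this, RingHom.comp_apply, ih, FrobSch.powHom_apply, ← pow_mul, pow_succ]

/-! ### the charts of `C₀ ×_{k₀} Spec K` -/

theorem exists_chart {C C₀ : Scheme.{u}} (p : ℕ) [Fact p.Prime]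
    (k₀ : Type u) [Field k₀] (K : Type u) [Field K] [Algebra k₀ K] [IsAlgClosed K]
    (f₀ : C₀ ⟶ Spec (CommRingCat.of k₀)) [FrobSch.IsCharP C₀ p]
    (πC₀ : C ⟶ C₀) (πK : C ⟶ Spec (CommRingCat.of K))
    (hC : IsPullback πC₀ πK f₀ (Spec.map (CommRingCat.ofHom (algebraMap k₀ K))))
    (m : ℕ) (Fr : C ⟶ C)
    (hFr₀ : Fr ≫ πC₀ = πC₀ ≫ End.asHom (End.of (FrobSch.frob C₀ p) ^ m))
    (hFrK : Fr ≫ πK = πK) (y : C) :
    ∃ (V : C.affineOpens) (e : V.1 ≤ Fr ⁻¹ᵁ V.1), y ∈ V.1 ∧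
      ∀ s : Γ(C, V.1), ∃ t : Γ(C, V.1), (Fr.appLE V.1 V.1 e).hom s = t ^ (p ^ m) := by
  obtain ⟨U₀, hU₀, hyU₀, -⟩ := Opens.isBasis_iff_nbhd.mp C₀.isBasis_affineOpens
    (show πC₀ y ∈ (⊤ : C₀.Opens) from trivial)
  haveI : IsAffineHom πC₀ := MorphismProperty.of_isPullback (P := @IsAffineHom) hC.flip inferInstance
  set V : C.Opens := πC₀ ⁻¹ᵁ U₀ with hVdef
  have hV : IsAffineOpen V := hU₀.preimage πC₀
  obtain ⟨e₀, he₀⟩ := frobPow_spec C₀ p m U₀
  have e : V ≤ Fr ⁻¹ᵁ V := by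
    intro z hz
    show πC₀ (Fr z) ∈ U₀
    have h1 : πC₀ (Fr z) = (End.asHom (End.of (FrobSch.frob C₀ p) ^ m)) (πC₀ z) := by
      rw [← Scheme.Hom.comp_apply, hFr₀, Scheme.Hom.comp_apply]
    rw [h1]
    exact e₀ hz
  refine ⟨⟨V, hV⟩, e, hyU₀, ?_⟩
  -- the pushout square of sections
  have hUST : (⊤ : (Spec (CommRingCat.of K)).Opens) ≤
      (Spec.map (CommRingCat.ofHom (algebraMap k₀ K))) ⁻¹ᵁ ⊤ := le_of_eq rfl
  have hUSX : U₀ ≤ f₀ ⁻¹ᵁ ⊤ := fun _ _ => trivial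
  have hUY : V = πC₀ ⁻¹ᵁ U₀ ⊓ πK ⁻¹ᵁ ⊤ := by
    rw [hVdef]; ext z; simp
  have hiso := isIso_pushoutSection_of_isAffineOpen hC hUST hUSX hUY (isAffineOpen_top _)
    (isAffineOpen_top _) hU₀
  have hpo := (isIso_pushoutSection_iff hC hUST hUSX hUY).mp hiso
  -- characteristic p
  haveI : FrobSch.IsCharP C p := FrobSch.IsCharP.of_hom πC₀ p
  have hp0 : (p : Γ(C, V)) = 0 := FrobSch.natCast_eq_zero_app C p V
  let S : Subring Γ(C, V) := (powPowHom p Γ(C, V) hp0 m).range.comap (Fr.appLE V V e).hom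
  have hS : ∀ s, s ∈ S → ∃ t : Γ(C, V), (Fr.appLE V V e).hom s = t ^ (p ^ m) := by
    rintro s ⟨t, ht⟩
    exact ⟨t, by rw [← ht, powPowHom_apply]⟩
  intro s
  apply hS
  apply mem_of_isPushout hpo S
  · intro a
    have e₁ : V ≤ πC₀ ⁻¹ᵁ U₀ := le_of_eq rfl
    refine ⟨(πC₀.appLE U₀ V e₁).hom a, ?_⟩
    rw [powPowHom_apply]
    have h1 := Scheme.Hom.appLE_comp_appLE Fr πC₀ U₀ V V e₁ e
    have h3 := Scheme.Hom.appLE_comp_appLE πC₀ (End.asHom (End.of (FrobSch.frob C₀ p) ^ m))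
      U₀ U₀ V e₀ e₁
    rw [appLE_congr_hom hFr₀] at h1
    have h4 : (Fr.appLE V V e).hom ((πC₀.appLE U₀ V e₁).hom a) =
        (πC₀.appLE U₀ V e₁).hom
          (((End.asHom (End.of (FrobSch.frob C₀ p) ^ m)).appLE U₀ U₀ e₀).hom a) := by
      have := congrArg (fun φ => φ.hom a) (h1.trans h3.symm)
      exact this
    show _ = (Fr.appLE V V e).hom ((πC₀.appLE U₀ V e₁).hom a)
    rw [h4, he₀, map_pow]
  · intro b
    have e₂ : V ≤ πK ⁻¹ᵁ ⊤ := fun _ _ => trivial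
    have h1 := Scheme.Hom.appLE_comp_appLE Fr πK ⊤ V V e₂ e
    rw [appLE_congr_hom hFrK] at h1
    have h4 : (Fr.appLE V V e).hom ((πK.appLE ⊤ V e₂).hom b) = (πK.appLE ⊤ V e₂).hom b := by
      have := congrArg (fun φ => φ.hom b) h1
      exact this
    let φ : Γ(Spec (CommRingCat.of K), ⊤) ≃+* K :=
      (Scheme.ΓSpecIso (CommRingCat.of K)).commRingCatIsoToRingEquiv
    obtain ⟨z, hz⟩ := IsAlgClosed.exists_pow_nat_eq (φ b)
      (pow_pos (Fact.out : p.Prime).pos m)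
    have hc : (φ.symm z) ^ (p ^ m) = b := by
      rw [← map_pow, hz, RingEquiv.symm_apply_apply]
    refine ⟨(πK.appLE ⊤ V e₂).hom (φ.symm z), ?_⟩
    rw [powPowHom_apply]
    show _ = (Fr.appLE V V e).hom ((πK.appLE ⊤ V e₂).hom b)
    rw [h4, ← map_pow, hc]


/-! ### contraction -/

theorem le_and_pow_le {Y : Scheme.{u}} (L J R : Y.IdealSheafData) (d q : ℕ) (hq : d < q)
    (hL : L ≤ R ^ q) (hd : R ^ d ≤ J) : L ≤ J ∧ L ^ d ≤ J ^ (d + 1) := by
  have h0 : ∀ a : Y.IdealSheafData, 0 ≤ a := fun a => bot_le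
  have h1 : ∀ a : Y.IdealSheafData, a ≤ 1 := fun a => le_top
  constructor
  · exact hL.trans ((pow_le_pow_of_le_one (h0 R) (h1 R) hq.le).trans hd)
  · calc L ^ d ≤ (R ^ q) ^ d := pow_le_pow_left₀ (h0 L) hL d
      _ = (R ^ d) ^ q := by rw [← pow_mul, mul_comm, pow_mul]
      _ ≤ J ^ q := pow_le_pow_left₀ (h0 _) hd q
      _ ≤ J ^ (d + 1) := pow_le_pow_of_le_one (h0 J) (h1 J) hq

/-- Local form of the contraction estimate for the Frobenius-twisted correspondence. -/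
theorem comap_ideal_le_radical_pow {C C₀ : Scheme.{u}} (p : ℕ) [Fact p.Prime]
    (k₀ : Type u) [Field k₀] (K : Type u) [Field K] [Algebra k₀ K] [IsAlgClosed K]
    (f₀ : C₀ ⟶ Spec (CommRingCat.of k₀)) [FrobSch.IsCharP C₀ p]
    (πC₀ : C ⟶ C₀) (πK : C ⟶ Spec (CommRingCat.of K))
    (hC : IsPullback πC₀ πK f₀ (Spec.map (CommRingCat.ofHom (algebraMap k₀ K))))
    (m : ℕ) (Fr : C ⟶ C)
    (hFr₀ : Fr ≫ πC₀ = πC₀ ≫ End.asHom (End.of (FrobSch.frob C₀ p) ^ m))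
    (hFrK : Fr ≫ πK = πK)
    (L' J : C.IdealSheafData) (W : C.Opens)
    (h : (J.support : Set C) ∩ W ⊆ Fr.base ⁻¹' (L'.support : Set C))
    (U : C.affineOpens) (hU : U.1 ≤ W) :
    (L'.comap Fr).ideal U ≤ (J.radical ^ (p ^ m)).ideal U :=
  comap_ideal_le Fr (p ^ m) (exists_chart p k₀ K f₀ πC₀ πK hC m Fr hFr₀ hFrK) L' J W h U hU

/-- S18396 (with `m` in place of `e * n`). -/
theorem contracting_of_invariant {C C₀ X : Scheme.{u}} (p : ℕ) [Fact p.Prime]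
    (k₀ : Type u) [Field k₀] (K : Type u) [Field K] [Algebra k₀ K] [IsAlgClosed K]
    (f₀ : C₀ ⟶ Spec (CommRingCat.of k₀)) [FrobSch.IsCharP C₀ p]
    (πC₀ : C ⟶ C₀) (πK : C ⟶ Spec (CommRingCat.of K))
    (hC : IsPullback πC₀ πK f₀ (Spec.map (CommRingCat.ofHom (algebraMap k₀ K))))
    (m : ℕ) (Fr : C ⟶ C)
    (hFr₀ : Fr ≫ πC₀ = πC₀ ≫ End.asHom (End.of (FrobSch.frob C₀ p) ^ m))
    (hFrK : Fr ≫ πK = πK)
    (c₁ c₂ : C ⟶ X) (I : X.IdealSheafData) (d : ℕ)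
    (hd : (I.comap c₂).radical ^ d ≤ I.comap c₂) (hn : d < p ^ m)
    (hinv : (Fr ≫ c₁).base '' (c₂.base ⁻¹' (I.support : Set X)) ⊆ (I.support : Set X)) :
    I.comap (Fr ≫ c₁) ≤ I.comap c₂ ∧ I.comap (Fr ≫ c₁) ^ d ≤ I.comap c₂ ^ (d + 1) := by
  apply le_and_pow_le _ _ (I.comap c₂).radical d (p ^ m) hn _ hd
  rw [Scheme.IdealSheafData.comap_comp]
  intro U
  apply comap_ideal_le_radical_pow p k₀ K f₀ πC₀ πK hC m Fr hFr₀ hFrK (I.comap c₁) (I.comap c₂) ⊤
    _ U le_top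
  rintro y ⟨hy, -⟩
  rw [Scheme.IdealSheafData.support_comap] at hy
  show Fr y ∈ ((I.comap c₁).support : Set C)
  rw [Scheme.IdealSheafData.support_comap]
  exact hinv ⟨y, hy, rfl⟩

end Groth.Agent.Lib.Helper21.FrobContract
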