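import Groth.Prelude.Def_Frob
import Mathlib.AlgebraicGeometry.IdealSheaf.Functorial
import Mathlib.FieldTheory.IsAlgClosed.AlgebraicClosure
import Mathlib.CategoryTheory.Endomorphism
import Mathlib.AlgebraicGeometry.Morphisms.QuasiFinite
import Mathlib.AlgebraicGeometry.Morphisms.FiniteType
import Groth.Agent.Lib.Helper21.FrobContract

set_option autoImplicit false
universe u
open CategoryTheory CategoryTheory.Limits AlgebraicGeometry TopologicalSpace

namespace Groth.Agent.Lib.Helper21.FrobFix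

open Groth.Agent.Lib.Helper21.FrobContract

theorem isClosed_of_subset_isDiscrete {α : Type*} [TopologicalSpace α] {F T : Set α}
    (hF : IsClosed F) (hd : IsDiscrete F) (hT : T ⊆ F) : IsClosed T := by
  haveI := hd.to_subtype
  have h1 : IsClosed ((Subtype.val : F → α) ⁻¹' T) := isClosed_discrete _
  have h2 := hF.isClosedEmbedding_subtypeVal.isClosedMap _ h1
  rwa [Subtype.image_preimage_coe, Set.inter_eq_right.mpr hT] at h2

theorem apply_eq_of_mem_preimage_diagonal {C X S : Scheme.{u}} (pX : X ⟶ S) (a b : C ⟶ X)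
    (h : a ≫ pX = b ≫ pX) (y : C)
    (hy : y ∈ (pullback.lift a b h).base ⁻¹' Set.range (pullback.diagonal pX).base) :
    a y = b y := by
  obtain ⟨x', hx'⟩ := hy
  have h1 : (pullback.fst pX pX) ((pullback.diagonal pX) x') = x' := by
    rw [← Scheme.Hom.comp_apply, pullback.diagonal_fst]; rfl
  have h2 : (pullback.snd pX pX) ((pullback.diagonal pX) x') = x' := by
    rw [← Scheme.Hom.comp_apply, pullback.diagonal_snd]; rfl
  have h3 : (pullback.fst pX pX) ((pullback.lift a b h) y) = a y := by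
    rw [← Scheme.Hom.comp_apply, pullback.lift_fst]
  have h4 : (pullback.snd pX pX) ((pullback.lift a b h) y) = b y := by
    rw [← Scheme.Hom.comp_apply, pullback.lift_snd]
  have hx'' : (pullback.diagonal pX) x' = (pullback.lift a b h) y := hx'
  rw [← h3, ← h4, ← hx'', h1, h2]

/-- S18397 (with `m` in place of `e * n`). -/
theorem exists_open_contracting {C C₀ X : Scheme.{u}} (p : ℕ) [Fact p.Prime]
    (k₀ : Type u) [Field k₀] (K : Type u) [Field K] [Algebra k₀ K] [IsAlgClosed K]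
    (f₀ : C₀ ⟶ Spec (CommRingCat.of k₀)) [FrobSch.IsCharP C₀ p]
    (πC₀ : C ⟶ C₀) (πK : C ⟶ Spec (CommRingCat.of K))
    (hC : IsPullback πC₀ πK f₀ (Spec.map (CommRingCat.ofHom (algebraMap k₀ K))))
    (m : ℕ) (Fr : C ⟶ C)
    (hFr₀ : Fr ≫ πC₀ = πC₀ ≫ End.asHom (End.of (FrobSch.frob C₀ p) ^ m))
    (hFrK : Fr ≫ πK = πK)
    {S : Scheme.{u}} (pX : X ⟶ S)
    (c₁ c₂ : C ⟶ X) [LocallyQuasiFinite c₂]
    (hcomm : (Fr ≫ c₁) ≫ pX = c₂ ≫ pX) (d : ℕ) (hn : d < p ^ m)
    (x : X) (hx : IsClosed ({x} : Set X))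
    (hd : ((Scheme.IdealSheafData.vanishingIdeal ⟨{x}, hx⟩).comap c₂).radical ^ d ≤
        (Scheme.IdealSheafData.vanishingIdeal ⟨{x}, hx⟩).comap c₂) :
    ∃ W : C.Opens,
      (pullback.lift (Fr ≫ c₁) c₂ hcomm).base ⁻¹' Set.range (pullback.diagonal pX).base ⊆ (W : Set C) ∧
      (∀ y : C, y ∈ W → c₂ y = x → c₁ (Fr y) = x) ∧
      (Scheme.IdealSheafData.vanishingIdeal ⟨{x}, hx⟩).comap (W.ι ≫ Fr ≫ c₁) ≤
        (Scheme.IdealSheafData.vanishingIdeal ⟨{x}, hx⟩).comap (W.ι ≫ c₂) ∧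
      (Scheme.IdealSheafData.vanishingIdeal ⟨{x}, hx⟩).comap (W.ι ≫ Fr ≫ c₁) ^ d ≤
        (Scheme.IdealSheafData.vanishingIdeal ⟨{x}, hx⟩).comap (W.ι ≫ c₂) ^ (d + 1) := by
  set I := Scheme.IdealSheafData.vanishingIdeal ⟨{x}, hx⟩ with hI
  have hsuppI : (I.support : Set X) = {x} := by
    rw [hI, Scheme.IdealSheafData.coe_support_vanishingIdeal]; rfl
  set T : Set C := {y | c₂ y = x ∧ c₁ (Fr y) ≠ x} with hT
  have hF : IsClosed (c₂ ⁻¹' {x}) := hx.preimage c₂.continuous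
  have hTcl : IsClosed T :=
    isClosed_of_subset_isDiscrete hF (c₂.isDiscrete_preimage_singleton x) (fun y hy => hy.1)
  set W : C.Opens := ⟨Tᶜ, hTcl.isOpen_compl⟩ with hW
  have hWprop : ∀ y : C, y ∈ W → c₂ y = x → c₁ (Fr y) = x := by
    intro y hyW hy
    by_contra hne
    exact hyW ⟨hy, hne⟩
  have hmain : ((I.comap c₁).comap Fr).comap W.ι ≤ ((I.comap c₂).radical ^ (p ^ m)).comap W.ι := by
    apply comap_ι_le_of_forall
    intro U hU
    apply comap_ideal_le_radical_pow p k₀ K f₀ πC₀ πK hC m Fr hFr₀ hFrK (I.comap c₁) (I.comap c₂) W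
      _ U hU
    rintro y ⟨hy, hyW⟩
    rw [Scheme.IdealSheafData.support_comap] at hy
    show Fr y ∈ ((I.comap c₁).support : Set C)
    rw [Scheme.IdealSheafData.support_comap]
    show c₁ (Fr y) ∈ (I.support : Set X)
    have hy' : c₂ y ∈ (I.support : Set X) := hy
    rw [hsuppI] at hy' ⊢
    exact hWprop y hyW hy'
  refine ⟨W, ?_, hWprop, ?_⟩
  · intro y hy hyT
    have := apply_eq_of_mem_preimage_diagonal pX (Fr ≫ c₁) c₂ hcomm y hy
    rw [Scheme.Hom.comp_apply] at this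
    exact hyT.2 (this.trans hyT.1)
  · have e1 : I.comap (W.ι ≫ Fr ≫ c₁) = ((I.comap c₁).comap Fr).comap W.ι := by
      rw [Scheme.IdealSheafData.comap_comp, Scheme.IdealSheafData.comap_comp]
    have e2 : I.comap (W.ι ≫ c₂) = (I.comap c₂).comap W.ι := by
      rw [Scheme.IdealSheafData.comap_comp]
    rw [e1, e2]
    apply le_and_pow_le _ _ ((I.comap c₂).radical.comap W.ι) d (p ^ m) hn
    · rw [← Groth.Agent.Lib.Helper18.comap_pow]; exact hmain
    · rw [← Groth.Agent.Lib.Helper18.comap_pow]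
      exact Scheme.IdealSheafData.comap_mono W.ι hd

end Groth.Agent.Lib.Helper21.FrobFix
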