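import Mathlib.AlgebraicGeometry.IdealSheaf.Functorial
import Mathlib.AlgebraicGeometry.Morphisms.FiniteType
import Mathlib.AlgebraicGeometry.Morphisms.QuasiCompact
import Mathlib.Topology.Connected.Basic
import Groth.Agent.Lib.Helper21.ProdDiv
import Groth.Agent.Lib.Helper18.SubschemeIncl
import Mathlib.AlgebraicGeometry.Morphisms.Immersion

set_option autoImplicit false
universe u
open CategoryTheory CategoryTheory.Limits AlgebraicGeometry TopologicalSpace

namespace Groth.Agent.Lib.Helper21.LVCorr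

open Groth.Agent.Lib.Helper21.Chart Groth.Agent.Lib.Helper21.EffCartierUFD
  Groth.Agent.Lib.Helper21.ProdDiv

variable {Y : Scheme.{u}}

/-- On a locally Noetherian scheme, an ideal sheaf with `J ^ k ≤ J ^ (k + 1)` has clopen support. -/
theorem isClopen_support_of_pow_le [IsLocallyNoetherian Y] (J : Y.IdealSheafData) (k : ℕ)
    (h : J ^ k ≤ J ^ (k + 1)) : IsClopen (J.support : Set Y) := by
  refine ⟨J.support.isClosed, ?_⟩
  rw [isOpen_iff_forall_mem_open]
  intro x hx
  obtain ⟨V, hxV⟩ := exists_affine_mem x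
  haveI : IsNoetherianRing Γ(Y, V.1) := IsLocallyNoetherian.component_noetherian V
  set 𝔟 := J.ideal V with h𝔟
  have hle : 𝔟 ^ k ≤ 𝔟 • 𝔟 ^ k := by
    have := h V
    rw [Scheme.IdealSheafData.ideal_pow, Scheme.IdealSheafData.ideal_pow] at this
    simpa [pow_succ', smul_eq_mul] using this
  obtain ⟨r, hr1, hr0⟩ := Submodule.exists_sub_one_mem_and_smul_eq_zero_of_fg_of_le_smul 𝔟 (𝔟 ^ k)
    (IsNoetherian.noetherian _) hle
  refine ⟨Y.basicOpen r, ?_, (Y.basicOpen r).2, ?_⟩
  · intro y hy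
    have hyV : y ∈ V.1 := Y.basicOpen_le r hy
    apply mem_support_of_ideal_le_pr V hyV
    intro b hb
    have hr : r ∉ pr V.2 y hyV := (mem_basicOpen_iff_notMem_primeIdealOf V y hyV r).1 hy
    have h1 : r * b ^ k = 0 := hr0 (b ^ k) (Ideal.pow_mem_pow hb k)
    have h2 : r * b ^ k ∈ pr V.2 y hyV := by rw [h1]; exact Ideal.zero_mem _
    have h3 := ((inferInstance : (pr V.2 y hyV).IsPrime).mem_or_mem h2).resolve_left hr
    exact (inferInstance : (pr V.2 y hyV).IsPrime).mem_of_pow_mem k h3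
  · show x ∈ Y.basicOpen r
    rw [mem_basicOpen_iff_notMem_primeIdealOf V x hxV r]
    intro hr
    have hle' := ideal_le_pr_of_mem_support hx V hxV
    have h1 : r - 1 ∈ pr V.2 x hxV := hle' hr1
    have h2 : (1 : Γ(Y, V.1)) ∈ pr V.2 x hxV := by
      have := (pr V.2 x hxV).sub_mem hr h1
      simpa using this
    exact (inferInstance : (pr V.2 x hxV).IsPrime).ne_top ((Ideal.eq_top_iff_one _).2 h2)

/-- S19878. -/
theorem subset_preimage_support {C X Fx : Scheme.{u}} (k : Type u) [Field k]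
    (pC : C ⟶ Spec (CommRingCat.of k)) [LocallyOfFiniteType pC]
    (pX : X ⟶ Spec (CommRingCat.of k)) (c₁ c₂ : C ⟶ X) (hc : c₁ ≫ pX = c₂ ≫ pX)
    (i : Fx ⟶ C) (δ : Fx ⟶ X) (hF : IsPullback i δ (pullback.lift c₁ c₂ hc) (pullback.diagonal pX))
    (I : X.IdealSheafData) (W : C.Opens) (hW : Set.range i.base ⊆ (W : Set C))
    (k₀ : ℕ) (hpow : I.comap (W.ι ≫ c₁) ^ k₀ ≤ I.comap (W.ι ≫ c₂) ^ (k₀ + 1))
    (β : Fx.Opens) (hβ : _root_.IsConnected (β : Set Fx))
    (hβZ : (δ.base '' (β : Set Fx) ∩ (I.support : Set X)).Nonempty) :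
    (β : Set Fx) ⊆ δ.base ⁻¹' (I.support : Set X) := by
  -- `i ≫ c₁ = δ = i ≫ c₂`
  have h1 : i ≫ c₁ = δ := by
    have := congrArg (· ≫ pullback.fst pX pX) hF.w
    simp only [Category.assoc, pullback.lift_fst, pullback.diagonal_fst, Category.comp_id] at this
    exact this
  have h2 : i ≫ c₂ = δ := by
    have := congrArg (· ≫ pullback.snd pX pX) hF.w
    simp only [Category.assoc, pullback.lift_snd, pullback.diagonal_snd, Category.comp_id] at this
    exact this
  -- `Fx` is locally Noetherian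
  haveI : IsLocallyNoetherian C := LocallyOfFiniteType.isLocallyNoetherian pC
  haveI : IsImmersion i :=
    MorphismProperty.of_isPullback (P := @IsImmersion) hF.flip inferInstance
  haveI : IsLocallyNoetherian Fx := LocallyOfFiniteType.isLocallyNoetherian i
  -- factor through `W`
  have hr : Set.range i.base ⊆ Set.range W.ι.base := by
    rw [Scheme.Opens.range_ι]; exact hW
  set iW : Fx ⟶ W := IsOpenImmersion.lift W.ι i hr with hiW
  have hiWι : iW ≫ W.ι = i := IsOpenImmersion.lift_fac W.ι i hr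
  set J := I.comap δ with hJ
  have hJ1 : J = (I.comap (W.ι ≫ c₁)).comap iW := by
    rw [← Scheme.IdealSheafData.comap_comp, ← Category.assoc, hiWι, h1]
  have hJ2 : J = (I.comap (W.ι ≫ c₂)).comap iW := by
    rw [← Scheme.IdealSheafData.comap_comp, ← Category.assoc, hiWι, h2]
  have hJpow : J ^ k₀ ≤ J ^ (k₀ + 1) := by
    conv_lhs => rw [hJ1]
    conv_rhs => rw [hJ2]
    rw [← Groth.Agent.Lib.Helper18.comap_pow iW (I.comap (W.ι ≫ c₁)) k₀,
      ← Groth.Agent.Lib.Helper18.comap_pow iW (I.comap (W.ι ≫ c₂)) (k₀ + 1)]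
    exact Scheme.IdealSheafData.comap_mono iW hpow
  have hclopen := isClopen_support_of_pow_le J k₀ hJpow
  have hsupp : (J.support : Set Fx) = δ.base ⁻¹' (I.support : Set X) := by
    rw [hJ, Scheme.IdealSheafData.support_comap]; rfl
  rw [← hsupp]
  apply hβ.isPreconnected.subset_isClopen hclopen
  obtain ⟨_, ⟨b, hb, rfl⟩, hbI⟩ := hβZ
  exact ⟨b, hb, by rw [hsupp]; exact hbI⟩

end Groth.Agent.Lib.Helper21.LVCorr
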