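import Groth.Prelude.Def_Frob
import Mathlib.AlgebraicGeometry.IdealSheaf.Functorial
import Mathlib.FieldTheory.IsAlgClosed.AlgebraicClosure
import Mathlib.CategoryTheory.Endomorphism
import Mathlib.AlgebraicGeometry.Morphisms.QuasiFinite
import Mathlib.AlgebraicGeometry.Morphisms.FiniteType
import Mathlib.AlgebraicGeometry.Morphisms.QuasiCompact
import Groth.Agent.Lib.Helper21.FrobFix
import Groth.Agent.Lib.Helper21.LVCorr
import Mathlib.AlgebraicGeometry.Morphisms.Finite

set_option autoImplicit false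
universe u
open CategoryTheory CategoryTheory.Limits AlgebraicGeometry TopologicalSpace

namespace Groth.Agent.Lib.Helper21.FrobFixFin

open Groth.Agent.Lib.Helper21.FrobContract Groth.Agent.Lib.Helper21.FrobFix
  Groth.Agent.Lib.Helper21.LVCorr

/-- The preimage of the support under `δ` is clopen if `(a, b)` is contracting near the fixed
points. -/
theorem isClopen_preimage_support {C X Fx : Scheme.{u}} [IsLocallyNoetherian Fx] (a b : C ⟶ X)
    (i : Fx ⟶ C) (δ : Fx ⟶ X) (h1 : i ≫ a = δ) (h2 : i ≫ b = δ)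
    (I : X.IdealSheafData) (W : C.Opens) (hW : Set.range i.base ⊆ (W : Set C))
    (k₀ : ℕ) (hpow : I.comap (W.ι ≫ a) ^ k₀ ≤ I.comap (W.ι ≫ b) ^ (k₀ + 1)) :
    IsClopen (δ.base ⁻¹' (I.support : Set X)) := by
  have hr : Set.range i.base ⊆ Set.range W.ι.base := by
    rw [Scheme.Opens.range_ι]; exact hW
  set iW : Fx ⟶ W := IsOpenImmersion.lift W.ι i hr with hiW
  have hiWι : iW ≫ W.ι = i := IsOpenImmersion.lift_fac W.ι i hr
  set J := I.comap δ with hJ
  have hJ1 : J = (I.comap (W.ι ≫ a)).comap iW := by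
    rw [← Scheme.IdealSheafData.comap_comp, ← Category.assoc, hiWι, h1]
  have hJ2 : J = (I.comap (W.ι ≫ b)).comap iW := by
    rw [← Scheme.IdealSheafData.comap_comp, ← Category.assoc, hiWι, h2]
  have hJpow : J ^ k₀ ≤ J ^ (k₀ + 1) := by
    conv_lhs => rw [hJ1]
    conv_rhs => rw [hJ2]
    rw [← Groth.Agent.Lib.Helper18.comap_pow iW (I.comap (W.ι ≫ a)) k₀,
      ← Groth.Agent.Lib.Helper18.comap_pow iW (I.comap (W.ι ≫ b)) (k₀ + 1)]
    exact Scheme.IdealSheafData.comap_mono iW hpow
  have hclopen := isClopen_support_of_pow_le J k₀ hJpow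
  have hsupp : (J.support : Set Fx) = δ.base ⁻¹' (I.support : Set X) := by
    rw [hJ, Scheme.IdealSheafData.support_comap]; rfl
  rw [← hsupp]; exact hclopen

/-- A quasi-compact `T₀` space all of whose closed points are open is finite and discrete. -/
theorem finite_discrete_of_closed_points_open {α : Type*} [TopologicalSpace α] [T0Space α]
    [CompactSpace α] (h : ∀ z : α, IsClosed ({z} : Set α) → IsOpen ({z} : Set α)) :
    Finite α ∧ DiscreteTopology α := by
  have hall : ∀ z : α, IsOpen ({z} : Set α) := by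
    intro z'
    obtain ⟨z, hz, hzcl⟩ := (isClosed_closure (s := ({z'} : Set α))).exists_closed_singleton
      ⟨z', subset_closure rfl⟩
    have hzo := h z hzcl
    have : (({z} : Set α) ∩ {z'}).Nonempty := mem_closure_iff.mp hz {z} hzo rfl
    obtain ⟨w, hw1, hw2⟩ := this
    have : z = z' := by rw [← Set.mem_singleton_iff.mp hw1, Set.mem_singleton_iff.mp hw2]
    rw [← this]; exact hzo
  haveI : DiscreteTopology α := discreteTopology_iff_isOpen_singleton.mpr hall
  exact ⟨finite_of_compact_of_discrete, inferInstance⟩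


/-- S19879 (with `m` in place of `e * n`). -/
theorem finite_discrete_fix {C C₀ X Fx : Scheme.{u}} (p : ℕ) [Fact p.Prime]
    (k₀ : Type u) [Field k₀] (K : Type u) [Field K] [Algebra k₀ K] [IsAlgClosed K]
    (f₀ : C₀ ⟶ Spec (CommRingCat.of k₀)) [LocallyOfFiniteType f₀] [QuasiCompact f₀]
    [FrobSch.IsCharP C₀ p]
    (πC₀ : C ⟶ C₀) (πK : C ⟶ Spec (CommRingCat.of K))
    (hC : IsPullback πC₀ πK f₀ (Spec.map (CommRingCat.ofHom (algebraMap k₀ K))))
    (m : ℕ) (Fr : C ⟶ C)
    (hFr₀ : Fr ≫ πC₀ = πC₀ ≫ End.asHom (End.of (FrobSch.frob C₀ p) ^ m))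
    (hFrK : Fr ≫ πK = πK)
    (pX : X ⟶ Spec (CommRingCat.of K)) [LocallyOfFiniteType pX]
    (c₁ c₂ : C ⟶ X) [LocallyQuasiFinite c₂] [LocallyOfFiniteType c₂]
    (hcomm : (Fr ≫ c₁) ≫ pX = c₂ ≫ pX) (d : ℕ) (hn : d < p ^ m)
    (hd : ∀ (x : X) (hx : IsClosed ({x} : Set X)),
      ((Scheme.IdealSheafData.vanishingIdeal ⟨{x}, hx⟩).comap c₂).radical ^ d ≤
        (Scheme.IdealSheafData.vanishingIdeal ⟨{x}, hx⟩).comap c₂)
    (i : Fx ⟶ C) (δ : Fx ⟶ X)
    (hF : IsPullback i δ (pullback.lift (Fr ≫ c₁) c₂ hcomm) (pullback.diagonal pX)) :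
    Finite Fx ∧ DiscreteTopology Fx := by
  have h1 : i ≫ (Fr ≫ c₁) = δ := by
    have := congrArg (· ≫ pullback.fst pX pX) hF.w
    simp only [Category.assoc, pullback.lift_fst, pullback.diagonal_fst, Category.comp_id] at this
    exact this
  have h2 : i ≫ c₂ = δ := by
    have := congrArg (· ≫ pullback.snd pX pX) hF.w
    simp only [Category.assoc, pullback.lift_snd, pullback.diagonal_snd, Category.comp_id] at this
    exact this
  haveI : LocallyOfFiniteType πK :=
    MorphismProperty.of_isPullback (P := @LocallyOfFiniteType) hC inferInstance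
  haveI : QuasiCompact πK :=
    MorphismProperty.of_isPullback (P := @QuasiCompact) hC inferInstance
  haveI : IsLocallyNoetherian C := LocallyOfFiniteType.isLocallyNoetherian πK
  haveI : CompactSpace C := QuasiCompact.compactSpace_of_compactSpace πK
  haveI : IsNoetherian C := {}
  haveI : IsImmersion i :=
    MorphismProperty.of_isPullback (P := @IsImmersion) hF.flip inferInstance
  haveI : IsLocallyNoetherian Fx := LocallyOfFiniteType.isLocallyNoetherian i
  haveI : NoetherianSpace Fx := i.isEmbedding.isInducing.noetherianSpace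
  haveI : CompactSpace Fx := NoetherianSpace.compactSpace Fx
  haveI : JacobsonSpace X := LocallyOfFiniteType.jacobsonSpace pX
  haveI : LocallyOfFiniteType δ := h2 ▸ inferInstance
  apply finite_discrete_of_closed_points_open
  intro z hz
  have hx : IsClosed ({δ z} : Set X) := δ.closePoints_subset_preimage_closedPoints hz
  obtain ⟨W, hfix, -, -, hpow⟩ := exists_open_contracting p k₀ K f₀ πC₀ πK hC m Fr hFr₀ hFrK pX
    c₁ c₂ hcomm d hn (δ z) hx (hd (δ z) hx)
  set I := Scheme.IdealSheafData.vanishingIdeal ⟨{δ z}, hx⟩ with hI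
  have hsuppI : (I.support : Set X) = {δ z} := by
    rw [hI, Scheme.IdealSheafData.coe_support_vanishingIdeal]; rfl
  have hW : Set.range i.base ⊆ (W : Set C) := by
    rintro _ ⟨z', rfl⟩
    apply hfix
    refine ⟨δ z', ?_⟩
    show (pullback.diagonal pX) (δ z') = (pullback.lift (Fr ≫ c₁) c₂ hcomm) (i z')
    rw [← Scheme.Hom.comp_apply, ← Scheme.Hom.comp_apply, hF.w]
  have hclopen := isClopen_preimage_support (Fr ≫ c₁) c₂ i δ h1 h2 I W hW d hpow
  rw [hsuppI] at hclopen
  have hdisc : _root_.IsDiscrete (δ.base ⁻¹' ({δ z} : Set X)) := by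
    have e : δ.base ⁻¹' ({δ z} : Set X) = i.base ⁻¹' (c₂.base ⁻¹' {δ z}) := by
      rw [← h2]; rfl
    rw [e]
    exact (c₂.isDiscrete_preimage_singleton (δ z)).preimage i.continuous.continuousOn
      i.isEmbedding.injective
  obtain ⟨u, hu, hus⟩ := (isDiscrete_iff_forall_mem_exists_isOpen.mp hdisc) z rfl
  rw [← hus]
  exact hu.inter hclopen.isOpen

end Groth.Agent.Lib.Helper21.FrobFixFin
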