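import Mathlib.Topology.Irreducible
import Mathlib.Topology.Inseparable
import Mathlib.Topology.Sober

/-!
# Generalizing maps between quasi-sober spaces and irreducible components of preimages
-/

set_option autoImplicit false

namespace Groth.Agent.Lib.Helper21

open Topology

theorem generalizingMap_iff_irreducibleComponents_preimage {X Y : Type*} [TopologicalSpace X]
    [TopologicalSpace Y] [QuasiSober X] [QuasiSober Y] [T0Space Y] (f : X → Y)
    (hf : Continuous f) :
    GeneralizingMap f ↔
      ∀ Y' : Set Y, IsClosed Y' → IsIrreducible Y' →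
        ∀ Z ∈ irreducibleComponents ↥(f ⁻¹' Y'), closure (f '' (Subtype.val '' Z)) = Y' := by
  constructor
  · intro hgen Y' hY'c hY'i Z hZ
    have hWc : IsClosed (f ⁻¹' Y') := hY'c.preimage hf
    have hZc : IsClosed Z := isClosed_of_mem_irreducibleComponents Z hZ
    have hSc : IsClosed (Subtype.val '' Z : Set X) :=
      (hWc.isClosedEmbedding_subtypeVal).isClosedMap _ hZc
    have hSi : IsIrreducible (Subtype.val '' Z : Set X) :=
      hZ.1.image _ continuous_subtype_val.continuousOn
    have hξ := hSi.isGenericPoint_genericPoint hSc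
    set ξ := hSi.genericPoint with hξdef
    obtain ⟨w, hwZ, hwξ⟩ := hξ.mem
    have hη := hY'i.isGenericPoint_genericPoint hY'c
    set η := hY'i.genericPoint
    have hfξ : f ξ ∈ Y' := by rw [← hwξ]; exact w.2
    obtain ⟨ξ', hξ', hfξ'⟩ := hgen (hη.specializes hfξ)
    have hξ'W : ξ' ∈ f ⁻¹' Y' := by
      change f ξ' ∈ Y'
      rw [hfξ']; exact hη.mem
    let w' : ↥(f ⁻¹' Y') := ⟨ξ', hξ'W⟩
    have hsub : Z ⊆ closure {w'} := by
      intro z hz
      rw [← specializes_iff_mem_closure, subtype_specializes_iff]
      exact hξ'.trans (hξ.specializes ⟨z, hz, rfl⟩)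
    have hw'Z : w' ∈ Z := hZ.2 isIrreducible_singleton.closure hsub (subset_closure rfl)
    apply subset_antisymm
    · rw [hY'c.closure_subset_iff]
      rintro _ ⟨_, ⟨z, _, rfl⟩, rfl⟩
      exact z.2
    · have hmem : η ∈ f '' (Subtype.val '' Z) := ⟨ξ', ⟨w', hw'Z, rfl⟩, hfξ'⟩
      have h2 : closure {η} ⊆ closure (f '' (Subtype.val '' Z)) :=
        closure_mono (Set.singleton_subset_iff.mpr hmem)
      exact hη.def.symm.le.trans h2
  · intro h x y' hy'
    have hY'c : IsClosed (closure {y'}) := isClosed_closure
    have hY'i : IsIrreducible (closure {y'}) := isIrreducible_singleton.closure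
    have hxW : x ∈ f ⁻¹' closure {y'} := specializes_iff_mem_closure.mp hy'
    let w : ↥(f ⁻¹' closure {y'}) := ⟨x, hxW⟩
    have hZ := irreducibleComponent_mem_irreducibleComponents w
    have hcl := h _ hY'c hY'i _ hZ
    have hWc : IsClosed (f ⁻¹' closure {y'}) := hY'c.preimage hf
    have hZc : IsClosed (irreducibleComponent w) := isClosed_irreducibleComponent
    have hSc : IsClosed (Subtype.val '' irreducibleComponent w : Set X) :=
      (hWc.isClosedEmbedding_subtypeVal).isClosedMap _ hZc
    have hSi : IsIrreducible (Subtype.val '' irreducibleComponent w : Set X) :=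
      hZ.1.image _ continuous_subtype_val.continuousOn
    have hξ := hSi.isGenericPoint_genericPoint hSc
    refine ⟨hSi.genericPoint, hξ.specializes ⟨w, mem_irreducibleComponent, rfl⟩, ?_⟩
    have h1 := hξ.image hf
    rw [hcl] at h1
    exact h1.eq isGenericPoint_closure

end Groth.Agent.Lib.Helper21
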