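import Groth.Prelude.Def_FDesc
import Groth.Agent.Lib.Helper51.GeomFibre
import Mathlib.AlgebraicGeometry.Geometrically.Integral
import Mathlib.AlgebraicGeometry.PullbackCarrier

/-!
# Geometric connectedness / reducedness / irreducibility / integrality and field extension
-/

set_option autoImplicit false
universe u
open AlgebraicGeometry CategoryTheory CategoryTheory.Limits

namespace Groth.Agent.Lib.Helper21

variable {k K : Type u} [Field k] [Field K] [Algebra k K] {X : Scheme.{u}}

theorem isPullback_bc (f : X ⟶ Spec (CommRingCat.of k)) :
    IsPullback (FBase.bcπ f K) (FBase.bcStr f K) f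
      (Spec.map (CommRingCat.ofHom (algebraMap k K))) :=
  IsPullback.of_hasPullback _ _

theorem geometricallyConnected_iff_bcStr (f : X ⟶ Spec (CommRingCat.of k)) :
    GeometricallyConnected f ↔ GeometricallyConnected (FBase.bcStr f K) := by
  constructor
  · intro h
    exact MorphismProperty.of_isPullback (P := @GeometricallyConnected) (isPullback_bc f) h
  · intro h
    rw [geometricallyConnected_iff] at h ⊢
    refine Groth.Agent.Lib.Helper51.geometrically_of_fieldExt (P := (ConnectedSpace ·)) ?_
      (CommRingCat.ofHom (algebraMap k K)) f _ _ (isPullback_bc f) h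
    intro Z' Z q _ _ _ h
    have : ConnectedSpace Z' := h
    exact (q.surjective).connectedSpace q.continuous

theorem geometricallyIrreducible_iff_bcStr (f : X ⟶ Spec (CommRingCat.of k)) :
    GeometricallyIrreducible f ↔ GeometricallyIrreducible (FBase.bcStr f K) := by
  constructor
  · intro h
    exact MorphismProperty.of_isPullback (P := @GeometricallyIrreducible) (isPullback_bc f) h
  · intro h
    rw [geometricallyIrreducible_iff] at h ⊢
    refine Groth.Agent.Lib.Helper51.geometrically_of_fieldExt (P := (IrreducibleSpace ·)) ?_
      (CommRingCat.ofHom (algebraMap k K)) f _ _ (isPullback_bc f) h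
    intro Z' Z q _ _ _ h
    have : IrreducibleSpace Z' := h
    exact (q.surjective).irreducibleSpace q.continuous

theorem geometricallyReduced_iff_bcStr (f : X ⟶ Spec (CommRingCat.of k)) :
    GeometricallyReduced f ↔ GeometricallyReduced (FBase.bcStr f K) := by
  constructor
  · intro h
    exact MorphismProperty.of_isPullback (P := @GeometricallyReduced) (isPullback_bc f) h
  · intro h
    rw [geometricallyReduced_iff] at h ⊢
    refine Groth.Agent.Lib.Helper51.geometrically_of_fieldExt (P := IsReduced) ?_
      (CommRingCat.ofHom (algebraMap k K)) f _ _ (isPullback_bc f) h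
    intro Z' Z q _ _ _ h
    have : IsReduced Z' := h
    exact Groth.Agent.Lib.Helper51.isReduced_of_flat_surjective q

theorem geometricallyIntegral_iff_bcStr (f : X ⟶ Spec (CommRingCat.of k)) :
    GeometricallyIntegral f ↔ GeometricallyIntegral (FBase.bcStr f K) := by
  have e : ∀ {X Y : Scheme.{u}} (g : X ⟶ Y),
      GeometricallyIntegral g ↔ GeometricallyReduced g ∧ GeometricallyIrreducible g := fun g ↦ by
    rw [GeometricallyIntegral.eq_geometricallyReduced_inf_geometricallyIrreducible]
    rfl
  rw [e, e, geometricallyReduced_iff_bcStr (K := K), geometricallyIrreducible_iff_bcStr (K := K)]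

end Groth.Agent.Lib.Helper21
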