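import Mathlib.AlgebraicGeometry.Geometrically.Basic
import Mathlib.AlgebraicGeometry.Geometrically.Irreducible
import Mathlib.AlgebraicGeometry.Geometrically.Connected
import Mathlib.AlgebraicGeometry.PullbackCarrier

/-!
# Geometric properties and surjective morphisms
-/

set_option autoImplicit false
universe u
open AlgebraicGeometry CategoryTheory CategoryTheory.Limits

namespace Groth.Agent.Lib.Helper21

/-- If an object property `P` of schemes passes to images under surjective morphisms, then so does
`geometrically P`. -/
theorem geometrically_of_surjective {P : ObjectProperty Scheme.{u}}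
    (hP : ∀ {X Y : Scheme.{u}} (h : X ⟶ Y) [Surjective h], P X → P Y)
    {X Y S : Scheme.{u}} (f : X ⟶ S) (g : Y ⟶ S) (h : X ⟶ Y) (w : h ≫ g = f) [Surjective h]
    (hf : geometrically P f) : geometrically P g := by
  intro K _ y Z fst snd hZ
  have : IsPullback (pullback.fst h fst) (pullback.snd h fst ≫ snd) f y := by
    rw [← w]
    exact (IsPullback.of_hasPullback h fst).paste_vert hZ
  exact hP (pullback.snd h fst) (hf y _ _ this)

theorem geometricallyIrreducible_of_surjective {X Y S : Scheme.{u}} (f : X ⟶ S) (g : Y ⟶ S)
    (h : X ⟶ Y) (w : h ≫ g = f) [Surjective h] [GeometricallyIrreducible f] :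
    GeometricallyIrreducible g := by
  constructor
  refine geometrically_of_surjective (P := (IrreducibleSpace ·)) ?_ f g h w
    GeometricallyIrreducible.geometrically_irreducibleSpace
  intro X Y h _ hX
  exact h.surjective.irreducibleSpace h.continuous

theorem geometricallyConnected_of_surjective {X Y S : Scheme.{u}} (f : X ⟶ S) (g : Y ⟶ S)
    (h : X ⟶ Y) (w : h ≫ g = f) [Surjective h] [GeometricallyConnected f] :
    GeometricallyConnected g := by
  constructor
  refine geometrically_of_surjective (P := (ConnectedSpace ·)) ?_ f g h w
    GeometricallyConnected.geometrically_connectedSpace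
  intro X Y h _ hX
  exact h.surjective.connectedSpace h.continuous

end Groth.Agent.Lib.Helper21
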