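import Mathlib.RingTheory.Smooth.Basic
import Mathlib.Algebra.Module.LinearMap.Defs
import Mathlib.Tactic.LinearCombination
import Mathlib.Tactic.Module

/-!
# The Hochschild extension attached to a symmetric 2-cocycle (helper21)

For an `A`-algebra `B`, a `B`-module `L` and an `A`-bilinear symmetric Hochschild 2-cocycle
`f : B × B → L`, the ring `B × L` with `(x, l)(y, m) = (xy, x m + y l + f x y)`.
-/

set_option autoImplicit false
universe u v

namespace Groth.Agent.Lib.Helper21

variable {A : Type u} {B : Type v} [CommRing A] [CommRing B] [Algebra A B] {L : Type v}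
  [AddCommGroup L] [Module B L] [Module A L]

/-- The carrier `B × L` of the Hochschild extension. -/
@[nolint unusedArguments]
def HochExt (f : B →ₗ[A] B →ₗ[A] L) (_hsymm : ∀ x y : B, f x y = f y x)
    (_hcoc : ∀ x y z : B, f (x * y) z + z • f x y = x • f y z + f x (y * z)) : Type v := B × L

namespace HochExt

variable (f : B →ₗ[A] B →ₗ[A] L) (hsymm : ∀ x y : B, f x y = f y x)
    (hcoc : ∀ x y z : B, f (x * y) z + z • f x y = x • f y z + f x (y * z))

instance : AddCommGroup (HochExt f hsymm hcoc) := inferInstanceAs (AddCommGroup (B × L))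

instance : Module A (HochExt f hsymm hcoc) := inferInstanceAs (Module A (B × L))

instance : Mul (HochExt f hsymm hcoc) :=
  ⟨fun p q => ((p.1 * q.1, p.1 • q.2 + q.1 • p.2 + f p.1 q.1) : B × L)⟩

instance : One (HochExt f hsymm hcoc) := ⟨((1, - f 1 1) : B × L)⟩

variable {f hsymm hcoc}

@[ext] lemma ext' {p q : HochExt f hsymm hcoc} (h1 : p.1 = q.1) (h2 : p.2 = q.2) : p = q :=
  Prod.ext h1 h2

@[simp] lemma mul_fst (p q : HochExt f hsymm hcoc) : (p * q).1 = p.1 * q.1 := rfl
@[simp] lemma mul_snd (p q : HochExt f hsymm hcoc) :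
    (p * q).2 = p.1 • q.2 + q.1 • p.2 + f p.1 q.1 := rfl
@[simp] lemma one_fst : (1 : HochExt f hsymm hcoc).1 = 1 := rfl
@[simp] lemma one_snd : (1 : HochExt f hsymm hcoc).2 = - f 1 1 := rfl
@[simp] lemma add_fst (p q : HochExt f hsymm hcoc) : (p + q).1 = p.1 + q.1 := rfl
@[simp] lemma add_snd (p q : HochExt f hsymm hcoc) : (p + q).2 = p.2 + q.2 := rfl
@[simp] lemma zero_fst : (0 : HochExt f hsymm hcoc).1 = 0 := rfl
@[simp] lemma zero_snd : (0 : HochExt f hsymm hcoc).2 = 0 := rfl
@[simp] lemma smul_fst (a : A) (p : HochExt f hsymm hcoc) : (a • p).1 = a • p.1 := rfl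
@[simp] lemma smul_snd (a : A) (p : HochExt f hsymm hcoc) : (a • p).2 = a • p.2 := rfl

include hcoc in
lemma f_one_left (y : B) : f 1 y = y • f 1 1 := by
  have := hcoc 1 1 y
  rw [one_mul, one_mul, one_smul] at this
  have h2 : y • f 1 1 = f 1 y := add_left_cancel this
  exact h2.symm

variable (f hsymm hcoc)

noncomputable instance : CommRing (HochExt f hsymm hcoc) :=
  { (inferInstance : AddCommGroup (HochExt f hsymm hcoc)) with
    mul := (· * ·)
    one := 1
    left_distrib := fun p q r => by
      ext
      · simp [mul_add]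
      · simp only [mul_snd, add_fst, add_snd, map_add, smul_add, add_smul]
        abel
    right_distrib := fun p q r => by
      ext
      · simp [add_mul]
      · simp only [mul_snd, add_fst, add_snd, map_add, smul_add, add_smul, LinearMap.add_apply]
        abel
    zero_mul := fun p => by
      ext <;> simp
    mul_zero := fun p => by
      ext <;> simp
    mul_assoc := fun p q r => by
      ext
      · simp [mul_assoc]
      · simp only [mul_snd, mul_fst]
        linear_combination (norm := module) hcoc p.1 q.1 r.1
    one_mul := fun p => by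
      ext
      · simp
      · simp only [mul_snd, one_fst, one_snd, one_smul]
        rw [f_one_left (hcoc := hcoc) p.1]
        module
    mul_one := fun p => by
      ext
      · simp
      · simp only [mul_snd, one_fst, one_snd, one_smul]
        rw [hsymm p.1 1, f_one_left (hcoc := hcoc) p.1]
        module
    mul_comm := fun p q => by
      ext
      · simp [mul_comm]
      · simp only [mul_snd]
        rw [hsymm p.1 q.1]
        abel }

variable [IsScalarTower A B L]

noncomputable instance : Algebra A (HochExt f hsymm hcoc) :=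
  Algebra.ofModule
    (fun a p q => by
      ext
      · simp
      · simp only [mul_snd, smul_fst, smul_snd, map_smul, LinearMap.smul_apply, smul_add]
        rw [smul_assoc, smul_comm q.1 a p.2])
    (fun a p q => by
      ext
      · simp
      · simp only [mul_snd, smul_fst, smul_snd, map_smul, smul_add]
        rw [smul_assoc, smul_comm p.1 a q.2])

/-- The projection `B × L → B` as an algebra map. -/
noncomputable def proj : HochExt f hsymm hcoc →ₐ[A] B :=
  AlgHom.ofLinearMap
    { toFun := fun p => p.1
      map_add' := fun _ _ => rfl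
      map_smul' := fun _ _ => rfl } rfl (fun _ _ => rfl)

@[simp] lemma proj_apply (p : HochExt f hsymm hcoc) : proj f hsymm hcoc p = p.1 := rfl

lemma proj_surjective : Function.Surjective (proj f hsymm hcoc) := fun b => ⟨((b, 0) : B × L), rfl⟩

lemma ker_proj_sq : RingHom.ker (proj f hsymm hcoc : HochExt f hsymm hcoc →+* B) ^ 2 = ⊥ := by
  rw [eq_bot_iff, pow_two, Ideal.mul_le]
  intro p hp q hq
  rw [RingHom.mem_ker] at hp hq
  have hp' : p.1 = 0 := hp
  have hq' : q.1 = 0 := hq
  rw [Ideal.mem_bot]
  ext
  · simp [hp']
  · simp [hp', hq']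

include hsymm hcoc in
/-- A formally smooth algebra: every symmetric Hochschild 2-cocycle is a coboundary. -/
theorem exists_coboundary [Algebra.FormallySmooth A B] :
    ∃ g : B →ₗ[A] L, ∀ x y : B, f x y = x • g y - g (x * y) + y • g x := by
  have hnil : IsNilpotent (RingHom.ker (proj f hsymm hcoc : HochExt f hsymm hcoc →+* B)) :=
    ⟨2, ker_proj_sq f hsymm hcoc⟩
  let s : B →ₐ[A] HochExt f hsymm hcoc :=
    Algebra.FormallySmooth.liftOfSurjective (AlgHom.id A B) (proj f hsymm hcoc)
      (proj_surjective f hsymm hcoc) hnil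
  have hs : ∀ b, (s b).1 = b := fun b =>
    Algebra.FormallySmooth.liftOfSurjective_apply (AlgHom.id A B) (proj f hsymm hcoc)
      (proj_surjective f hsymm hcoc) hnil b
  let g' : B →ₗ[A] L :=
    { toFun := fun b => (s b).2
      map_add' := fun x y => by rw [map_add]; rfl
      map_smul' := fun a x => by rw [map_smul]; rfl }
  refine ⟨-g', fun x y => ?_⟩
  have h1 : (s (x * y)).2 = (s x * s y).2 := by rw [map_mul]
  rw [mul_snd, hs, hs] at h1
  change f x y = x • -(s y).2 - -(s (x * y)).2 + y • -(s x).2
  rw [h1]
  module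

end HochExt

end Groth.Agent.Lib.Helper21
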