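import Mathlib.Algebra.Module.Torsion.Basic
import Mathlib.Algebra.Module.Projective
import Mathlib.RingTheory.Ideal.Operations
import Mathlib.LinearAlgebra.Quotient.Basic
import Mathlib.Algebra.Algebra.Basic
import Mathlib.RingTheory.Ideal.Quotient.Operations

/-!
# Correcting a left inverse modulo a smaller ideal (helper21)

`u : M → N` linear, `J' ≤ J` ideals, the cokernel of `u` modulo `J'` projective over `A / J'`.
A left inverse of `u` modulo `J` and some left inverse modulo `J'` give a left inverse modulo `J'`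
lifting the one modulo `J`.
-/

set_option autoImplicit false
universe u v w

namespace Groth.Agent.Lib.Helper21

open Submodule

variable {A : Type u} {M : Type v} {N : Type w} [CommRing A] [AddCommGroup M] [Module A M]
  [AddCommGroup N] [Module A N]

theorem exists_leftInverse_lift_step (J' J : Ideal A) (hJ : J' ≤ J) (u : M →ₗ[A] N)
    (hproj : Module.Projective (A ⧸ J')
      ((N ⧸ LinearMap.range u) ⧸ (J' • (⊤ : Submodule A (N ⧸ LinearMap.range u)))))
    (w : N →ₗ[A] M ⧸ (J • ⊤ : Submodule A M)) (hw : ∀ x : M, w (u x) = Submodule.Quotient.mk x)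
    (w' : N →ₗ[A] M ⧸ (J' • ⊤ : Submodule A M))
    (hw' : ∀ x : M, w' (u x) = Submodule.Quotient.mk x) :
    ∃ w'' : N →ₗ[A] M ⧸ (J' • ⊤ : Submodule A M),
      (∀ x : M, w'' (u x) = Submodule.Quotient.mk x) ∧
      ∀ y : N, Submodule.factor (Submodule.smul_mono hJ le_rfl) (w'' y) = w y := by
  let JM : Submodule A M := J • ⊤
  let J'M : Submodule A M := J' • ⊤
  have hle : J'M ≤ JM := Submodule.smul_mono hJ le_rfl
  let π : (M ⧸ J'M) →ₗ[A] (M ⧸ JM) := Submodule.factor hle
  have hπ : ∀ x : M, π (Submodule.Quotient.mk x) = Submodule.Quotient.mk x := fun x => rfl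
  have hπsurj : Function.Surjective π := Submodule.factor_surjective hle
  let C := N ⧸ LinearMap.range u
  let J'C : Submodule A C := J' • ⊤
  -- the difference
  let v : N →ₗ[A] (M ⧸ JM) := π.comp w' - w
  have hvu : LinearMap.range u ≤ LinearMap.ker v := by
    rintro _ ⟨x, rfl⟩
    rw [LinearMap.mem_ker]
    change π (w' (u x)) - w (u x) = 0
    rw [hw', hw, hπ, sub_self]
  let vC : C →ₗ[A] (M ⧸ JM) := Submodule.liftQ _ v hvu
  have hvC : ∀ y : N, vC (Submodule.Quotient.mk y) = v y := fun y => rfl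
  have hvJ : J'C ≤ LinearMap.ker vC := by
    change J' • ⊤ ≤ _
    rw [Submodule.smul_le]
    intro j hj c _
    rw [LinearMap.mem_ker, map_smul]
    obtain ⟨m, hm⟩ := Submodule.Quotient.mk_surjective _ (vC c)
    rw [← hm, ← Submodule.Quotient.mk_smul, Submodule.Quotient.mk_eq_zero]
    exact Submodule.smul_mem_smul (hJ hj) Submodule.mem_top
  let vt : (C ⧸ J'C) →ₗ[A] (M ⧸ JM) := Submodule.liftQ _ vC hvJ
  have hvt : ∀ c : C, vt (Submodule.Quotient.mk c) = vC c := fun c => rfl
  -- module structures over A ⧸ J'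
  have htors : Module.IsTorsionBySet A (M ⧸ JM) J' := by
    rw [Module.isTorsionBySet_quotient_iff]
    intro x r hr
    exact Submodule.smul_mem_smul (hJ hr) Submodule.mem_top
  letI : Module (A ⧸ J') (M ⧸ JM) := htors.module
  haveI : IsScalarTower A (A ⧸ J') (M ⧸ JM) := htors.isScalarTower
  have hsurjA : Function.Surjective (algebraMap A (A ⧸ J')) := Ideal.Quotient.mk_surjective
  obtain ⟨t', ht'⟩ := Module.projective_lifting_property
    (π.extendScalarsOfSurjective hsurjA) (vt.extendScalarsOfSurjective hsurjA) hπsurj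
  let t : (C ⧸ J'C) →ₗ[A] (M ⧸ J'M) := t'.restrictScalars A
  have ht : ∀ c, π (t c) = vt c := fun c => LinearMap.congr_fun ht' c
  let q : N →ₗ[A] (C ⧸ J'C) := J'C.mkQ.comp (LinearMap.range u).mkQ
  have hq : ∀ x : M, q (u x) = 0 := by
    intro x
    change Submodule.Quotient.mk (Submodule.Quotient.mk (u x)) = 0
    rw [(Submodule.Quotient.mk_eq_zero (LinearMap.range u)).2 ⟨x, rfl⟩]
    rfl
  refine ⟨w' - t.comp q, fun x => ?_, fun y => ?_⟩
  · change w' (u x) - t (q (u x)) = _
    rw [hq, map_zero, sub_zero, hw']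
  · change π (w' y - t (q y)) = w y
    rw [map_sub, ht]
    change π (w' y) - vt (Submodule.Quotient.mk (Submodule.Quotient.mk y)) = w y
    rw [hvt, hvC]
    change π (w' y) - (π (w' y) - w y) = w y
    abel

end Groth.Agent.Lib.Helper21
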