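import Mathlib.Algebra.Module.Torsion.Basic
import Mathlib.Algebra.Module.Projective
import Mathlib.RingTheory.Nilpotent.Basic
import Mathlib.RingTheory.Ideal.Operations
import Mathlib.LinearAlgebra.Quotient.Basic
import Mathlib.Algebra.Algebra.Basic
import Mathlib.RingTheory.Ideal.Quotient.Operations

/-!
# Lifting left inverses along a nilpotent thickening (helper21)

If `J ≤ 𝔏` are ideals of `A` with `𝔏 ^ n ≤ J`, `u : M → N` is linear, `N / J N` is projective over
`A / J` and `u` is left invertible modulo `𝔏`, then `u` is left invertible modulo `J`.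
-/

set_option autoImplicit false
universe u v w

namespace Groth.Agent.Lib.Helper21

open Submodule

variable {A : Type u} {M : Type v} {N : Type w} [CommRing A] [AddCommGroup M] [Module A M]
  [AddCommGroup N] [Module A N]

theorem exists_leftInverse_mod_of_nilpotent (J 𝔏 : Ideal A) (hJ𝔏 : J ≤ 𝔏) (n : ℕ)
    (hn : 𝔏 ^ n ≤ J) (u : M →ₗ[A] N)
    (hproj : Module.Projective (A ⧸ J) (N ⧸ (J • (⊤ : Submodule A N))))
    (w : N →ₗ[A] M ⧸ (𝔏 • ⊤ : Submodule A M)) (hw : ∀ x : M, w (u x) = Submodule.Quotient.mk x) :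
    ∃ w' : N →ₗ[A] M ⧸ (J • ⊤ : Submodule A M), ∀ x : M, w' (u x) = Submodule.Quotient.mk x := by
  -- notation
  let JM : Submodule A M := J • ⊤
  let JN : Submodule A N := J • ⊤
  let LM : Submodule A M := 𝔏 • ⊤
  have hJLM : JM ≤ LM := Submodule.smul_mono hJ𝔏 le_rfl
  -- π : M/JM → M/𝔏M
  let π : (M ⧸ JM) →ₗ[A] (M ⧸ LM) := Submodule.factor hJLM
  have hπ : ∀ x : M, π (Submodule.Quotient.mk x) = Submodule.Quotient.mk x := fun x => rfl
  have hπsurj : Function.Surjective π := Submodule.factor_surjective hJLM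
  -- w̃ : N/JN → M/𝔏M
  have hwJ : JN ≤ LinearMap.ker w := by
    change J • ⊤ ≤ _
    rw [Submodule.smul_le]
    intro j hj n₀ _
    rw [LinearMap.mem_ker, map_smul]
    obtain ⟨m, hm⟩ := Submodule.Quotient.mk_surjective _ (w n₀)
    rw [← hm, ← Submodule.Quotient.mk_smul, Submodule.Quotient.mk_eq_zero]
    exact Submodule.smul_mem_smul (hJ𝔏 hj) Submodule.mem_top
  let wt : (N ⧸ JN) →ₗ[A] (M ⧸ LM) := Submodule.liftQ JN w hwJ
  have hwt : ∀ y : N, wt (Submodule.Quotient.mk y) = w y := fun y => rfl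
  -- module structures over A ⧸ J
  have htors : Module.IsTorsionBySet A (M ⧸ LM) J := by
    rw [Module.isTorsionBySet_quotient_iff]
    intro x r hr
    exact Submodule.smul_mem_smul (hJ𝔏 hr) Submodule.mem_top
  letI : Module (A ⧸ J) (M ⧸ LM) := htors.module
  haveI : IsScalarTower A (A ⧸ J) (M ⧸ LM) := htors.isScalarTower
  have hsurjA : Function.Surjective (algebraMap A (A ⧸ J)) := Ideal.Quotient.mk_surjective
  obtain ⟨w₁', hw₁'⟩ := Module.projective_lifting_property
    (π.extendScalarsOfSurjective hsurjA) (wt.extendScalarsOfSurjective hsurjA) hπsurj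
  let w₁ : (N ⧸ JN) →ₗ[A] (M ⧸ JM) := w₁'.restrictScalars A
  have hw₁ : ∀ y, π (w₁ y) = wt y := fun y => LinearMap.congr_fun hw₁' y
  -- u' : M/JM → N/JN
  have huJ : JM ≤ JN.comap u := by
    rw [← Submodule.map_le_iff_le_comap]
    change (J • ⊤ : Submodule A M).map u ≤ J • ⊤
    rw [Submodule.map_smul'']
    exact Submodule.smul_mono le_rfl le_top
  let u' : (M ⧸ JM) →ₗ[A] (N ⧸ JN) := Submodule.mapQ JM JN u huJ
  have hu' : ∀ x : M, u' (Submodule.Quotient.mk x) = Submodule.Quotient.mk (u x) := fun x => rfl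
  let φ : Module.End A (M ⧸ JM) := w₁.comp u'
  have hφ : ∀ z, π (φ z) = π z := by
    intro z
    obtain ⟨x, rfl⟩ := Submodule.Quotient.mk_surjective _ z
    change π (w₁ (u' (Submodule.Quotient.mk x))) = _
    rw [hu', hw₁, hwt, hw, hπ]
  -- ψ = 1 - φ is nilpotent
  let ψ : Module.End A (M ⧸ JM) := 1 - φ
  have hkerπ : LinearMap.ker π = (𝔏 • ⊤ : Submodule A (M ⧸ JM)) := by
    have h1 : (𝔏 • ⊤ : Submodule A (M ⧸ JM)) = LM.map JM.mkQ := by
      change _ = (𝔏 • ⊤ : Submodule A M).map JM.mkQ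
      rw [Submodule.map_smul'', Submodule.map_top, Submodule.range_mkQ]
    rw [h1]
    ext z
    obtain ⟨x, rfl⟩ := Submodule.Quotient.mk_surjective _ z
    rw [LinearMap.mem_ker, hπ, Submodule.Quotient.mk_eq_zero]
    constructor
    · intro hx
      exact ⟨x, hx, rfl⟩
    · rintro ⟨x', hx', hxx'⟩
      have : x' - x ∈ JM := by
        rw [← Submodule.Quotient.mk_eq_zero, Submodule.Quotient.mk_sub]
        rw [Submodule.mkQ_apply] at hxx'
        rw [hxx', sub_self]
      have h2 : x = x' - (x' - x) := by abel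
      rw [h2]
      exact Submodule.sub_mem _ hx' (hJLM this)
  have hψrange : LinearMap.range ψ ≤ (𝔏 • ⊤ : Submodule A (M ⧸ JM)) := by
    rw [← hkerπ]
    rintro _ ⟨z, rfl⟩
    rw [LinearMap.mem_ker]
    change π (z - φ z) = 0
    rw [map_sub, hφ, sub_self]
  have hψpow : ∀ k : ℕ, LinearMap.range (ψ ^ k) ≤ (𝔏 ^ k • ⊤ : Submodule A (M ⧸ JM)) := by
    intro k
    induction k with
    | zero => simp
    | succ k ih =>
      rw [pow_succ', Module.End.mul_eq_comp, LinearMap.range_comp]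
      calc (LinearMap.range (ψ ^ k)).map ψ ≤ (𝔏 ^ k • ⊤ : Submodule A (M ⧸ JM)).map ψ :=
            Submodule.map_mono ih
        _ = 𝔏 ^ k • (⊤ : Submodule A (M ⧸ JM)).map ψ := Submodule.map_smul'' _ _ _
        _ ≤ 𝔏 ^ k • (𝔏 • ⊤ : Submodule A (M ⧸ JM)) := by
            apply Submodule.smul_mono le_rfl
            rw [Submodule.map_top]
            exact hψrange
        _ = 𝔏 ^ (k + 1) • ⊤ := by rw [← Submodule.mul_smul, pow_succ]
  have hJtop : (J • ⊤ : Submodule A (M ⧸ JM)) = ⊥ := by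
    have h1 : (J • ⊤ : Submodule A (M ⧸ JM)) = JM.map JM.mkQ := by
      change _ = (J • ⊤ : Submodule A M).map JM.mkQ
      rw [Submodule.map_smul'', Submodule.map_top, Submodule.range_mkQ]
    rw [h1, Submodule.mkQ_map_self]
  have hψnil : IsNilpotent ψ := by
    refine ⟨n, ?_⟩
    rw [← LinearMap.range_eq_bot, eq_bot_iff]
    calc LinearMap.range (ψ ^ n) ≤ (𝔏 ^ n • ⊤ : Submodule A (M ⧸ JM)) := hψpow n
      _ ≤ (J • ⊤ : Submodule A (M ⧸ JM)) := Submodule.smul_mono hn le_rfl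
      _ = ⊥ := hJtop
  have hunit : IsUnit φ := by
    have := hψnil.isUnit_one_sub
    have h2 : (1 : Module.End A (M ⧸ JM)) - ψ = φ := by
      change 1 - (1 - φ) = φ
      abel
    rwa [h2] at this
  obtain ⟨θ, hθ⟩ := hunit.exists_left_inv
  refine ⟨(θ.comp w₁).comp JN.mkQ, fun x => ?_⟩
  change θ (w₁ (Submodule.Quotient.mk (u x))) = _
  rw [← hu']
  change (θ * φ) (Submodule.Quotient.mk x) = _
  rw [hθ]
  rfl

end Groth.Agent.Lib.Helper21
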