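import Mathlib
import Groth.Agent.Lib.Helper21.QFDimOneSp
import Groth.Agent.H52.DimLocal2
import Groth.Agent.H52.Top2

set_option autoImplicit false
universe u
open CategoryTheory CategoryTheory.Limits AlgebraicGeometry Topology TopologicalSpace
open AlgSp

namespace Groth.Agent.Lib.Helper21.QFDense

open Groth.Agent.Lib.Helper21.QFDimOneSp Groth.Agent.H53 Groth.Agent.H53.CodimQF Groth.Agent.H52

/-- In a quasi-sober space, the closure of a point without proper generalizations is an
irreducible component. -/
lemma closure_singleton_mem_irreducibleComponents {T : Type*} [TopologicalSpace T] [QuasiSober T]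
    [T0Space T] (t : T) (h : ∀ t' : T, t' ⤳ t → t' = t) :
    closure {t} ∈ irreducibleComponents T := by
  refine ⟨isIrreducible_singleton.closure, fun Z hZ hle => ?_⟩
  have hZc : IsIrreducible (closure Z) := hZ.closure
  obtain ⟨ζ, hζ⟩ := QuasiSober.sober hZc isClosed_closure
  have htZ : t ∈ closure Z := subset_closure (hle (subset_closure rfl))
  have hspec : ζ ⤳ t := by
    rw [specializes_iff_mem_closure, hζ.def]; exact htZ
  have := h ζ hspec
  subst this
  rw [hζ.def]
  exact subset_closure

/-- In a locally Noetherian scheme, a dense open contains every point whose local ring has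
dimension zero. -/
theorem mem_of_dense_of_stalk_dim_zero {U : Scheme.{u}} [IsLocallyNoetherian U] (D : U.Opens)
    (hD : Dense (D : Set U)) (x : U) (hx : ringKrullDim (U.presheaf.stalk x) = 0) : x ∈ D := by
  rw [stalk_dim_zero_iff] at hx
  obtain ⟨_, ⟨(W : U.Opens), hW : IsAffineOpen W, rfl⟩, hxW, -⟩ :=
    U.isBasis_affineOpens.exists_subset_of_mem_open (Set.mem_univ x) isOpen_univ
  haveI : IsNoetherianRing Γ(U, W) := IsLocallyNoetherian.component_noetherian ⟨W, hW⟩
  haveI : NoetherianSpace ↥(W : Scheme.{u}) := noetherianSpace_of_isAffineOpen W hW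
  let x' : ↥(W : Scheme.{u}) := ⟨x, hxW⟩
  have hxx' : W.ι x' = x := rfl
  have hx' : ∀ t' : ↥(W : Scheme.{u}), t' ⤳ x' → t' = x' := by
    intro t' ht'
    have h1 : W.ι t' ⤳ W.ι x' := ht'.map W.ι.continuous
    exact W.ι.isOpenEmbedding.injective (hx _ h1)
  obtain ⟨o, ho, ⟨d', hd'⟩, hoZ⟩ :=
    NoetherianSpace.exists_isOpen_nonempty_subset_irreducibleComponent _
      (closure_singleton_mem_irreducibleComponents x' hx')
  have ho' : IsOpen (W.ι '' o) := W.ι.isOpenEmbedding.isOpenMap o ho
  obtain ⟨d, hdo, hdD⟩ := hD.inter_open_nonempty _ ho' ⟨W.ι d', d', hd', rfl⟩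
  obtain ⟨d'', hd''o, rfl⟩ := hdo
  have h1 : x' ⤳ d'' := specializes_iff_mem_closure.mpr (hoZ hd''o)
  have h2 : x ⤳ W.ι d'' := hxx' ▸ h1.map W.ι.continuous
  exact h2.mem_open D.2 hdD

variable {S : Scheme.{u}}

/-- If the quasi-finite points are dense, all codimension zero points are quasi-finite points
(locally Noetherian target, morphism locally of finite type). -/
theorem hasAtMor_qf_of_dense {X Y : Sp S} (hX : IsAlgSpace X) (hYs : IsAlgSpace Y) (f : X ⟶ Y)
    (hf : LocP @LocallyOfFiniteType f) (hY : IsLocNoethSp Y)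
    (h : Dense {x : Points X | HasAtMor QF f x}) (x : Points X)
    (hx : HasAt (fun U u => ringKrullDim ↥(U.presheaf.stalk u) = 0) X x) : HasAtMor QF f x := by
  obtain ⟨V, b, v, hbe, hbv⟩ := exists_chart_through_point hYs (Points.map f x)
  obtain ⟨U, a, k, u, hae, comm, rfl, hu, hlft⟩ := exists_chart_through hX f hf b hbe v x hbv.symm
  have hVn : IsLocallyNoetherian V.left := isLocallyNoetherian_of_etale_chart hY b hbe
  have hUn : IsLocallyNoetherian U.left := LocallyOfFiniteType.isLocallyNoetherian k.left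
  have h0 : ringKrullDim ↥(U.left.presheaf.stalk u) = 0 := stalk_dim_zero_of_hasAt a hae u hx
  have hD : Dense (k.left.quasiFiniteLocus : Set U.left) := by
    rw [dense_iff_inter_open]
    intro O hO hOne
    have hO' : IsOpen (Points.ofPt a '' O) := by
      have : Points.ofPt a = Points.map a ∘ Points.schemeHomeo U := by
        ext w; exact Points.ofPt_eq_map_ofScheme a w
      rw [this]
      exact ((isOpenMap_points_of_etale a hae).comp (Points.schemeHomeo U).isOpenMap) O hO
    obtain ⟨z, ⟨o, hoO, rfl⟩, hz⟩ := h.inter_open_nonempty _ hO' (hOne.image _)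
    exact ⟨o, hoO, quasiFiniteAt_of_hasAtMor f hf a b k hae hbe comm o hz⟩
  have hq : k.left.QuasiFiniteAt u := mem_of_dense_of_stalk_dim_zero k.left.quasiFiniteLocus hD u h0
  exact ⟨U, V, a, b, k, u, hae, hbe, comm, rfl, (qf_iff_quasiFiniteAt k.left u).2 hq⟩

end Groth.Agent.Lib.Helper21.QFDense
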