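import Mathlib

set_option autoImplicit false
set_option linter.style.haveILetI false
set_option linter.unusedSimpArgs false
universe u w
open TensorProduct

namespace Groth.Agent.Lib.Helper21.Tilde


section FF0
variable (A B N : Type*) [CommRing A] [CommRing B] [Algebra A B] [AddCommGroup N] [Module A N]

/-- `n ↦ 1 ⊗ n` -/
noncomputable abbrev eps : N →ₗ[A] B ⊗[A] N := TensorProduct.mk A B N 1

/-- `b ⊗ n ↦ b ⊗ (1 ⊗ n)` -/
noncomputable abbrev dOne : B ⊗[A] N →ₗ[A] B ⊗[A] (B ⊗[A] N) := (eps A B N).lTensor B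

/-- `x ↦ 1 ⊗ x` -/
noncomputable abbrev dTwo : B ⊗[A] N →ₗ[A] B ⊗[A] (B ⊗[A] N) := eps A B (B ⊗[A] N)

/-- contraction `b ⊗ (b' ⊗ x) ↦ bb' ⊗ x` -/
noncomputable def contr (X : Type*) [AddCommGroup X] [Module A X] :
    B ⊗[A] (B ⊗[A] X) →ₗ[A] B ⊗[A] X :=
  (LinearMap.rTensor X (LinearMap.mul' A B)) ∘ₗ (TensorProduct.assoc A B B X).symm.toLinearMap

@[simp] theorem contr_tmul (X : Type*) [AddCommGroup X] [Module A X] (b b' : B) (x : X) :
    contr A B X (b ⊗ₜ (b' ⊗ₜ x)) = (b * b') ⊗ₜ x := by
  simp [contr]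

theorem homotopy0 :
    contr A B (B ⊗[A] N) ∘ₗ (dOne A B N - dTwo A B N).lTensor B =
      (eps A B N).lTensor B ∘ₗ contr A B N - LinearMap.id := by
  ext b b' n
  simp [TensorProduct.tmul_sub]

variable [Module.FaithfullyFlat A B]

theorem ff_exact : Function.Exact (eps A B N) (dOne A B N - dTwo A B N) := by
  apply Module.FaithfullyFlat.lTensor_reflects_exact A B
  intro z
  constructor
  · intro hz
    have h := congrArg (fun f => f z) (homotopy0 A B N)
    simp only [LinearMap.comp_apply, LinearMap.sub_apply, LinearMap.id_apply] at h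
    rw [hz, map_zero] at h
    exact ⟨contr A B N z, by rw [← sub_eq_zero]; exact h.symm⟩
  · rintro ⟨y, rfl⟩
    induction y using TensorProduct.induction_on with
    | zero => simp
    | tmul b n => simp
    | add x y hx hy => rw [map_add, map_add, hx, hy, add_zero]

theorem ff_eps_injective : Function.Injective (eps A B N) :=
  Module.FaithfullyFlat.tensorProduct_mk_injective (A := A) (B := B) N

theorem ff_descent (x : B ⊗[A] N) (hx : dOne A B N x = dTwo A B N x) :
    ∃ n : N, (1 : B) ⊗ₜ[A] n = x := by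
  have h : (dOne A B N - dTwo A B N) x = 0 := by
    rw [LinearMap.sub_apply, hx, sub_self]
  obtain ⟨n, hn⟩ := (ff_exact A B N x).1 h
  exact ⟨n, hn⟩

end FF0

section Family
variable {A : Type*} [CommRing A] {ι : Type*} [Finite ι] (B : ι → Type*) [∀ k, CommRing (B k)]
  [∀ k, Algebra A (B k)]

theorem pi_faithfullyFlat [∀ k, Module.Flat A (B k)]
    (hsurj : ∀ p : PrimeSpectrum A, ∃ k, ∃ q : PrimeSpectrum (B k),
      q.comap (algebraMap A (B k)) = p) :
    Module.FaithfullyFlat A (∀ k, B k) := by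
  classical
  haveI : Fintype ι := Fintype.ofFinite ι
  haveI : Module.Flat A (∀ k, B k) :=
    Module.Flat.of_linearEquiv (DFinsupp.linearEquivFunOnFintype (R := A) (M := fun k => B k)).symm
  apply Module.FaithfullyFlat.of_comap_surjective
  intro p
  obtain ⟨k, q, hq⟩ := hsurj p
  refine ⟨q.comap (Pi.evalRingHom B k), ?_⟩
  rw [← hq]
  rfl

variable (X : Type*) [AddCommGroup X] [Module A X]

/-- the projection `∏ B → B k` as a linear map -/
abbrev prK (k : ι) : (∀ k, B k) →ₗ[A] B k := LinearMap.proj (R := A) (φ := fun k => B k) k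

theorem sum_single_proj [Fintype ι] [DecidableEq ι] :
    (∑ k, (LinearMap.single A (fun k => B k) k) ∘ₗ prK B k) = LinearMap.id := by
  ext b j
  simp [Finset.sum_apply, Pi.single_apply]

theorem pi_rTensor_eq_zero (y : (∀ k, B k) ⊗[A] X)
    (hy : ∀ k, (prK B k).rTensor X y = 0) : y = 0 := by
  classical
  haveI : Fintype ι := Fintype.ofFinite ι
  have h3 : (∑ k, ((LinearMap.single A (fun k => B k) k) ∘ₗ prK B k).rTensor X) =
      (LinearMap.rTensorHom X) (∑ k, (LinearMap.single A (fun k => B k) k) ∘ₗ prK B k) := by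
    rw [map_sum]; rfl
  have h2 : y = (∑ k, ((LinearMap.single A (fun k => B k) k) ∘ₗ prK B k).rTensor X) y := by
    rw [h3, sum_single_proj]
    simp
  rw [h2, LinearMap.sum_apply]
  apply Finset.sum_eq_zero
  intro k _
  rw [LinearMap.rTensor_comp, LinearMap.comp_apply, hy k, map_zero]

theorem pi_lTensor_rTensor_eq_zero (Y : Type*) [AddCommGroup Y] [Module A Y]
    (w : Y ⊗[A] ((∀ k, B k) ⊗[A] X))
    (hw : ∀ l, ((prK B l).rTensor X).lTensor Y w = 0) : w = 0 := by
  classical
  haveI : Fintype ι := Fintype.ofFinite ι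
  have h3 : (∑ k, (((LinearMap.single A (fun k => B k) k) ∘ₗ prK B k).rTensor X).lTensor Y) =
      (LinearMap.lTensorHom Y) ((LinearMap.rTensorHom X)
        (∑ k, (LinearMap.single A (fun k => B k) k) ∘ₗ prK B k)) := by
    rw [map_sum, map_sum]; rfl
  have h2 : w = (∑ k, (((LinearMap.single A (fun k => B k) k) ∘ₗ
      prK B k).rTensor X).lTensor Y) w := by
    rw [h3, sum_single_proj]
    simp
  rw [h2, LinearMap.sum_apply]
  apply Finset.sum_eq_zero
  intro k _
  rw [LinearMap.rTensor_comp, LinearMap.lTensor_comp, LinearMap.comp_apply, hw k, map_zero]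

variable (N : Type*) [AddCommGroup N] [Module A N]

theorem family_inj [∀ k, Module.Flat A (B k)]
    (hsurj : ∀ p : PrimeSpectrum A, ∃ k, ∃ q : PrimeSpectrum (B k),
      q.comap (algebraMap A (B k)) = p)
    (n : N) (hn : ∀ k, (1 : B k) ⊗ₜ[A] n = 0) : n = 0 := by
  haveI := pi_faithfullyFlat B hsurj
  apply ff_eps_injective A (∀ k, B k) N
  rw [map_zero]
  apply pi_rTensor_eq_zero B N
  intro k
  simpa using hn k

theorem family_glue [∀ k, Module.Flat A (B k)]
    (hsurj : ∀ p : PrimeSpectrum A, ∃ k, ∃ q : PrimeSpectrum (B k),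
      q.comap (algebraMap A (B k)) = p)
    (x : ∀ k, B k ⊗[A] N)
    (hx : ∀ k l, (eps A (B l) N).lTensor (B k) (x k) = eps A (B k) (B l ⊗[A] N) (x l)) :
    ∃ n : N, ∀ k, (1 : B k) ⊗ₜ[A] n = x k := by
  classical
  haveI : Fintype ι := Fintype.ofFinite ι
  haveI := pi_faithfullyFlat B hsurj
  let xx : (∀ k, B k) ⊗[A] N := ∑ k, (LinearMap.single A (fun k => B k) k).rTensor N (x k)
  have hxx : ∀ k, (prK B k).rTensor N xx = x k := by
    intro k
    simp only [xx, map_sum]
    rw [Finset.sum_eq_single k]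
    · rw [← LinearMap.comp_apply, ← LinearMap.rTensor_comp]
      have : prK B k ∘ₗ LinearMap.single A (fun k => B k) k = LinearMap.id := by
        ext b; simp
      rw [this]; simp
    · intro j _ hj
      rw [← LinearMap.comp_apply, ← LinearMap.rTensor_comp]
      have : prK B k ∘ₗ LinearMap.single A (fun k => B k) j = 0 := by
        ext b; simp [Pi.single_apply, hj]
      rw [this]; simp
    · intro h; exact absurd (Finset.mem_univ k) h
  have h1 : ∀ k l, (TensorProduct.map (prK B k) ((prK B l).rTensor N)) ∘ₗ dOne A (∀ k, B k) N =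
      (eps A (B l) N).lTensor (B k) ∘ₗ (prK B k).rTensor N := by
    intro k l
    ext b n
    simp
  have h2 : ∀ k l, (TensorProduct.map (prK B k) ((prK B l).rTensor N)) ∘ₗ dTwo A (∀ k, B k) N =
      eps A (B k) (B l ⊗[A] N) ∘ₗ (prK B l).rTensor N := by
    intro k l
    ext b n
    simp
  have key : dOne A (∀ k, B k) N xx = dTwo A (∀ k, B k) N xx := by
    rw [← sub_eq_zero]
    apply pi_rTensor_eq_zero B ((∀ k, B k) ⊗[A] N)
    intro k
    apply pi_lTensor_rTensor_eq_zero B N (B k)
    intro l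
    rw [← LinearMap.comp_apply, LinearMap.lTensor_comp_rTensor, map_sub, sub_eq_zero]
    have e1 := congrArg (fun f => f xx) (h1 k l)
    have e2 := congrArg (fun f => f xx) (h2 k l)
    simp only [LinearMap.comp_apply] at e1 e2
    rw [e1, e2, hxx, hxx]
    exact hx k l
  obtain ⟨n, hn⟩ := ff_descent A (∀ k, B k) N xx key
  refine ⟨n, fun k => ?_⟩
  rw [← hxx k, ← hn]
  simp

end Family



section
variable {A B C : Type*} [CommRing A] [CommRing B] [CommRing C]
variable {M N P : Type*} [AddCommGroup M] [Module A M] [AddCommGroup N] [Module B N]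
  [AddCommGroup P] [Module C P]

/-- The scalar tower instance for a module restricted along a ring hom. -/
theorem isScalarTower_compHom (φ : A →+* B) :
    letI : Algebra A B := φ.toAlgebra
    letI : Module A N := Module.compHom N φ
    IsScalarTower A B N :=
  letI : Algebra A B := φ.toAlgebra
  letI : Module A N := Module.compHom N φ
  ⟨fun a b n => by
    change (φ a * b) • n = φ a • (b • n)
    rw [mul_smul]⟩

/-- The `A`-linear map underlying a semilinear map, for the restricted module structure. -/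
def slLin (φ : A →+* B) (f : M →ₛₗ[φ] N) :
    letI : Module A N := Module.compHom N φ
    M →ₗ[A] N :=
  letI : Module A N := Module.compHom N φ
  { toFun := f, map_add' := f.map_add, map_smul' := fun a m => f.map_smulₛₗ a m }

/-- The semilinear map `f` exhibits `N` as the base change `B ⊗_A M`. -/
def SLBC (φ : A →+* B) (f : M →ₛₗ[φ] N) : Prop :=
  letI : Algebra A B := φ.toAlgebra
  letI : Module A N := Module.compHom N φ
  haveI : IsScalarTower A B N := isScalarTower_compHom φ
  IsBaseChange B (slLin φ f)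

theorem SLBC.comp {φ : A →+* B} {ψ : B →+* C} {χ : A →+* C} (hχ : ∀ a, χ a = ψ (φ a))
    {f : M →ₛₗ[φ] N} {g : N →ₛₗ[ψ] P} {k : M →ₛₗ[χ] P} (hk : ∀ m, k m = g (f m))
    (hf : SLBC φ f) (hg : SLBC ψ g) : SLBC χ k := by
  obtain rfl : χ = ψ.comp φ := RingHom.ext hχ
  letI : Algebra A B := φ.toAlgebra
  letI : Algebra B C := ψ.toAlgebra
  letI : Algebra A C := (ψ.comp φ).toAlgebra
  haveI : IsScalarTower A B C := IsScalarTower.of_algebraMap_eq fun _ => rfl
  letI : Module A N := Module.compHom N φ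
  letI : Module B P := Module.compHom P ψ
  letI : Module A P := Module.compHom P (ψ.comp φ)
  haveI : IsScalarTower A B N := isScalarTower_compHom φ
  haveI : IsScalarTower B C P := isScalarTower_compHom ψ
  haveI : IsScalarTower A C P := isScalarTower_compHom (ψ.comp φ)
  haveI : IsScalarTower A B P := ⟨fun a b p => by
    change (ψ (φ a * b)) • p = (ψ (φ a)) • ((ψ b) • p)
    rw [map_mul, mul_smul]⟩
  have h := IsBaseChange.comp (S := B) (T := C) (f := slLin φ f) hf (g := slLin ψ g) hg
  have e : (slLin ψ g).restrictScalars A ∘ₗ slLin φ f = slLin (ψ.comp φ) k :=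
    LinearMap.ext fun m => (hk m).symm
  rw [e] at h
  exact h

theorem SLBC.of_comp {φ : A →+* B} {ψ : B →+* C} {χ : A →+* C} (hχ : ∀ a, χ a = ψ (φ a))
    {f : M →ₛₗ[φ] N} {g : N →ₛₗ[ψ] P} {k : M →ₛₗ[χ] P} (hk : ∀ m, k m = g (f m))
    (hf : SLBC φ f) (hk' : SLBC χ k) : SLBC ψ g := by
  obtain rfl : χ = ψ.comp φ := RingHom.ext hχ
  letI : Algebra A B := φ.toAlgebra
  letI : Algebra B C := ψ.toAlgebra
  letI : Algebra A C := (ψ.comp φ).toAlgebra
  haveI : IsScalarTower A B C := IsScalarTower.of_algebraMap_eq fun _ => rfl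
  letI : Module A N := Module.compHom N φ
  letI : Module B P := Module.compHom P ψ
  letI : Module A P := Module.compHom P (ψ.comp φ)
  haveI : IsScalarTower A B N := isScalarTower_compHom φ
  haveI : IsScalarTower B C P := isScalarTower_compHom ψ
  haveI : IsScalarTower A C P := isScalarTower_compHom (ψ.comp φ)
  haveI : IsScalarTower A B P := ⟨fun a b p => by
    change (ψ (φ a * b)) • p = (ψ (φ a)) • ((ψ b) • p)
    rw [map_mul, mul_smul]⟩
  have e : (slLin ψ g).restrictScalars A ∘ₗ slLin φ f = slLin (ψ.comp φ) k :=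
    LinearMap.ext fun m => (hk m).symm
  refine IsBaseChange.of_comp (S := B) (T := C) (f := slLin φ f) hf (h := slLin ψ g) ?_
  rw [e]
  exact hk'

end



section
variable {A B : Type*} [CommRing A] [CommRing B]
variable {M N : Type*} [AddCommGroup M] [Module A M] [AddCommGroup N] [Module B N]

/-- The canonical `B`-linear equivalence `B ⊗_A M ≃ N` given by a base change. -/
theorem SLBC.exists_equiv {φ : A →+* B} {f : M →ₛₗ[φ] N} (hf : SLBC φ f) :
    letI : Algebra A B := φ.toAlgebra
    ∃ e : B ⊗[A] M ≃ₗ[B] N, ∀ (b : B) (m : M), e (b ⊗ₜ m) = b • f m := by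
  letI : Algebra A B := φ.toAlgebra
  letI : Module A N := Module.compHom N φ
  haveI : IsScalarTower A B N := isScalarTower_compHom φ
  exact ⟨IsBaseChange.equiv hf, fun b m => IsBaseChange.equiv_tmul hf b m⟩

theorem SLBC.of_equiv {φ : A →+* B} {f : M →ₛₗ[φ] N}
    (h : letI : Algebra A B := φ.toAlgebra
      ∃ e : B ⊗[A] M ≃ₗ[B] N, ∀ (m : M), e (1 ⊗ₜ m) = f m) : SLBC φ f := by
  letI : Algebra A B := φ.toAlgebra
  letI : Module A N := Module.compHom N φ
  haveI : IsScalarTower A B N := isScalarTower_compHom φ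
  obtain ⟨e, he⟩ := h
  exact IsBaseChange.of_equiv e he

/-- Transport of base change along linear bijections. -/
theorem SLBC.congr {M' N' : Type*} [AddCommGroup M'] [Module A M'] [AddCommGroup N'] [Module B N']
    {φ : A →+* B} {f : M →ₛₗ[φ] N} {f' : M' →ₛₗ[φ] N'}
    (eM : M →ₗ[A] M') (heM : Function.Bijective eM) (eN : N →ₗ[B] N') (heN : Function.Bijective eN)
    (comm : ∀ m, f' (eM m) = eN (f m)) : SLBC φ f ↔ SLBC φ f' := by
  letI : Algebra A B := φ.toAlgebra
  letI : Module A N := Module.compHom N φ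
  letI : Module A N' := Module.compHom N' φ
  haveI : IsScalarTower A B N := isScalarTower_compHom φ
  haveI : IsScalarTower A B N' := isScalarTower_compHom φ
  exact IsBaseChange.iff_of_equiv_comm (f := slLin φ f) (f' := slLin φ f')
    (LinearEquiv.ofBijective eM heM) (LinearEquiv.ofBijective eN heN)
    (LinearMap.ext fun m => comm m)

end



section
variable {A B : Type*} [CommRing A] [CommRing B]

/-- Base change characterised through bijectivity of the lifted map. -/
theorem slbc_iff_bijective {M N : Type*} [AddCommGroup M] [Module A M] [AddCommGroup N] [Module B N]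
    (φ : A →+* B) (f : M →ₛₗ[φ] N) :
    SLBC φ f ↔
      letI : Algebra A B := φ.toAlgebra
      letI : Module A N := Module.compHom N φ
      haveI : IsScalarTower A B N := isScalarTower_compHom φ
      Function.Bijective ((slLin φ f).liftBaseChange B) := by
  letI : Algebra A B := φ.toAlgebra
  letI : Module A N := Module.compHom N φ
  haveI : IsScalarTower A B N := isScalarTower_compHom φ
  constructor
  · intro h
    have : (slLin φ f).liftBaseChange B = (IsBaseChange.equiv h).toLinearMap := by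
      ext m
      simp [IsBaseChange.equiv_tmul]
    rw [this]
    exact (IsBaseChange.equiv h).bijective
  · intro h
    exact IsBaseChange.of_equiv (LinearEquiv.ofBijective _ h) (fun x => by simp)

/-- Flat base change preserves left exact sequences. -/
theorem SLBC.of_leftExact {φ : A →+* B} (hφ : φ.Flat)
    {M₀ M₁ M₂ N₀ N₁ N₂ : Type*}
    [AddCommGroup M₀] [Module A M₀] [AddCommGroup M₁] [Module A M₁] [AddCommGroup M₂] [Module A M₂]
    [AddCommGroup N₀] [Module B N₀] [AddCommGroup N₁] [Module B N₁] [AddCommGroup N₂] [Module B N₂]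
    (ι : M₀ →ₗ[A] M₁) (α : M₁ →ₗ[A] M₂) (hι : Function.Injective ι) (hex : Function.Exact ι α)
    (κ : N₀ →ₗ[B] N₁) (β : N₁ →ₗ[B] N₂) (hκ : Function.Injective κ) (hex' : Function.Exact κ β)
    (f₀ : M₀ →ₛₗ[φ] N₀) (f₁ : M₁ →ₛₗ[φ] N₁) (f₂ : M₂ →ₛₗ[φ] N₂)
    (c₀ : ∀ m, κ (f₀ m) = f₁ (ι m)) (c₁ : ∀ m, β (f₁ m) = f₂ (α m))
    (h₁ : SLBC φ f₁) (h₂ : SLBC φ f₂) : SLBC φ f₀ := by
  rw [slbc_iff_bijective] at h₁ h₂ ⊢
  letI : Algebra A B := φ.toAlgebra
  letI : Module A N₀ := Module.compHom N₀ φ
  letI : Module A N₁ := Module.compHom N₁ φ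
  letI : Module A N₂ := Module.compHom N₂ φ
  haveI : IsScalarTower A B N₀ := isScalarTower_compHom φ
  haveI : IsScalarTower A B N₁ := isScalarTower_compHom φ
  haveI : IsScalarTower A B N₂ := isScalarTower_compHom φ
  haveI : Module.Flat A B := hφ
  set e₀ := (slLin φ f₀).liftBaseChange B with he₀
  set e₁ := (slLin φ f₁).liftBaseChange B with he₁
  set e₂ := (slLin φ f₂).liftBaseChange B with he₂
  have sq0 : ∀ x, κ (e₀ x) = e₁ (ι.lTensor B x) := by
    intro x
    induction x using TensorProduct.induction_on with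
    | zero => simp
    | tmul b m =>
      simp only [he₀, he₁, LinearMap.liftBaseChange_tmul, LinearMap.lTensor_tmul, map_smul]
      congr 1
      exact c₀ m
    | add x y hx hy => simp only [map_add, hx, hy]
  have sq1 : ∀ x, β (e₁ x) = e₂ (α.lTensor B x) := by
    intro x
    induction x using TensorProduct.induction_on with
    | zero => simp
    | tmul b m =>
      simp only [he₁, he₂, LinearMap.liftBaseChange_tmul, LinearMap.lTensor_tmul, map_smul]
      congr 1
      exact c₁ m
    | add x y hx hy => simp only [map_add, hx, hy]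
  have hιB : Function.Injective (ι.lTensor B) :=
    Module.Flat.lTensor_preserves_injective_linearMap ι hι
  have hexB : Function.Exact (ι.lTensor B) (α.lTensor B) := Module.Flat.lTensor_exact B hex
  constructor
  · intro x y hxy
    apply hιB
    apply h₁.1
    rw [← sq0, ← sq0, hxy]
  · intro y
    obtain ⟨x, hx⟩ := h₁.2 (κ y)
    have h0 : α.lTensor B x = 0 := by
      apply h₂.1
      rw [← sq1, hx, map_zero]
      exact (hex' (κ y)).2 ⟨y, rfl⟩
    obtain ⟨x₀, rfl⟩ := (hexB x).1 h0
    refine ⟨x₀, ?_⟩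
    apply hκ
    rw [sq0, hx]

/-- Finite products of base changes are base changes. -/
theorem SLBC.pi {ι : Type*} [Finite ι] {φ : A →+* B} {M N : ι → Type*}
    [∀ k, AddCommGroup (M k)] [∀ k, Module A (M k)] [∀ k, AddCommGroup (N k)] [∀ k, Module B (N k)]
    (f : ∀ k, M k →ₛₗ[φ] N k) (h : ∀ k, SLBC φ (f k))
    (F : (∀ k, M k) →ₛₗ[φ] (∀ k, N k)) (hF : ∀ x k, F x k = f k (x k)) : SLBC φ F := by
  classical
  haveI : Fintype ι := Fintype.ofFinite ι
  apply SLBC.of_equiv
  letI : Algebra A B := φ.toAlgebra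
  have hk : ∀ k, ∃ e : B ⊗[A] M k ≃ₗ[B] N k, ∀ (b : B) (m : M k), e (b ⊗ₜ m) = b • f k m :=
    fun k => (h k).exists_equiv
  choose e he using hk
  refine ⟨(TensorProduct.piRight A B B M).trans (LinearEquiv.piCongrRight e), fun m => ?_⟩
  ext k
  simp [TensorProduct.piRight_apply, TensorProduct.piRightHom_tmul, he, hF]

end



section
variable {A B A' B' : Type*} [CommRing A] [CommRing B] [CommRing A'] [CommRing B']

/-- A ring hom `φ' : A' → B'` over `φ : A → B` (through `α : A → A'`, `β : B → B'`) as a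
semilinear map, `A'` being an `A`-module through `α` and `B'` a `B`-module through `β`. -/
def ringSL (φ : A →+* B) (α : A →+* A') (β : B →+* B') (φ' : A' →+* B')
    (h : ∀ a, β (φ a) = φ' (α a)) :
    letI : Module A A' := Module.compHom A' α
    letI : Module B B' := Module.compHom B' β
    A' →ₛₗ[φ] B' :=
  letI : Module A A' := Module.compHom A' α
  letI : Module B B' := Module.compHom B' β
  { toFun := φ'
    map_add' := map_add φ'
    map_smul' := fun a x => by
      change φ' (α a * x) = β (φ a) * φ' x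
      rw [map_mul, h] }

/-- The square `φ : A → B`, `α : A → A'`, `β : B → B'`, `φ' : A' → B'` is a pushout of
commutative rings: `B' = B ⊗_A A'`. -/
def PushoutSq (φ : A →+* B) (α : A →+* A') (β : B →+* B') (φ' : A' →+* B') : Prop :=
  ∃ h : ∀ a, β (φ a) = φ' (α a),
    letI : Module A A' := Module.compHom A' α
    letI : Module B B' := Module.compHom B' β
    SLBC φ (ringSL φ α β φ' h)

/-- Base change along the right edge of a pushout square is base change along the left edge. -/
theorem SLBC.of_pushoutSq {φ : A →+* B} {α : A →+* A'} {β : B →+* B'} {φ' : A' →+* B'}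
    (hsq : PushoutSq φ α β φ')
    {M N : Type*} [AddCommGroup M] [Module A' M] [AddCommGroup N] [Module B' N]
    {f : M →ₛₗ[φ'] N} (hf : SLBC φ' f)
    [Module A M] [Module B N] (hM : ∀ (a : A) (m : M), a • m = α a • m)
    (hN : ∀ (b : B) (n : N), b • n = β b • n)
    (f₀ : M →ₛₗ[φ] N) (hf₀ : ∀ m, f₀ m = f m) : SLBC φ f₀ := by
  obtain ⟨hcomm, hpo⟩ := hsq
  letI : Algebra A B := φ.toAlgebra
  letI : Algebra A A' := α.toAlgebra
  letI : Algebra B B' := β.toAlgebra
  letI : Algebra A' B' := φ'.toAlgebra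
  letI : Algebra A B' := (β.comp φ).toAlgebra
  haveI : IsScalarTower A B B' := IsScalarTower.of_algebraMap_eq fun _ => rfl
  haveI : IsScalarTower A A' B' := IsScalarTower.of_algebraMap_eq fun a => hcomm a
  haveI : IsScalarTower A A' M := ⟨fun a a' m => by
    rw [hM, Algebra.smul_def, mul_smul]; rfl⟩
  haveI : IsScalarTower B B' N := ⟨fun b b' n => by
    rw [hN, Algebra.smul_def, mul_smul]; rfl⟩
  letI : Module A N := Module.compHom N φ
  haveI : IsScalarTower A B N := isScalarTower_compHom φ
  letI : Module A' N := Module.compHom N φ'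
  haveI : IsScalarTower A' B' N := isScalarTower_compHom φ'
  haveI : Algebra.IsPushout A B A' B' := ⟨hpo⟩
  have hf' : IsBaseChange B' (slLin φ' f) := hf
  refine IsBaseChange.of_equiv
    ((Algebra.IsPushout.cancelBaseChange A B A' B' M).symm ≪≫ₗ (hf'.equiv.restrictScalars B))
    (fun m => ?_)
  simp only [LinearEquiv.trans_apply, Algebra.IsPushout.cancelBaseChange_symm_tmul, map_one,
    LinearEquiv.restrictScalars_apply, IsBaseChange.equiv_tmul, one_smul]
  exact (hf₀ m).symm

end



section
variable {A : Type*} [CommRing A] {N : Type*} [AddCommGroup N] [Module A N] {ι : Type*} [Finite ι]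
  {B : ι → Type*} [∀ k, CommRing (B k)] (φ : ∀ k, A →+* B k)
  {N' : ι → Type*} [∀ k, AddCommGroup (N' k)] [∀ k, Module (B k) (N' k)]
  (f : ∀ k, N →ₛₗ[φ k] N' k)

theorem SLBC.family_inj (hflat : ∀ k, (φ k).Flat)
    (hsurj : ∀ p : PrimeSpectrum A, ∃ k, ∃ q : PrimeSpectrum (B k), q.comap (φ k) = p)
    (hf : ∀ k, SLBC (φ k) (f k)) (n : N) (hn : ∀ k, f k n = 0) : n = 0 := by
  letI : ∀ k, Algebra A (B k) := fun k => (φ k).toAlgebra
  haveI : ∀ k, Module.Flat A (B k) := hflat
  apply Tilde.family_inj B N hsurj n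
  intro k
  obtain ⟨e, he⟩ := (hf k).exists_equiv
  apply e.injective
  rw [he, one_smul, hn k, map_zero]

theorem SLBC.family_glue (hflat : ∀ k, (φ k).Flat)
    (hsurj : ∀ p : PrimeSpectrum A, ∃ k, ∃ q : PrimeSpectrum (B k), q.comap (φ k) = p)
    (hf : ∀ k, SLBC (φ k) (f k))
    {C : ι → ι → Type*} [∀ k l, CommRing (C k l)]
    (p : ∀ k l, B k →+* C k l) (q : ∀ k l, B l →+* C k l)
    (hsq : ∀ k l, PushoutSq (φ k) (φ l) (p k l) (q k l))
    {N'' : ι → ι → Type*} [∀ k l, AddCommGroup (N'' k l)] [∀ k l, Module (C k l) (N'' k l)]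
    (u : ∀ k l, N' k →ₛₗ[p k l] N'' k l) (v : ∀ k l, N' l →ₛₗ[q k l] N'' k l)
    (hv : ∀ k l, SLBC (q k l) (v k l))
    (huv : ∀ k l n, u k l (f k n) = v k l (f l n))
    (x : ∀ k, N' k) (hx : ∀ k l, u k l (x k) = v k l (x l)) : ∃ n, ∀ k, f k n = x k := by
  letI : ∀ k, Algebra A (B k) := fun k => (φ k).toAlgebra
  haveI : ∀ k, Module.Flat A (B k) := hflat
  letI : ∀ k, Module A (N' k) := fun k => Module.compHom (N' k) (φ k)
  haveI : ∀ k, IsScalarTower A (B k) (N' k) := fun k => isScalarTower_compHom (φ k)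
  have hk : ∀ k, ∃ e : B k ⊗[A] N ≃ₗ[B k] N' k, ∀ (b : B k) (m : N), e (b ⊗ₜ m) = b • f k m :=
    fun k => (hf k).exists_equiv
  choose e he using hk
  have key : ∀ k l, (eps A (B l) N).lTensor (B k) ((e k).symm (x k)) =
      eps A (B k) (B l ⊗[A] N) ((e l).symm (x l)) := by
    intro k l
    letI : Module (B k) (N'' k l) := Module.compHom (N'' k l) (p k l)
    let v₀ : N' l →ₛₗ[φ k] N'' k l :=
      { toFun := v k l
        map_add' := map_add (v k l)
        map_smul' := fun a y => by
          change v k l (φ l a • y) = p k l (φ k a) • v k l y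
          rw [(v k l).map_smulₛₗ]
          obtain ⟨hc, -⟩ := hsq k l
          rw [hc] }
    have hv₀ : SLBC (φ k) v₀ :=
      SLBC.of_pushoutSq (hsq k l) (hv k l) (fun _ _ => rfl) (fun _ _ => rfl) v₀ (fun _ => rfl)
    obtain ⟨E, hE⟩ := hv₀.exists_equiv
    letI : Module A (N'' k l) := Module.compHom (N'' k l) (φ k)
    haveI : IsScalarTower A (B k) (N'' k l) := isScalarTower_compHom (φ k)
    let θ : B k ⊗[A] (B l ⊗[A] N) →ₗ[A] N'' k l :=
      (E.restrictScalars A).toLinearMap ∘ₗ ((e l).restrictScalars A).toLinearMap.lTensor (B k)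
    have hθ : Function.Injective θ := by
      have h1 : Function.Injective (((e l).restrictScalars A).toLinearMap.lTensor (B k)) :=
        (LinearEquiv.lTensor (B k) ((e l).restrictScalars A)).injective
      exact (E.restrictScalars A).injective.comp h1
    have t1 : ∀ y : B k ⊗[A] N, θ ((eps A (B l) N).lTensor (B k) y) = u k l (e k y) := by
      intro y
      induction y using TensorProduct.induction_on with
      | zero => simp
      | tmul b n =>
        simp only [θ, LinearMap.comp_apply, LinearMap.lTensor_tmul, LinearEquiv.coe_coe,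
          LinearEquiv.restrictScalars_apply, TensorProduct.mk_apply, he, hE, one_smul]
        rw [(u k l).map_smulₛₗ, huv]
        rfl
      | add y z hy hz => simp only [map_add, hy, hz]
    have t2 : ∀ y : B l ⊗[A] N, θ (eps A (B k) (B l ⊗[A] N) y) = v k l (e l y) := by
      intro y
      simp only [θ, LinearMap.comp_apply, TensorProduct.mk_apply, LinearMap.lTensor_tmul,
        LinearEquiv.coe_coe, LinearEquiv.restrictScalars_apply, hE, one_smul]
      rfl
    apply hθ
    rw [t1, t2, LinearEquiv.apply_symm_apply, LinearEquiv.apply_symm_apply]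
    exact hx k l
  obtain ⟨n, hn⟩ := Tilde.family_glue B N hsurj (fun k => (e k).symm (x k)) key
  refine ⟨n, fun k => ?_⟩
  have := congrArg (e k) (hn k)
  rw [LinearEquiv.apply_symm_apply, he, one_smul] at this
  exact this

end



section
variable {A B : Type w} [CommRing A] [CommRing B]
variable {M N : Type w} [AddCommGroup M] [Module A M] [AddCommGroup N] [Module B N]

/-- The universal property of base change, for semilinear maps. -/
theorem SLBC.exists_unique_lift {φ : A →+* B} {f : M →ₛₗ[φ] N} (hf : SLBC φ f)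
    {Q : Type*} [AddCommGroup Q] [Module B Q] (h : M →ₛₗ[φ] Q) :
    ∃! h' : N →ₗ[B] Q, ∀ m, h' (f m) = h m := by
  letI : Algebra A B := φ.toAlgebra
  letI : Module A N := Module.compHom N φ
  haveI : IsScalarTower A B N := isScalarTower_compHom φ
  letI : Module A Q := Module.compHom Q φ
  haveI : IsScalarTower A B Q := isScalarTower_compHom φ
  have hf' : IsBaseChange B (slLin φ f) := hf
  refine ⟨hf'.lift (slLin φ h), fun m => hf'.lift_eq (slLin φ h) m, fun g hg => ?_⟩
  apply hf'.algHom_ext'
  ext m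
  simp only [LinearMap.comp_apply, LinearMap.restrictScalars_apply]
  rw [hf'.lift_eq]
  exact hg m

theorem SLBC.of_exists_unique_lift {φ : A →+* B} {f : M →ₛₗ[φ] N}
    (H : ∀ (Q : Type w) [AddCommGroup Q] [Module B Q] (h : M →ₛₗ[φ] Q),
      ∃! h' : N →ₗ[B] Q, ∀ m, h' (f m) = h m) : SLBC φ f := by
  letI : Algebra A B := φ.toAlgebra
  letI : Module A N := Module.compHom N φ
  haveI : IsScalarTower A B N := isScalarTower_compHom φ
  apply IsBaseChange.of_lift_unique
  intro Q _ _ _ _ g
  letI : AddCommGroup Q := Module.addCommMonoidToAddCommGroup B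
  let h : M →ₛₗ[φ] Q :=
    { toFun := g
      map_add' := map_add g
      map_smul' := fun a m => by
        change g (a • m) = (algebraMap A B a) • g m
        rw [map_smul, algebraMap_smul] }
  obtain ⟨h', h1, h2⟩ := H Q h
  refine ⟨h', LinearMap.ext fun m => h1 m, fun g' hg' => h2 g' fun m => ?_⟩
  exact LinearMap.congr_fun hg' m

end



section
variable {A B : Type*} [CommRing A] [CommRing B]
variable {M N : Type*} [AddCommGroup M] [Module A M] [AddCommGroup N] [Module B N]

/-- A bijective semilinear map over a bijective ring hom is a base change. -/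
theorem SLBC.of_bijective {φ : A →+* B} (hφ : Function.Bijective φ) {f : M →ₛₗ[φ] N}
    (hf : Function.Bijective f) : SLBC φ f := by
  rw [slbc_iff_bijective]
  letI : Algebra A B := φ.toAlgebra
  letI : Module A N := Module.compHom N φ
  haveI : IsScalarTower A B N := isScalarTower_compHom φ
  let eφ : A ≃ₗ[A] B := LinearEquiv.ofBijective (Algebra.linearMap A B) hφ
  let ef : M ≃ₗ[A] N := LinearEquiv.ofBijective (slLin φ f) hf
  let E : B ⊗[A] M ≃ₗ[A] N :=
    (TensorProduct.congr eφ.symm (LinearEquiv.refl A M)).trans ((TensorProduct.lid A M).trans ef)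
  have hE : ∀ x, (slLin φ f).liftBaseChange B x = E x := by
    intro x
    induction x using TensorProduct.induction_on with
    | zero => simp
    | tmul b m =>
      obtain ⟨a, rfl⟩ := hφ.2 b
      have h1 : eφ.symm (φ a) = a := by
        apply eφ.injective
        rw [LinearEquiv.apply_symm_apply]
        rfl
      simp only [LinearMap.liftBaseChange_tmul, E, LinearEquiv.trans_apply,
        TensorProduct.congr_tmul, LinearEquiv.refl_apply, TensorProduct.lid_tmul, h1]
      rw [map_smul]
      rfl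
    | add x y hx hy => simp only [map_add, hx, hy]
  have : ⇑((slLin φ f).liftBaseChange B) = ⇑E := funext hE
  rw [this]
  exact E.bijective

end

section
variable {A B A₁ B₁ : Type*} [CommRing A] [CommRing B] [CommRing A₁] [CommRing B₁]
variable {M N M₁ N₁ : Type*} [AddCommGroup M] [Module A M] [AddCommGroup N] [Module B N]
  [AddCommGroup M₁] [Module A₁ M₁] [AddCommGroup N₁] [Module B₁ N₁]

/-- Transport of base change along isomorphisms of rings and modules. -/
theorem SLBC.transport {φ : A →+* B} {f : M →ₛₗ[φ] N} (hf : SLBC φ f)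
    {φ₁ : A₁ →+* B₁} (f₁ : M₁ →ₛₗ[φ₁] N₁)
    {eA : A →+* A₁} (heA : Function.Bijective eA) {eB : B →+* B₁} (heB : Function.Bijective eB)
    (eM : M →ₛₗ[eA] M₁) (heM : Function.Bijective eM) (eN : N →ₛₗ[eB] N₁)
    (heN : Function.Bijective eN) (hφ : ∀ a, φ₁ (eA a) = eB (φ a))
    (hfc : ∀ m, f₁ (eM m) = eN (f m)) : SLBC φ₁ f₁ := by
  let χ : A →+* B₁ := eB.comp φ
  let k : M →ₛₗ[χ] N₁ :=
    { toFun := fun m => eN (f m)
      map_add' := fun x y => by rw [map_add, map_add]
      map_smul' := fun a m => by rw [f.map_smulₛₗ, eN.map_smulₛₗ]; rfl }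
  have hk : SLBC χ k := SLBC.comp (fun _ => rfl) (fun _ => rfl) hf (SLBC.of_bijective heB heN)
  exact SLBC.of_comp (φ := eA) (ψ := φ₁) (χ := χ) (fun a => (hφ a).symm) (f := eM) (g := f₁)
    (k := k) (fun m => (hfc m).symm) (SLBC.of_bijective heA heM) hk

end

section
variable {A B A' B' : Type*} [CommRing A] [CommRing B] [CommRing A'] [CommRing B']
variable {A₁ B₁ A'₁ B'₁ : Type*} [CommRing A₁] [CommRing B₁] [CommRing A'₁] [CommRing B'₁]

/-- Transport of pushout squares of rings along ring isomorphisms. -/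
theorem PushoutSq.transport {φ : A →+* B} {α : A →+* A'} {β : B →+* B'} {φ' : A' →+* B'}
    (h : PushoutSq φ α β φ')
    {φ₁ : A₁ →+* B₁} {α₁ : A₁ →+* A'₁} {β₁ : B₁ →+* B'₁} {φ'₁ : A'₁ →+* B'₁}
    {eA : A →+* A₁} (heA : Function.Bijective eA) {eB : B →+* B₁} (heB : Function.Bijective eB)
    {eA' : A' →+* A'₁} (heA' : Function.Bijective eA') {eB' : B' →+* B'₁}
    (heB' : Function.Bijective eB')
    (hφ : ∀ a, φ₁ (eA a) = eB (φ a)) (hα : ∀ a, α₁ (eA a) = eA' (α a))
    (hβ : ∀ b, β₁ (eB b) = eB' (β b)) (hφ' : ∀ a, φ'₁ (eA' a) = eB' (φ' a)) :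
    PushoutSq φ₁ α₁ β₁ φ'₁ := by
  obtain ⟨hc, hsq⟩ := h
  have hc₁ : ∀ a, β₁ (φ₁ a) = φ'₁ (α₁ a) := by
    intro a
    obtain ⟨a, rfl⟩ := heA.2 a
    rw [hφ, hβ, hα, hφ', hc]
  refine ⟨hc₁, ?_⟩
  letI : Module A A' := Module.compHom A' α
  letI : Module B B' := Module.compHom B' β
  letI : Module A₁ A'₁ := Module.compHom A'₁ α₁
  letI : Module B₁ B'₁ := Module.compHom B'₁ β₁
  let eM : A' →ₛₗ[eA] A'₁ :=
    { toFun := eA'
      map_add' := map_add eA'
      map_smul' := fun a x => by
        change eA' (α a * x) = α₁ (eA a) * eA' x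
        rw [map_mul, hα] }
  let eN : B' →ₛₗ[eB] B'₁ :=
    { toFun := eB'
      map_add' := map_add eB'
      map_smul' := fun b x => by
        change eB' (β b * x) = β₁ (eB b) * eB' x
        rw [map_mul, hβ] }
  exact SLBC.transport hsq (ringSL φ₁ α₁ β₁ φ'₁ hc₁) heA heB eM heA' eN heB' hφ
    (fun a => hφ' a)

end


end Groth.Agent.Lib.Helper21.Tilde
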