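import Groth.Agent.Lib.Helper21.TildeAlg

set_option autoImplicit false
set_option linter.style.haveILetI false
set_option linter.unusedSimpArgs false
open TensorProduct

namespace Groth.Agent.Lib.Helper21.Tilde

section
variable {A B : Type*} [CommRing A] [CommRing B]

/-- Base change preserves right exact sequences. -/
theorem SLBC.of_rightExact {φ : A →+* B}
    {M₁ M₂ M₃ N₁ N₂ N₃ : Type*}
    [AddCommGroup M₁] [Module A M₁] [AddCommGroup M₂] [Module A M₂] [AddCommGroup M₃] [Module A M₃]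
    [AddCommGroup N₁] [Module B N₁] [AddCommGroup N₂] [Module B N₂] [AddCommGroup N₃] [Module B N₃]
    (α : M₁ →ₗ[A] M₂) (π : M₂ →ₗ[A] M₃) (hπ : Function.Surjective π) (hex : Function.Exact α π)
    (β : N₁ →ₗ[B] N₂) (ρ : N₂ →ₗ[B] N₃) (hρ : Function.Surjective ρ) (hex' : Function.Exact β ρ)
    (f₁ : M₁ →ₛₗ[φ] N₁) (f₂ : M₂ →ₛₗ[φ] N₂) (f₃ : M₃ →ₛₗ[φ] N₃)
    (c₁ : ∀ m, β (f₁ m) = f₂ (α m)) (c₂ : ∀ m, ρ (f₂ m) = f₃ (π m))
    (h₁ : SLBC φ f₁) (h₂ : SLBC φ f₂) : SLBC φ f₃ := by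
  rw [slbc_iff_bijective] at h₁ h₂ ⊢
  letI : Algebra A B := φ.toAlgebra
  letI : Module A N₁ := Module.compHom N₁ φ
  letI : Module A N₂ := Module.compHom N₂ φ
  letI : Module A N₃ := Module.compHom N₃ φ
  haveI : IsScalarTower A B N₁ := isScalarTower_compHom φ
  haveI : IsScalarTower A B N₂ := isScalarTower_compHom φ
  haveI : IsScalarTower A B N₃ := isScalarTower_compHom φ
  set e₁ := (slLin φ f₁).liftBaseChange B with he₁
  set e₂ := (slLin φ f₂).liftBaseChange B with he₂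
  set e₃ := (slLin φ f₃).liftBaseChange B with he₃
  have sq1 : ∀ x, β (e₁ x) = e₂ (α.lTensor B x) := by
    intro x
    induction x using TensorProduct.induction_on with
    | zero => simp
    | tmul b m =>
      simp only [he₁, he₂, LinearMap.liftBaseChange_tmul, LinearMap.lTensor_tmul, map_smul]
      congr 1
      exact c₁ m
    | add x y hx hy => simp only [map_add, hx, hy]
  have sq2 : ∀ x, ρ (e₂ x) = e₃ (π.lTensor B x) := by
    intro x
    induction x using TensorProduct.induction_on with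
    | zero => simp
    | tmul b m =>
      simp only [he₂, he₃, LinearMap.liftBaseChange_tmul, LinearMap.lTensor_tmul, map_smul]
      congr 1
      exact c₂ m
    | add x y hx hy => simp only [map_add, hx, hy]
  have hπB : Function.Surjective (π.lTensor B) := LinearMap.lTensor_surjective B hπ
  have hexB : Function.Exact (α.lTensor B) (π.lTensor B) := lTensor_exact B hex hπ
  constructor
  · intro z z' hzz'
    rw [← sub_eq_zero] at hzz' ⊢
    rw [← map_sub] at hzz'
    obtain ⟨x₂, hx₂⟩ := hπB (z - z')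
    rw [← hx₂, ← sq2] at hzz'
    obtain ⟨n₁, hn₁⟩ := (hex' _).1 hzz'
    obtain ⟨x₁, rfl⟩ := h₁.2 n₁
    rw [sq1] at hn₁
    have := h₂.1 hn₁
    rw [← hx₂, ← this]
    exact (hexB _).2 ⟨x₁, rfl⟩
  · intro y
    obtain ⟨n₂, rfl⟩ := hρ y
    obtain ⟨x₂, rfl⟩ := h₂.2 n₂
    exact ⟨π.lTensor B x₂, (sq2 x₂).symm⟩

end

end Groth.Agent.Lib.Helper21.Tilde
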