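import Groth.Agent.Lib.Helper21.TildeSite

set_option autoImplicit false
set_option linter.style.haveILetI false
set_option linter.unusedSimpArgs false
universe w v u
open CategoryTheory CategoryTheory.Limits Opposite

namespace Groth.Agent.Lib.Helper21.Tilde

section Colim1


variable {C : Type u} [Category.{v} C] {J : GrothendieckTopology C}
variable {R : Sheaf J RingCat.{w}} [CommSections R]

/-- Base change presheaves are stable under colimits of presheaves of modules. -/
theorem isBC_of_isColimit {K : Type*} [Category K] [HasColimitsOfShape K AddCommGrpCat.{w}]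
    (F : K ⥤ PresheafOfModules.{w} R.obj) (c : Cocone F) (hc : IsColimit c) {X Y : Cᵒᵖ}
    (g : X ⟶ Y) (hF : ∀ j, IsBC (F.obj j) g) : IsBC c.pt g := by
  have hX := isColimitOfPreserves (PresheafOfModules.evaluation R.obj X) hc
  have hY := isColimitOfPreserves (PresheafOfModules.evaluation R.obj Y) hc
  apply SLBC.of_exists_unique_lift
  intro Q _ _ h
  -- the components
  let hj : ∀ j, (F.obj j).obj X →ₛₗ[(R.obj.map g).hom] Q := fun j =>
    { toFun := fun x => h ((c.ι.app j).app X x)
      map_add' := fun x y => by rw [map_add, map_add]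
      map_smul' := fun a x => by rw [map_smul, h.map_smulₛₗ] }
  have hl : ∀ j, ∃! h' : (F.obj j).obj Y →ₗ[R.obj.obj Y] Q,
      ∀ m, h' ((F.obj j).restrictₛₗ g m) = hj j m := fun j => (hF j).exists_unique_lift (hj j)
  choose h' hh' huniq using hl
  let s : Cocone (F ⋙ PresheafOfModules.evaluation R.obj Y) :=
    { pt := ModuleCat.of (R.obj.obj Y) Q
      ι :=
        { app := fun j => ModuleCat.ofHom (h' j)
          naturality := fun j j' u => by
            simp only [Functor.const_obj_obj, Functor.const_obj_map, Category.comp_id]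
            ext x
            have := huniq j ((h' j').comp ((F.map u).app Y).hom) (fun m => by
              simp only [LinearMap.comp_apply, PresheafOfModules.restrictₛₗ_apply]
              rw [PresheafOfModules.naturality_apply]
              have := hh' j' ((F.map u).app X m)
              simp only [PresheafOfModules.restrictₛₗ_apply] at this
              rw [this]
              simp only [hj, LinearMap.coe_mk, AddHom.coe_mk]
              congr 1
              have hw := c.w u
              rw [← hw]
              rfl)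
            rw [← this]
            rfl } }
  let H : c.pt.obj Y →ₗ[R.obj.obj Y] Q := (hY.desc s).hom
  have fac : ∀ j (y : (F.obj j).obj Y), H ((c.ι.app j).app Y y) = h' j y := by
    intro j y
    have := hY.fac s j
    exact congrArg (fun f => f.hom y) this
  letI : Module (R.obj.obj X) Q := Module.compHom Q (R.obj.map g).hom
  refine ⟨H, ?_, ?_⟩
  · -- the lifting property
    let α' : c.pt.obj X ⟶ ModuleCat.of (R.obj.obj X) Q := ModuleCat.ofHom
      { toFun := fun m => H (c.pt.restrictₛₗ g m)
        map_add' := fun x y => by rw [map_add, map_add]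
        map_smul' := fun a x => by
          rw [(c.pt.restrictₛₗ g).map_smulₛₗ, map_smul]; rfl }
    let β' : c.pt.obj X ⟶ ModuleCat.of (R.obj.obj X) Q := ModuleCat.ofHom (slLin (R.obj.map g).hom h)
    have e : α' = β' := by
      apply hX.hom_ext
      intro j
      ext x
      change H (c.pt.map g ((c.ι.app j).app X x)) = h ((c.ι.app j).app X x)
      rw [← PresheafOfModules.naturality_apply, fac]
      exact hh' j x
    intro m
    exact congrArg (fun f => f.hom m) e
  · intro k hk
    have e : ModuleCat.ofHom k = hY.desc s := by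
      apply hY.uniq s
      intro j
      ext y
      change k ((c.ι.app j).app Y y) = h' j y
      have := huniq j (k.comp ((c.ι.app j).app Y).hom) (fun m => by
        simp only [LinearMap.comp_apply, PresheafOfModules.restrictₛₗ_apply]
        rw [PresheafOfModules.naturality_apply]
        exact hk _)
      rw [← this]
      rfl
    exact congrArg (fun f => f.hom) e


end Colim1

section Colim2


variable {C : Type u} [Category.{v} C] {J : GrothendieckTopology C}
variable {R : Sheaf J RingCat.{w}}
variable [HasWeakSheafify J AddCommGrpCat.{w}] [J.WEqualsLocallyBijective AddCommGrpCat.{w}]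

/-- A colimit of sheaves of modules receives a locally bijective map from the colimit of the
underlying presheaves of modules. -/
theorem exists_locallyBijective_of_isColimit {K : Type*} [Category K]
    [HasColimitsOfShape K AddCommGrpCat.{w}]
    (F : K ⥤ SheafOfModules.{w} R) (c : Cocone F) (hc : IsColimit c) :
    ∃ φ : colimit (F ⋙ SheafOfModules.forget R) ⟶ c.pt.val,
      (∀ (X : C) (x : (colimit (F ⋙ SheafOfModules.forget R)).obj (op X)), φ.app (op X) x = 0 →
        ∃ S ∈ J X, ∀ ⦃Y : C⦄ (f : Y ⟶ X), S f →
          (colimit (F ⋙ SheafOfModules.forget R)).map f.op x = 0) ∧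
      (∀ (X : C) (m : c.pt.val.obj (op X)),
        ∃ S ∈ J X, ∀ ⦃Y : C⦄ (f : Y ⟶ X), S f →
          ∃ x : (colimit (F ⋙ SheafOfModules.forget R)).obj (op Y),
            φ.app (op Y) x = c.pt.val.map f.op m) := by
  let a := PresheafOfModules.sheafification.{w} (𝟙 R.obj)
  let adj := PresheafOfModules.sheafificationAdjunction.{w} (𝟙 R.obj)
  let P₀ := colimit (F ⋙ SheafOfModules.forget R)
  let e : F ≅ (F ⋙ SheafOfModules.forget R) ⋙ a :=
    Functor.isoWhiskerLeft F (asIso adj.counit).symm
  have h1 : IsColimit (a.mapCocone (colimit.cocone (F ⋙ SheafOfModules.forget R))) :=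
    isColimitOfPreserves a (colimit.isColimit _)
  have h2 : IsColimit ((Cocone.precompose e.hom).obj
      (a.mapCocone (colimit.cocone (F ⋙ SheafOfModules.forget R)))) :=
    (IsColimit.precomposeHomEquiv e _).symm h1
  let ψ : a.obj P₀ ≅ c.pt := IsColimit.coconePointUniqueUpToIso h2 hc
  let φ : P₀ ⟶ c.pt.val := adj.homEquiv P₀ c.pt ψ.hom
  let ts := CategoryTheory.toSheafify J P₀.presheaf
  have key : ∀ (X : C) (x : P₀.obj (op X)),
      φ.app (op X) x = ψ.hom.val.app (op X) (ts.app (op X) x) := fun X x => rfl
  have hψ1 : ∀ (X : C) (t : (a.obj P₀).val.obj (op X)),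
      ψ.inv.val.app (op X) (ψ.hom.val.app (op X) t) = t := by
    intro X t
    have : ψ.hom ≫ ψ.inv = 𝟙 _ := ψ.hom_inv_id
    have h3 := congrArg (fun f => f.val.app (op X) t) this
    exact h3
  have hψ2 : ∀ (X : C) (m : c.pt.val.obj (op X)),
      ψ.hom.val.app (op X) (ψ.inv.val.app (op X) m) = m := by
    intro X m
    have : ψ.inv ≫ ψ.hom = 𝟙 _ := ψ.inv_hom_id
    have h3 := congrArg (fun f => f.val.app (op X) m) this
    exact h3
  refine ⟨φ, ?_, ?_⟩
  · intro X x hx
    have h0 : ts.app (op X) x = ts.app (op X) 0 := by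
      rw [map_zero]
      rw [key] at hx
      have := congrArg (ψ.inv.val.app (op X)) hx
      rw [hψ1, map_zero] at this
      exact this
    refine ⟨_, Presheaf.equalizerSieve_mem J ts x 0 h0, fun Y f hf => ?_⟩
    have : P₀.presheaf.map f.op x = P₀.presheaf.map f.op 0 := hf
    rw [map_zero] at this
    exact this
  · intro X m
    refine ⟨_, Presheaf.imageSieve_mem J ts (U := op X) (ψ.inv.val.app (op X) m), fun Y f hf => ?_⟩
    obtain ⟨x, hx⟩ := hf
    refine ⟨x, ?_⟩
    rw [key]
    have hx' : ts.app (op Y) x = (a.obj P₀).val.map f.op (ψ.inv.val.app (op X) m) := hx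
    rw [hx', PresheafOfModules.naturality_apply, hψ2]


end Colim2

section ThmA0


section
variable {A B : Type*} [CommRing A] [CommRing B]

theorem SLBC.self (φ : A →+* B) (f : A →ₛₗ[φ] B) (hf : ∀ a, f a = φ a) : SLBC φ f := by
  letI : Algebra A B := φ.toAlgebra
  have h := IsBaseChange.linearMap A B
  have e : slLin φ f = Algebra.linearMap A B := by
    ext
    simp only [slLin, LinearMap.coe_mk, AddHom.coe_mk, hf, Algebra.linearMap_apply, map_one]
  show IsBaseChange B (slLin φ f)
  rw [e]
  exact h

end

variable {C : Type u} [Category.{v} C] {J : GrothendieckTopology C}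
variable {R : Sheaf J RingCat.{w}} [CommSections R] (D : AffData J R)
variable [HasSheafify J AddCommGrpCat.{w}] [J.WEqualsLocallyBijective AddCommGrpCat.{w}]

/-- Colimits of sheaves of modules which are base change presheaves on affines are such. -/
theorem AffData.isBC_of_isColimit {K : Type*} [Category K] [HasColimitsOfShape K AddCommGrpCat.{w}]
    (F : K ⥤ SheafOfModules.{w} R) (c : Cocone F) (hc : IsColimit c)
    (hF : ∀ (j : K) ⦃E E' : C⦄ (g : E' ⟶ E), D.Aff E → D.Aff E' → IsBC (F.obj j).val g.op)
    ⦃E E' : C⦄ (g : E' ⟶ E) (hE : D.Aff E) (hE' : D.Aff E') : IsBC c.pt.val g.op := by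
  obtain ⟨φ, hinj, hsurj⟩ := exists_locallyBijective_of_isColimit F c hc
  refine D.isBC_of_locallyBijective (colimit (F ⋙ SheafOfModules.forget R)) c.pt φ ?_ hinj hsurj g
    hE hE'
  intro E₁ E₂ g' h₁ h₂
  exact Tilde.isBC_of_isColimit (F ⋙ SheafOfModules.forget R) (colimit.cocone _)
    (colimit.isColimit _) g'.op (fun j => hF j g' h₁ h₂)

omit [HasSheafify J AddCommGrpCat.{w}] [J.WEqualsLocallyBijective AddCommGrpCat.{w}] in
theorem isBC_unit {X Y : Cᵒᵖ} (f : X ⟶ Y) : IsBC (SheafOfModules.unit R).val f := by
  apply SLBC.self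
  intro a
  rfl

theorem AffData.isBC_free (I : Type w) ⦃E E' : C⦄ (g : E' ⟶ E) (hE : D.Aff E) (hE' : D.Aff E') :
    IsBC (SheafOfModules.free (R := R) I).val g.op :=
  D.isBC_of_isColimit (Discrete.functor fun _ : I => SheafOfModules.unit R)
    (SheafOfModules.freeCofan I) (SheafOfModules.isColimitFreeCofan I)
    (fun _ _ _ g' _ _ => isBC_unit g'.op) g hE hE'

/-- **Theorem A₀**: a sheaf of modules with a global presentation is a base change presheaf on
affine objects. -/
theorem AffData.isBC_of_presentation (N : SheafOfModules.{w} R) (P : N.Presentation)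
    ⦃E E' : C⦄ (g : E' ⟶ E) (hE : D.Aff E) (hE' : D.Aff E') : IsBC N.val g.op := by
  refine D.isBC_of_isColimit _ _ P.isColimit ?_ g hE hE'
  rintro (_ | _) E₁ E₂ g' h₁ h₂
  · exact D.isBC_free _ g' h₁ h₂
  · exact D.isBC_free _ g' h₁ h₂


end ThmA0

section Over1


variable {C : Type u} [Category.{v} C] {J : GrothendieckTopology C}
variable {R : Sheaf J RingCat.{w}} [CommSections R]

instance commSections_over (X : C) : CommSections (R.over X) :=
  ⟨fun Y a b => CommSections.comm (R := R) (op Y.unop.left) a b⟩

/-- The affine data induced on an over category. -/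
def AffData.over (D : AffData J R) (X : C) : AffData (J.over X) (R.over X) where
  Aff Y := D.Aff Y.left
  basis Y S hS := by
    rw [GrothendieckTopology.mem_over_iff]
    apply D.basis
    intro W f hW
    rw [Sieve.overEquiv_iff]
    exact hS _ hW
  flat E E' g hE hE' := D.flat g.left hE hE'
  pb W E V a b hW hE hV := by
    obtain ⟨P, p, q, hpb, hP, hsq⟩ := D.pb a.left b.left hW hE hV
    have hw : q ≫ V.hom = p ≫ W.hom := by
      rw [← Over.w a, ← Over.w b, ← Category.assoc, ← Category.assoc, hpb.w]
    refine ⟨Over.mk (p ≫ W.hom), Over.homMk p rfl, Over.homMk q hw, ?_, hP, hsq⟩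
    refine IsPullback.of_map (Over.forget X) ?_ hpb
    ext
    exact hpb.w
  cover E S hE hS := by
    rw [GrothendieckTopology.mem_over_iff] at hS
    obtain ⟨n, Y, g, hY, hg, hcov, hprime⟩ := D.cover _ hE hS
    refine ⟨n, fun k => Over.mk (g k ≫ E.hom), fun k => Over.homMk (g k) rfl, hY,
      fun k => (Sieve.overEquiv_iff _ _).1 (hg k), ?_, hprime⟩
    rw [GrothendieckTopology.mem_over_iff]
    refine J.superset_covering ?_ hcov
    rintro W f ⟨V, a, _, ⟨k⟩, rfl⟩
    rw [Sieve.overEquiv_iff]
    refine ⟨Over.mk (g k ≫ E.hom), Over.homMk a (by simp), Over.homMk (g k) rfl, ⟨k⟩, ?_⟩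
    ext
    simp


section Step1
variable [∀ X, HasSheafify (J.over X) AddCommGrpCat.{w}]
  [∀ X, (J.over X).WEqualsLocallyBijective AddCommGrpCat.{w}]

/-- Step 1: over an object where the module has a presentation, it is a base change presheaf
on affines. -/
theorem AffData.isBC_of_presentation_over (D : AffData J R) (M : SheafOfModules.{w} R) (X : C)
    (P : (M.over X).Presentation) ⦃E E' : C⦄ (g : E' ⟶ E) (h : E ⟶ X)
    (hE : D.Aff E) (hE' : D.Aff E') : IsBC M.val g.op := by
  have := (D.over X).isBC_of_presentation (M.over X) P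
    (E := Over.mk h) (E' := Over.mk (g ≫ h)) (Over.homMk g rfl) hE hE'
  exact this

end Step1


end Over1

end Groth.Agent.Lib.Helper21.Tilde
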