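import Groth.Agent.Lib.Helper21.TildeEtCoh
import Groth.Agent.H53.EtReduced
import Groth.Agent.H52.ZarAff

set_option autoImplicit false
set_option linter.style.haveILetI false
set_option linter.unusedSimpArgs false
set_option backward.isDefEq.respectTransparency false
universe u
open CategoryTheory CategoryTheory.Limits AlgebraicGeometry Opposite
open AlgSp

namespace Groth.Agent.Lib.Helper21.Tilde

variable {S : Scheme.{u}} {X : Sp S}

/-- A base change of the zero module is zero. -/
theorem SLBC.eq_zero_of_forall_eq_zero {A B : Type*} [CommRing A] [CommRing B] {M N : Type*}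
    [AddCommGroup M] [Module A M] [AddCommGroup N] [Module B N] {φ : A →+* B} {f : M →ₛₗ[φ] N}
    (hf : SLBC φ f) (h : ∀ m : M, m = 0) (n : N) : n = 0 := by
  have h1 : n ∈ Submodule.span B (Set.range f) := hf.span_range_eq_top ▸ Submodule.mem_top
  have h2 : Submodule.span B (Set.range f) = ⊥ := by
    rw [Submodule.span_eq_bot]
    rintro _ ⟨m, rfl⟩
    rw [h m, map_zero]
  rw [h2] at h1
  exact (Submodule.mem_bot B).1 h1

open Groth.Agent.Lib.Helper21.WeakAss in
/-- **Zero detection**: a quasi-coherent module vanishing on a family of affine objects which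
is jointly surjective on points is zero. -/
theorem IsBCEt.sect_eq_zero_of_cover {C : ModEt X} (hC : IsBCEt C) {ι : Type*} (E : ι → EtOver X)
    (hE : ∀ j, IsAffine (E j).obj.left.left)
    (hcov : ∀ x : Points X, ∃ j, ∃ u : (E j).obj.left.left, Points.ofPt (E j).obj.hom u = x)
    (hzero : ∀ j (c : C.val.obj (op (E j))), c = 0) (W : EtOver X) (c : C.val.obj (op W)) :
    c = 0 := by
  have hpt : ∀ w : W.obj.left.left, ∃ (Z : EtOver X) (a : Z ⟶ W),
      w ∈ Set.range a.hom.left.left ∧ C.val.map a.op c = 0 := by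
    intro w
    obtain ⟨j, u, hu⟩ := hcov (Points.ofPt W.obj.hom w)
    obtain ⟨z, hz1, -⟩ := Groth.Agent.H53.exists_point_prodObj' W (E j) w u hu.symm
    obtain ⟨_, ⟨A, hA, rfl⟩, hzA, -⟩ :=
      ((EtOver.prodObj W (E j)).obj.left.left.isBasis_affineOpens).exists_subset_of_mem_open
        (Set.mem_univ z) isOpen_univ
    let Z : EtOver X := openObj (EtOver.prodObj W (E j)) A
    have hZ : IsAffine Z.obj.left.left := hA
    let a : Z ⟶ W := openObjι (EtOver.prodObj W (E j)) A ≫ EtOver.prodFst W (E j)
    let b : Z ⟶ E j := openObjι (EtOver.prodObj W (E j)) A ≫ EtOver.prodSnd W (E j)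
    refine ⟨Z, a, ⟨⟨z, hzA⟩, hz1⟩, ?_⟩
    exact SLBC.eq_zero_of_forall_eq_zero (hC b (hE j) hZ) (hzero j) _
  choose Z a hw hz using hpt
  have hcovW : Sieve.ofArrows Z a ∈ etTop X W := ofArrows_mem_etTop Z a (fun w => ⟨w, hw w⟩)
  refine eq_of_locally_eq C _ hcovW c 0 ?_
  rintro T f ⟨T', s, _, ⟨w⟩, rfl⟩
  rw [map_zero, op_comp, PresheafOfModules.map_comp_apply, hz w, map_zero]


open Groth.Agent.Lib.Helper21.WeakAss in
/-- A quasi-compact space has a finite family of affine objects of its small etale site which is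
jointly surjective on points. -/
theorem exists_finite_affine_cover (hqc : IsQuasiCompactSp X) :
    ∃ (n : ℕ) (E : Fin n → EtOver X), (∀ j, IsAffine (E j).obj.left.left) ∧
      ∀ x : Points X, ∃ j, ∃ u : (E j).obj.left.left, Points.ofPt (E j).obj.hom u = x := by
  obtain ⟨U, p, hpe, hps, hU⟩ := hqc
  haveI : CompactSpace ↥U.left := hU
  let E₀ : EtOver X := EtOver.mk p hpe
  have hA : ∀ u : U.left, ∃ A : U.left.Opens, IsAffineOpen A ∧ u ∈ A := by
    intro u
    obtain ⟨_, ⟨A, hA, rfl⟩, huA, -⟩ :=
      (U.left.isBasis_affineOpens).exists_subset_of_mem_open (Set.mem_univ u) isOpen_univ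
    exact ⟨A, hA, huA⟩
  choose A hAaff hAmem using hA
  obtain ⟨t, ht⟩ := isCompact_univ.elim_finite_subcover (fun u => (A u : Set U.left))
    (fun u => (A u).2) (fun u _ => Set.mem_iUnion.2 ⟨u, hAmem u⟩)
  let e : Fin t.card ≃ t := t.equivFin.symm
  refine ⟨t.card, fun j => openObj E₀ (A (e j).1), fun j => hAaff (e j).1, fun x => ?_⟩
  obtain ⟨u₀, rfl⟩ := Groth.Agent.H53.surjective_ofPt_of_surjective p hps x
  have := ht (Set.mem_univ u₀)
  simp only [Set.mem_iUnion] at this
  obtain ⟨u', hu't, hu₀⟩ := this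
  refine ⟨e.symm ⟨u', hu't⟩, ?_⟩
  have hu₀' : u₀ ∈ A (e (e.symm ⟨u', hu't⟩)).1 := by
    rw [Equiv.apply_symm_apply]
    exact hu₀
  exact ⟨⟨u₀, hu₀'⟩, Groth.Agent.H52.ofPt_overOpenι_comp p _ ⟨u₀, hu₀'⟩⟩

open Groth.Agent.Lib.Helper21.WeakAss in
/-- **ACC**: on a quasi-compact locally Noetherian space, ascending chains of quasi-coherent
subobjects of a coherent module are stationary. -/
theorem acc_qcoh_subobjects (hqc : IsQuasiCompactSp X) (hN : IsLocNoethSp X) (M : ModEt X)
    [M.IsFinitePresentation] (N : ℕ →o Subobject M)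
    (hq : ∀ n, (Subobject.underlying.obj (N n)).IsQuasicoherent) :
    ∃ n, ∀ m, n ≤ m → N m = N n := by
  obtain ⟨r, E, hE, hcov⟩ := exists_finite_affine_cover hqc
  -- the chains of submodules of sections
  let P : ∀ j : Fin r, ℕ →o Submodule ((OEtRing X).obj.obj (op (E j))) (M.val.obj (op (E j))) :=
    fun j =>
      { toFun := fun n => LinearMap.range ((N n).arrow.val.app (op (E j))).hom
        monotone' := by
          intro n m hnm
          rintro _ ⟨x, rfl⟩
          refine ⟨((Subobject.ofLE (N n) (N m) (N.monotone hnm)).val.app (op (E j))).hom x, ?_⟩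
          have h := Subobject.ofLE_arrow (N.monotone hnm)
          have h2 := congrArg (fun f => f.val.app (op (E j)) x) h
          exact h2 }
  have hstab : ∀ j, ∃ n, ∀ m, n ≤ m → P j n = P j m := by
    intro j
    haveI := finite_sections_et M (E j) (hE j)
    haveI := isNoetherianRing_sections_et hN (E j) (hE j)
    haveI : IsNoetherian ((OEtRing X).obj.obj (op (E j))) (M.val.obj (op (E j))) :=
      isNoetherian_of_isNoetherianRing_of_finite _ _
    exact monotone_stabilizes_iff_noetherian.2 inferInstance (P j)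
  choose nj hnj using hstab
  refine ⟨Finset.univ.sup nj, fun m hm => ?_⟩
  have hle : N (Finset.univ.sup nj) ≤ N m := N.monotone hm
  refine le_antisymm ?_ hle
  set n := Finset.univ.sup nj with hn
  have hPeq : ∀ j, P j m = P j n := by
    intro j
    have h1 : nj j ≤ n := Finset.le_sup (Finset.mem_univ j)
    rw [← hnj j n h1, ← hnj j m (h1.trans hm)]
  let i := Subobject.ofLE (N n) (N m) hle
  have hi : i ≫ (N m).arrow = (N n).arrow := Subobject.ofLE_arrow hle
  haveI := hq n
  haveI := hq m
  have hBn : IsBCEt (Subobject.underlying.obj (N n)) := isBCEt_of_isQuasicoherent _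
  have hBm : IsBCEt (Subobject.underlying.obj (N m)) := isBCEt_of_isQuasicoherent _
  have hC : IsBCEt (cokernel i) := IsBCEt.cokernel i hBn hBm
  have hzero : ∀ j (c : (cokernel i).val.obj (op (E j))), c = 0 := by
    intro j c
    obtain ⟨x, rfl⟩ := IsBCEt.surjective_of_epi (cokernel.π i) hBm hC (E j) (hE j) c
    have hx : ((N m).arrow.val.app (op (E j))).hom x ∈ P j m := ⟨x, rfl⟩
    rw [hPeq j] at hx
    obtain ⟨x', hx'⟩ := hx
    have h2 : ((N m).arrow.val.app (op (E j))) ((i.val.app (op (E j))) x') =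
        ((N m).arrow.val.app (op (E j))) x := by
      have := congrArg (fun f => f.val.app (op (E j)) x') hi
      exact this.trans hx'
    have h3 : (i.val.app (op (E j))) x' = x := injective_of_mono_et (N m).arrow (E j) h2
    rw [← h3]
    have := congrArg (fun f => f.val.app (op (E j)) x') (cokernel.condition i)
    have h0 : (0 : Subobject.underlying.obj (N n) ⟶ cokernel i).val = 0 :=
      (SheafOfModules.forget _).map_zero _ _
    simp only [h0] at this
    exact this
  have hCz : IsZero (cokernel i) := by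
    rw [isZero_iff_forall_sect_eq_zero]
    intro W c
    exact hC.sect_eq_zero_of_cover E hE hcov hzero W c
  haveI : Epi i := Abelian.epi_of_cokernel_π_eq_zero i (hCz.eq_of_tgt _ _)
  haveI : IsIso i := isIso_of_mono_of_epi i
  exact Subobject.le_of_comm (inv i) (by rw [IsIso.inv_comp_eq, hi])

end Groth.Agent.Lib.Helper21.Tilde
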