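import Groth.Agent.Lib.Helper21.TildeFin0

set_option autoImplicit false
set_option linter.style.haveILetI false
set_option linter.unusedSimpArgs false
universe w v u
open CategoryTheory CategoryTheory.Limits Opposite TensorProduct

namespace Groth.Agent.Lib.Helper21.Tilde

variable {C : Type u} [Category.{v} C] {J : GrothendieckTopology C}
variable {R : Sheaf J RingCat.{w}} [CommSections R] (D : AffData J R)
variable [∀ X, HasSheafify (J.over X) AddCommGrpCat.{w}]
  [∀ X, (J.over X).WEqualsLocallyBijective AddCommGrpCat.{w}]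

/-- **Finiteness on affines**: a sheaf of modules of finite type which is a base change presheaf
on affines has finite modules of sections over affines. -/
theorem AffData.finite_sections_of_isFiniteType (M : SheafOfModules.{w} R) [M.IsFiniteType]
    (hM : ∀ ⦃E E' : C⦄ (g : E' ⟶ E), D.Aff E → D.Aff E' → IsBC M.val g.op)
    {E : C} (hE : D.Aff E) : Module.Finite (R.obj.obj (op E)) (M.val.obj (op E)) := by
  obtain ⟨σ, hσ⟩ := SheafOfModules.IsFiniteType.exists_localGeneratorsData M
  obtain ⟨n, Y, g, hY, hg, -, hsurj⟩ := D.cover _ hE (σ.coversTop E)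
  have hfac : ∀ k, ∃ i, Nonempty (Y k ⟶ σ.X i) := fun k =>
    (Sieve.mem_ofObjects_iff ..).1 (hg k)
  choose i h using hfac
  have hfin : ∀ k, Module.Finite (R.obj.obj (op (Y k))) (M.val.obj (op (Y k))) := by
    intro k
    obtain ⟨hk⟩ := h k
    let gen := σ.generators (i k)
    haveI : Finite gen.I := (hσ.isFiniteType (i k)).finite
    have hs := (D.over (σ.X (i k))).surjective_of_epi gen.π
      (fun _ _ g' h₁ h₂ => (D.over (σ.X (i k))).isBC_free gen.I g' h₁ h₂)
      (fun _ _ g' h₁ h₂ => hM g'.left h₁ h₂) (E := Over.mk hk) (hY k)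
    have hf := finite_free_sections (R := R.over (σ.X (i k))) gen.I (op (Over.mk hk))
    exact Module.Finite.of_surjective (gen.π.val.app (op (Over.mk hk))).hom hs
  exact SLBC.finite_of_family (fun k => (R.obj.map (g k).op).hom)
    (fun k => M.val.restrictₛₗ (g k).op) (fun k => D.flat (g k) hE (hY k)) hsurj
    (fun k => hM (g k) hE (hY k)) hfin


/-- **Theorem B, finite version**: a sheaf of modules which is a base change presheaf on affines,
with finite modules of sections over Noetherian rings on affines, is of finite presentation. -/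
theorem AffData.isFinitePresentation_of_isBC (M : SheafOfModules.{w} R)
    (hM : ∀ ⦃E E' : C⦄ (g : E' ⟶ E), D.Aff E → D.Aff E' → IsBC M.val g.op)
    (hfin : ∀ ⦃E : C⦄, D.Aff E → Module.Finite (R.obj.obj (op E)) (M.val.obj (op E)))
    (hnoeth : ∀ ⦃E : C⦄, D.Aff E → IsNoetherianRing (R.obj.obj (op E))) :
    M.IsFinitePresentation := by
  have key : ∀ E : {E : C // D.Aff E}, ∃ p : (M.over E.1).Presentation, p.IsFinite := by
    intro E
    have hM' : ∀ ⦃E₁ E₂ : Over E.1⦄ (g : E₂ ⟶ E₁), (D.over E.1).Aff E₁ → (D.over E.1).Aff E₂ →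
        IsBC (M.over E.1).val g.op := fun _ _ g h₁ h₂ => hM g.left h₁ h₂
    have hT : IsTerminal (Over.mk (𝟙 E.1)) := Over.mkIdTerminal
    have hTaff : (D.over E.1).Aff (Over.mk (𝟙 E.1)) := E.2
    haveI : Module.Finite (R.obj.obj (op E.1)) (M.val.obj (op E.1)) := hfin E.2
    haveI : IsNoetherianRing (R.obj.obj (op E.1)) := hnoeth E.2
    obtain ⟨n, s, hs⟩ := Module.Finite.exists_fin (R := R.obj.obj (op E.1))
      (M := M.val.obj (op E.1))
    let s₁ : ULift.{w} (Fin n) → (M.over E.1).val.obj (op (Over.mk (𝟙 E.1))) := fun i => s i.down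
    have hs₁ : Submodule.span ((R.over E.1).obj.obj (op (Over.mk (𝟙 E.1)))) (Set.range s₁) = ⊤ := by
      have : Set.range s₁ = Set.range s := by
        ext x
        constructor
        · rintro ⟨i, rfl⟩
          exact ⟨i.down, rfl⟩
        · rintro ⟨i, rfl⟩
          exact ⟨ULift.up i, rfl⟩
      rw [this]
      exact hs
    let σ := (D.over E.1).generatingSections (M.over E.1) hM' hT hTaff s₁ hs₁
    have hleft := sections_leftExact (kernel.ι σ.π) σ.π (kernel.condition _) (kernelIsKernel _)
      (op (Over.mk (𝟙 E.1)))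
    haveI : IsNoetherianRing ((R.over E.1).obj.obj (op (Over.mk (𝟙 E.1)))) := hnoeth E.2
    haveI hFfin : Module.Finite ((R.over E.1).obj.obj (op (Over.mk (𝟙 E.1))))
        ((SheafOfModules.free (R := R.over E.1) σ.I).val.obj (op (Over.mk (𝟙 E.1)))) :=
      finite_free_sections (R := R.over E.1) (ULift.{w} (Fin n)) (op (Over.mk (𝟙 E.1)))
    have hKfin : Module.Finite ((R.over E.1).obj.obj (op (Over.mk (𝟙 E.1))))
        ((kernel σ.π).val.obj (op (Over.mk (𝟙 E.1)))) :=
      Module.Finite.of_injective ((kernel.ι σ.π).val.app (op (Over.mk (𝟙 E.1)))).hom hleft.1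
    obtain ⟨n', s', hs'⟩ := Module.Finite.exists_fin
      (R := (R.over E.1).obj.obj (op (Over.mk (𝟙 E.1))))
      (M := (kernel σ.π).val.obj (op (Over.mk (𝟙 E.1))))
    let s₂ : ULift.{w} (Fin n') → (kernel σ.π).val.obj (op (Over.mk (𝟙 E.1))) := fun i => s' i.down
    have hs₂ : Submodule.span ((R.over E.1).obj.obj (op (Over.mk (𝟙 E.1)))) (Set.range s₂) = ⊤ := by
      have : Set.range s₂ = Set.range s' := by
        ext x
        constructor
        · rintro ⟨i, rfl⟩
          exact ⟨i.down, rfl⟩
        · rintro ⟨i, rfl⟩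
          exact ⟨ULift.up i, rfl⟩
      rw [this]
      exact hs'
    refine ⟨(D.over E.1).presentationOfSpan (M.over E.1) hM' hT hTaff s₁ hs₁ s₂ hs₂, ?_⟩
    exact
      { isFiniteType_generators := ⟨inferInstanceAs (Finite (ULift.{w} (Fin n)))⟩
        isFiniteType_relations := ⟨inferInstanceAs (Finite (ULift.{w} (Fin n')))⟩ }
  choose p hp using key
  exact ⟨⟨{ I := {E : C // D.Aff E}
            X := Subtype.val
            coversTop := fun W => D.basis W _ (fun V _ hV =>
              (Sieve.mem_ofObjects_iff ..).2 ⟨⟨V, hV⟩, ⟨𝟙 V⟩⟩)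
            presentation := p }, ⟨hp⟩⟩⟩

end Groth.Agent.Lib.Helper21.Tilde
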