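import Groth.Agent.Lib.Helper21.TildeQc
import Groth.Agent.Lib.Helper21.TildeAlg2
import Groth.Agent.Lib.Helper44.SheafModEpi

set_option autoImplicit false
set_option linter.style.haveILetI false
set_option linter.unusedSimpArgs false
universe w v u
open CategoryTheory CategoryTheory.Limits Opposite TensorProduct

namespace Groth.Agent.Lib.Helper21.Tilde

section Surj1


variable {C : Type u} [Category.{v} C] {J : GrothendieckTopology C}
variable {R : Sheaf J RingCat.{w}} [CommSections R] (D : AffData J R)
variable [HasWeakSheafify J AddCommGrpCat.{w}] [J.WEqualsLocallyBijective AddCommGrpCat.{w}]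

/-- **Surjectivity on affines**: an epimorphism between sheaves of modules which are base change
presheaves on affines is surjective on sections over affine objects. -/
theorem AffData.surjective_of_epi {F G : SheafOfModules.{w} R} (φ : F ⟶ G) [Epi φ]
    (hF : ∀ ⦃E E' : C⦄ (g : E' ⟶ E), D.Aff E → D.Aff E' → IsBC F.val g.op)
    (hG : ∀ ⦃E E' : C⦄ (g : E' ⟶ E), D.Aff E → D.Aff E' → IsBC G.val g.op)
    {E : C} (hE : D.Aff E) : Function.Surjective (φ.val.app (op E)) := by
  intro y
  obtain ⟨S, hS, hlift⟩ :=
    Groth.Agent.Lib.Helper44.sheafOfModules_epi_locally_surjective φ (op E) y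
  obtain ⟨n, Y, g, hY, hg, -, hsurj⟩ := D.cover S hE hS
  let Im : Submodule (R.obj.obj (op E)) (G.val.obj (op E)) := LinearMap.range (φ.val.app (op E)).hom
  let Imk : ∀ k, Submodule (R.obj.obj (op (Y k))) (G.val.obj (op (Y k))) := fun k =>
    LinearMap.range (φ.val.app (op (Y k))).hom
  have hle : ∀ k, Im ≤ (Imk k).comap (G.val.restrictₛₗ (g k).op) := by
    rintro k _ ⟨x, rfl⟩
    exact ⟨F.val.map (g k).op x, PresheafOfModules.naturality_apply φ.val (g k).op x⟩
  let q : ∀ k, (G.val.obj (op E) ⧸ Im) →ₛₗ[(R.obj.map (g k).op).hom] (G.val.obj (op (Y k)) ⧸ Imk k) :=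
    fun k => Submodule.mapQ Im (Imk k) (G.val.restrictₛₗ (g k).op) (hle k)
  have hq : ∀ k, SLBC (R.obj.map (g k).op).hom (q k) := by
    intro k
    refine SLBC.of_rightExact (φ.val.app (op E)).hom Im.mkQ (Submodule.mkQ_surjective _)
      (LinearMap.exact_map_mkQ_range _) (φ.val.app (op (Y k))).hom (Imk k).mkQ
      (Submodule.mkQ_surjective _) (LinearMap.exact_map_mkQ_range _)
      (F.val.restrictₛₗ (g k).op) (G.val.restrictₛₗ (g k).op) (q k) ?_ ?_
      (hF (g k) hE (hY k)) (hG (g k) hE (hY k))
    · intro m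
      exact PresheafOfModules.naturality_apply φ.val (g k).op m
    · intro m
      rfl
  have h0 : Im.mkQ y = 0 := by
    refine SLBC.family_inj (fun k => (R.obj.map (g k).op).hom) q
      (fun k => D.flat (g k) hE (hY k)) hsurj hq (Im.mkQ y) (fun k => ?_)
    obtain ⟨x, hx⟩ := hlift (g k) (hg k)
    change (Imk k).mkQ (G.val.map (g k).op y) = 0
    rw [Submodule.mkQ_apply, Submodule.Quotient.mk_eq_zero]
    exact ⟨x, hx⟩
  rw [Submodule.mkQ_apply, Submodule.Quotient.mk_eq_zero] at h0
  exact h0


end Surj1

section FinDesc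


section
variable {A : Type*} [CommRing A] {M : Type*} [AddCommGroup M] [Module A M] {ι : Type*} [Finite ι]
  {B : ι → Type*} [∀ k, CommRing (B k)] (φ : ∀ k, A →+* B k)
  {N : ι → Type*} [∀ k, AddCommGroup (N k)] [∀ k, Module (B k) (N k)]
  (f : ∀ k, M →ₛₗ[φ k] N k)

/-- Faithfully flat descent of finiteness of modules, for a finite jointly surjective flat
family. -/
theorem SLBC.finite_of_family (hflat : ∀ k, (φ k).Flat)
    (hsurj : ∀ p : PrimeSpectrum A, ∃ k, ∃ q : PrimeSpectrum (B k), q.comap (φ k) = p)
    (hf : ∀ k, SLBC (φ k) (f k)) (hfin : ∀ k, Module.Finite (B k) (N k)) : Module.Finite A M := by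
  classical
  haveI : Fintype ι := Fintype.ofFinite ι
  -- finite sets of elements of `M` generating each `N k`
  have hT : ∀ k, ∃ T : Finset M, Submodule.span (B k) ((f k) '' (T : Set M)) = ⊤ := by
    intro k
    obtain ⟨G, hG⟩ := (hfin k).fg_top
    have hspan := (hf k).span_range_eq_top
    have h1 : ∀ g ∈ G, ∃ T : Finset M, g ∈ Submodule.span (B k) ((f k) '' (T : Set M)) := by
      intro g _
      have hg : g ∈ Submodule.span (B k) (Set.range (f k)) := hspan ▸ Submodule.mem_top
      obtain ⟨T', hT', hgT'⟩ := Submodule.mem_span_finite_of_mem_span hg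
      choose! pre hpre using fun (x : N k) (hx : x ∈ Set.range (f k)) => hx
      refine ⟨T'.image pre, ?_⟩
      refine Submodule.span_mono ?_ hgT'
      intro x hx
      refine ⟨pre x, ?_, hpre x (hT' hx)⟩
      exact Finset.mem_coe.2 (Finset.mem_image_of_mem pre hx)
    choose! Tg hTg using h1
    refine ⟨G.biUnion Tg, ?_⟩
    rw [eq_top_iff, ← hG, Submodule.span_le]
    intro g hg
    refine Submodule.span_mono ?_ (hTg g hg)
    rintro _ ⟨m, hm, rfl⟩
    exact ⟨m, Finset.mem_coe.2 (Finset.mem_biUnion.2 ⟨g, hg, hm⟩), rfl⟩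
  choose Tk hTk using hT
  let T : Finset M := Finset.univ.biUnion Tk
  let α : (T → A) →ₗ[A] M := Fintype.linearCombination A (fun t : T => (t : M))
  let β : ∀ k, (T → B k) →ₗ[B k] N k := fun k =>
    Fintype.linearCombination (B k) (fun t : T => f k (t : M))
  let f₁ : ∀ k, (T → A) →ₛₗ[φ k] (T → B k) := fun k =>
    { toFun := fun x t => φ k (x t)
      map_add' := fun x y => by funext t; exact map_add _ _ _
      map_smul' := fun a x => by funext t; exact map_mul _ _ _ }
  have hf₁ : ∀ k, SLBC (φ k) (f₁ k) := by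
    intro k
    refine SLBC.pi (fun _ : T => (φ k).toSemilinearMap) (fun _ => ?_) (f₁ k) (fun _ _ => rfl)
    exact SLBC.self (φ k) _ (fun _ => rfl)
  have hβ : ∀ k, LinearMap.range (β k) = ⊤ := by
    intro k
    rw [eq_top_iff, ← hTk k, Submodule.span_le]
    rintro _ ⟨m, hm, rfl⟩
    have hmT : m ∈ T := Finset.mem_biUnion.2 ⟨k, Finset.mem_univ _, hm⟩
    refine ⟨Pi.single ⟨m, hmT⟩ 1, ?_⟩
    simp [β, Fintype.linearCombination_apply_single]
  let Im : Submodule A M := LinearMap.range α
  have hle : ∀ k, Im ≤ (LinearMap.range (β k)).comap (f k) := by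
    intro k x _
    rw [hβ k]
    exact Submodule.mem_top
  let q : ∀ k, (M ⧸ Im) →ₛₗ[φ k] (N k ⧸ LinearMap.range (β k)) := fun k =>
    Submodule.mapQ Im (LinearMap.range (β k)) (f k) (hle k)
  have hq : ∀ k, SLBC (φ k) (q k) := by
    intro k
    refine SLBC.of_rightExact α Im.mkQ (Submodule.mkQ_surjective _)
      (LinearMap.exact_map_mkQ_range _) (β k) (LinearMap.range (β k)).mkQ
      (Submodule.mkQ_surjective _) (LinearMap.exact_map_mkQ_range _)
      (f₁ k) (f k) (q k) ?_ ?_ (hf₁ k) (hf k)
    · intro x
      simp only [β, α, Fintype.linearCombination_apply, map_sum]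
      refine Finset.sum_congr rfl fun t _ => ?_
      rw [(f k).map_smulₛₗ]
      rfl
    · intro m
      rfl
  have htop : Im = ⊤ := by
    rw [eq_top_iff]
    rintro m -
    have h0 : Im.mkQ m = 0 := by
      refine SLBC.family_inj φ q hflat hsurj hq (Im.mkQ m) (fun k => ?_)
      change (LinearMap.range (β k)).mkQ (f k m) = 0
      rw [Submodule.mkQ_apply, Submodule.Quotient.mk_eq_zero, hβ k]
      exact Submodule.mem_top
    rw [Submodule.mkQ_apply, Submodule.Quotient.mk_eq_zero] at h0
    exact h0
  exact Module.Finite.of_surjective α (LinearMap.range_eq_top.1 htop)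

end


end FinDesc

section FreeFin


variable {C : Type u} [Category.{v} C] {J : GrothendieckTopology C}
variable {R : Sheaf J RingCat.{w}}
variable [HasWeakSheafify J AddCommGrpCat.{w}] [J.WEqualsLocallyBijective AddCommGrpCat.{w}]

/-- Sections of a finite free sheaf of modules form a finite module. -/
theorem finite_free_sections (I : Type w) [Finite I] (E : Cᵒᵖ) :
    Module.Finite (R.obj.obj E) ((SheafOfModules.free (R := R) I).val.obj E) := by
  classical
  let G' := SheafOfModules.evaluation R E
  haveI : G'.Additive := by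
    dsimp only [G', SheafOfModules.evaluation]
    infer_instance
  have hc : IsColimit (G'.mapCocone (SheafOfModules.freeCofan (R := R) I)) :=
    isColimitOfPreserves G' (SheafOfModules.isColimitFreeCofan I)
  let inj : ∀ i : I, (SheafOfModules.unit R).val.obj E →ₗ[R.obj.obj E]
      (SheafOfModules.free (R := R) I).val.obj E := fun i =>
    ((SheafOfModules.ιFree (R := R) i).val.app E).hom
  let N' : Submodule (R.obj.obj E) ((SheafOfModules.free (R := R) I).val.obj E) :=
    ⨆ i, LinearMap.range (inj i)
  have htop : N' = ⊤ := by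
    let a : G'.obj (SheafOfModules.free (R := R) I) ⟶
        ModuleCat.of (R.obj.obj E) ((SheafOfModules.free (R := R) I).val.obj E ⧸ N') :=
      ModuleCat.ofHom N'.mkQ
    have ha : a = 0 := by
      apply hc.hom_ext
      rintro ⟨i⟩
      apply ModuleCat.hom_ext
      apply LinearMap.ext
      intro x
      change N'.mkQ (inj i x) = 0
      rw [Submodule.mkQ_apply, Submodule.Quotient.mk_eq_zero]
      exact Submodule.mem_iSup_of_mem i ⟨x, rfl⟩
    rw [eq_top_iff]
    rintro y -
    have := congrArg (fun f => f.hom y) ha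
    change N'.mkQ y = 0 at this
    rw [Submodule.mkQ_apply, Submodule.Quotient.mk_eq_zero] at this
    exact this
  have hfg : N'.FG := by
    haveI : Fintype I := Fintype.ofFinite I
    apply Submodule.fg_iSup
    intro i
    have h1 : (⊤ : Submodule (R.obj.obj E) ((SheafOfModules.unit R).val.obj E)).FG := by
      let one : (SheafOfModules.unit R).val.obj E := (1 : R.obj.obj E)
      refine ⟨{one}, ?_⟩
      rw [eq_top_iff]
      rintro x -
      rw [Finset.coe_singleton, Submodule.mem_span_singleton]
      let x' : R.obj.obj E := x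
      exact ⟨x', mul_one x'⟩
    rw [← Submodule.map_top]
    exact h1.map _
  rw [htop] at hfg
  exact ⟨hfg⟩


end FreeFin

end Groth.Agent.Lib.Helper21.Tilde
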