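import Groth.Agent.Lib.Helper21.TildeGlue

set_option autoImplicit false
set_option linter.style.haveILetI false
set_option linter.unusedSimpArgs false
universe w v u
open CategoryTheory CategoryTheory.Limits Opposite TensorProduct

namespace Groth.Agent.Lib.Helper21.Tilde

section
variable {A B : Type*} [CommRing A] [CommRing B]
variable {M N : Type*} [AddCommGroup M] [Module A M] [AddCommGroup N] [Module B N]

/-- A base change is spanned by the image of the original module. -/
theorem SLBC.span_range_eq_top {φ : A →+* B} {f : M →ₛₗ[φ] N} (hf : SLBC φ f) :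
    Submodule.span B (Set.range f) = ⊤ := by
  letI : Algebra A B := φ.toAlgebra
  letI : Module A N := Module.compHom N φ
  haveI : IsScalarTower A B N := isScalarTower_compHom φ
  have hf' : IsBaseChange B (slLin φ f) := hf
  rw [eq_top_iff]
  rintro n -
  refine hf'.inductionOn n _ ?_ ?_ ?_ ?_
  · exact Submodule.zero_mem _
  · intro m
    exact Submodule.subset_span ⟨m, rfl⟩
  · intro b n hn
    exact Submodule.smul_mem _ b hn
  · intro n₁ n₂ h₁ h₂
    exact Submodule.add_mem _ h₁ h₂

end

variable {C : Type u} [Category.{v} C] {J : GrothendieckTopology C}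
variable {R : Sheaf J RingCat.{w}}

/-- The section of a sheaf of modules defined by an element over a terminal object. -/
noncomputable def sectionOfTerminal (M : SheafOfModules.{w} R) {T : C} (hT : IsTerminal T)
    (m : M.val.obj (op T)) : M.sections :=
  PresheafOfModules.sectionsMk (fun W => M.val.map (hT.from W.unop).op m) (by
    intro X Y f
    rw [← PresheafOfModules.map_comp_apply]
    have : (hT.from X.unop).op ≫ f = (hT.from Y.unop).op := by
      apply Quiver.Hom.unop_inj
      exact hT.hom_ext _ _
    rw [this])

theorem sectionOfTerminal_eval (M : SheafOfModules.{w} R) {T : C} (hT : IsTerminal T)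
    (m : M.val.obj (op T)) (W : C) :
    (sectionOfTerminal M hT m).1 (op W) = M.val.map (hT.from W).op m := rfl


section LemmaG
variable [CommSections R] (D : AffData J R)
variable [HasSheafify J AddCommGrpCat.{w}] [J.WEqualsLocallyBijective AddCommGrpCat.{w}]

/-- **Generation**: on a site with an affine terminal object, a sheaf of modules which is a base
change presheaf on affines is generated by any family of sections over the terminal object
spanning the module of sections there. -/
theorem AffData.epi_of_span_eq_top (M : SheafOfModules.{w} R)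
    (hM : ∀ ⦃E E' : C⦄ (g : E' ⟶ E), D.Aff E → D.Aff E' → IsBC M.val g.op)
    {T : C} (hT : IsTerminal T) (hTaff : D.Aff T) {I : Type w} (s : I → M.val.obj (op T))
    (hs : Submodule.span (R.obj.obj (op T)) (Set.range s) = ⊤) :
    Epi (M.freeHomEquiv.symm (fun i => sectionOfTerminal M hT (s i))) := by
  set π := M.freeHomEquiv.symm (fun i => sectionOfTerminal M hT (s i)) with hπ
  -- the image of `π` on affines
  have himg : ∀ (V : C), D.Aff V → ∀ y : M.val.obj (op V),
      ∃ x : (SheafOfModules.free (R := R) I).val.obj (op V), π.val.app (op V) x = y := by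
    intro V hV y
    let t : V ⟶ T := hT.from V
    have hBC := hM t hTaff hV
    let N' : Submodule (R.obj.obj (op V)) (M.val.obj (op V)) :=
      LinearMap.range (π.val.app (op V)).hom
    have h1 : ∀ i, M.val.map t.op (s i) ∈ N' := by
      intro i
      refine ⟨(SheafOfModules.freeSection (R := R) i).1 (op V), ?_⟩
      have := SheafOfModules.sectionsMap_freeHomEquiv_symm_freeSection
        (fun i => sectionOfTerminal M hT (s i)) i
      exact congrArg (fun σ : M.sections => σ.1 (op V)) this
    have h2 : ∀ m : M.val.obj (op T), M.val.map t.op m ∈ N' := by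
      intro m
      have hm : m ∈ Submodule.span (R.obj.obj (op T)) (Set.range s) := hs ▸ Submodule.mem_top
      induction hm using Submodule.span_induction with
      | mem x hx =>
        obtain ⟨i, rfl⟩ := hx
        exact h1 i
      | zero =>
        rw [map_zero]
        exact Submodule.zero_mem _
      | add x y _ _ hx hy =>
        rw [map_add]
        exact Submodule.add_mem _ hx hy
      | smul a x _ hx =>
        have : M.val.map t.op (a • x) = (R.obj.map t.op).hom a • M.val.map t.op x :=
          M.val.map_smul t.op a x
        rw [this]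
        exact Submodule.smul_mem _ _ hx
    have h3 : Submodule.span (R.obj.obj (op V)) (Set.range (M.val.restrictₛₗ t.op)) ≤ N' := by
      rw [Submodule.span_le]
      rintro _ ⟨m, rfl⟩
      exact h2 m
    have h4 : y ∈ N' := h3 (hBC.span_range_eq_top ▸ Submodule.mem_top)
    exact h4
  -- local surjectivity
  have hls : Presheaf.IsLocallySurjective J ((SheafOfModules.toSheaf R).map π).hom := by
    constructor
    intro U x
    apply D.basis
    intro V g hV
    obtain ⟨z, hz⟩ := himg V hV (M.val.map g.op x)
    exact ⟨z, hz⟩
  have : Sheaf.IsLocallySurjective ((SheafOfModules.toSheaf R).map π) := hls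
  have : Epi ((SheafOfModules.toSheaf R).map π) := inferInstance
  exact (SheafOfModules.toSheaf R).epi_of_epi_map this

end LemmaG


section Ker1


variable {C : Type u} [Category.{v} C] {J : GrothendieckTopology C}
variable {R : Sheaf J RingCat.{w}}

/-- Sections of a kernel in sheaves of modules form a left exact sequence. -/
theorem sections_leftExact {K F G : SheafOfModules.{w} R} (ι : K ⟶ F) (φ : F ⟶ G)
    (hw : ι ≫ φ = 0) (h : IsLimit (KernelFork.ofι ι hw)) (E : Cᵒᵖ) :
    Function.Injective (ι.val.app E) ∧ Function.Exact (ι.val.app E) (φ.val.app E) := by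
  let G' := SheafOfModules.evaluation R E
  haveI : G'.Additive := by
    dsimp only [G', SheafOfModules.evaluation]
    infer_instance
  have hw' : G'.map ι ≫ G'.map φ = 0 := by rw [← G'.map_comp, hw, G'.map_zero]
  have h' : IsLimit (KernelFork.ofι (G'.map ι) hw') := KernelFork.mapIsLimit _ h G'
  have hmono : Mono (G'.map ι) := mono_of_isLimit_fork h'
  have hex : (ShortComplex.mk (G'.map ι) (G'.map φ) hw').Exact :=
    ShortComplex.exact_of_f_is_kernel _ h'
  constructor
  · exact (ModuleCat.mono_iff_injective (G'.map ι)).1 hmono
  · exact (ShortComplex.ShortExact.moduleCat_exact_iff_function_exact _).1 hex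

section
variable [CommSections R] (D : AffData J R)

/-- **Kernels**: the kernel of a morphism between sheaves of modules which are base change
presheaves on affines is a base change presheaf on affines. -/
theorem AffData.isBC_of_isKernel {K F G : SheafOfModules.{w} R} (ι : K ⟶ F) (φ : F ⟶ G)
    (hw : ι ≫ φ = 0) (h : IsLimit (KernelFork.ofι ι hw))
    (hF : ∀ ⦃E E' : C⦄ (g : E' ⟶ E), D.Aff E → D.Aff E' → IsBC F.val g.op)
    (hG : ∀ ⦃E E' : C⦄ (g : E' ⟶ E), D.Aff E → D.Aff E' → IsBC G.val g.op)
    ⦃E E' : C⦄ (g : E' ⟶ E) (hE : D.Aff E) (hE' : D.Aff E') : IsBC K.val g.op := by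
  obtain ⟨h1, h2⟩ := sections_leftExact ι φ hw h (op E)
  obtain ⟨h1', h2'⟩ := sections_leftExact ι φ hw h (op E')
  refine SLBC.of_leftExact (D.flat g hE hE') (ι.val.app (op E)).hom (φ.val.app (op E)).hom h1 h2
    (ι.val.app (op E')).hom (φ.val.app (op E')).hom h1' h2'
    (K.val.restrictₛₗ g.op) (F.val.restrictₛₗ g.op) (G.val.restrictₛₗ g.op) ?_ ?_
    (hF g hE hE') (hG g hE hE')
  · intro m
    exact PresheafOfModules.naturality_apply ι.val g.op m
  · intro m
    exact PresheafOfModules.naturality_apply φ.val g.op m

end


end Ker1

end Groth.Agent.Lib.Helper21.Tilde
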