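import Groth.Agent.Lib.Helper21.TildeColim

set_option autoImplicit false
set_option linter.style.haveILetI false
set_option linter.unusedSimpArgs false
universe w v u
open CategoryTheory CategoryTheory.Limits Opposite

namespace Groth.Agent.Lib.Helper21.Tilde
section Glue1


variable {C : Type u} [Category.{v} C] {J : GrothendieckTopology C}
variable {R : Sheaf J RingCat.{w}}

/-- Gluing sections of a sheaf of modules along a covering family. -/
theorem exists_glue (M : SheafOfModules.{w} R) {V : C} {ι : Type*} (P : ι → C)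
    (p : ∀ k, P k ⟶ V) (hcov : Sieve.ofArrows P p ∈ J V) (y : ∀ k, M.val.obj (op (P k)))
    (hy : ∀ (k l : ι) (T : C) (s : T ⟶ P k) (t : T ⟶ P l), s ≫ p k = t ≫ p l →
      M.val.map s.op (y k) = M.val.map t.op (y l)) :
    ∃ z : M.val.obj (op V), ∀ k, M.val.map (p k).op z = y k := by
  let S : J.Cover V := ⟨_, hcov⟩
  have hfac : ∀ I : S.Arrow, ∃ (k : ι) (s : I.Y ⟶ P k), s ≫ p k = I.f := by
    intro I
    obtain ⟨Z, a, b, ⟨k⟩, hab⟩ := I.hf
    exact ⟨k, a, hab⟩
  choose kk ss hss using hfac
  let x : ∀ I : S.Arrow, AddCommGrpCat.of (ULift.{w} ℤ) ⟶ M.val.presheaf.obj (op I.Y) :=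
    fun I => pickHom (M.val.presheaf.obj (op I.Y)) (M.val.map (ss I).op (y (kk I)))
  have hx : ∀ ⦃I₁ I₂ : S.Arrow⦄ (r : I₁.Relation I₂),
      x I₁ ≫ M.val.presheaf.map r.g₁.op = x I₂ ≫ M.val.presheaf.map r.g₂.op := by
    intro I₁ I₂ r
    simp only [x]
    rw [pickHom_comp, pickHom_comp]
    congr 1
    change M.val.map r.g₁.op (M.val.map (ss I₁).op (y (kk I₁))) =
      M.val.map r.g₂.op (M.val.map (ss I₂).op (y (kk I₂)))
    rw [← PresheafOfModules.map_comp_apply, ← PresheafOfModules.map_comp_apply, ← op_comp,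
      ← op_comp]
    apply hy
    rw [Category.assoc, Category.assoc, hss, hss]
    exact r.w
  let zz := Presheaf.IsSheaf.amalgamate M.isSheaf S x hx
  refine ⟨zz.hom (ULift.up 1), fun k => ?_⟩
  let I : S.Arrow := ⟨P k, p k, Sieve.ofArrows_mk P p k⟩
  have h1 := Presheaf.IsSheaf.amalgamate_map M.isSheaf S x hx I
  have h2 := congrArg (fun e => e.hom (ULift.up 1)) h1
  simp only [x] at h2
  rw [pickHom_apply] at h2
  have h3 : M.val.map (ss I).op (y (kk I)) = y k := by
    have := hy (kk I) k (P k) (ss I) (𝟙 _) (by rw [hss, Category.id_comp])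
    rw [this]
    simp
  rw [← h3, ← h2]
  rfl


end Glue1

section Glue2


variable {C : Type u} [Category.{v} C] {J : GrothendieckTopology C}
variable {R : Sheaf J RingCat.{w}} [CommSections R]

/-- restriction of sections, as a plain function -/
noncomputable abbrev res (M : SheafOfModules.{w} R) {X Y : C} (f : Y ⟶ X) (m : M.val.obj (op X)) :
    M.val.obj (op Y) := M.val.map f.op m

omit [CommSections R] in
theorem res_res (M : SheafOfModules.{w} R) {X Y Z : C} (f : Y ⟶ X) (g : Z ⟶ Y)
    (m : M.val.obj (op X)) : res M g (res M f m) = res M (g ≫ f) m := by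
  simp only [res]
  rw [op_comp, PresheafOfModules.map_comp_apply]

omit [CommSections R] in
theorem res_congr (M : SheafOfModules.{w} R) {X Y : C} {f f' : Y ⟶ X} (h : f = f')
    (m : M.val.obj (op X)) : res M f m = res M f' m := by rw [h]

theorem res_smul (M : SheafOfModules.{w} R) {X Y : C} (f : Y ⟶ X) (r : R.obj.obj (op X))
    (m : M.val.obj (op X)) : res M f (r • m) = (R.obj.map f.op).hom r • res M f m :=
  M.val.map_smul f.op r m

omit [CommSections R] in
theorem ringMap_comp {X Y Z : C} (f : Y ⟶ X) (g : Z ⟶ Y) (r : R.obj.obj (op X)) :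
    (R.obj.map g.op).hom ((R.obj.map f.op).hom r) = (R.obj.map (g ≫ f).op).hom r := by
  rw [op_comp, Functor.map_comp]
  rfl

/-- Restriction between modules of sections restricted along ring maps from a common base,
as a semilinear map. -/
noncomputable def resSL' (M : SheafOfModules.{w} R) {W V X Y : C} (c : V ⟶ W) (gX : X ⟶ W) (gY : Y ⟶ V)
    (f : Y ⟶ X) (hw : gY ≫ c = f ≫ gX) :
    letI : Module (R.obj.obj (op W)) (M.val.obj (op X)) := Module.compHom _ (R.obj.map gX.op).hom
    letI : Module (R.obj.obj (op V)) (M.val.obj (op Y)) := Module.compHom _ (R.obj.map gY.op).hom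
    M.val.obj (op X) →ₛₗ[(R.obj.map c.op).hom] M.val.obj (op Y) :=
  letI : Module (R.obj.obj (op W)) (M.val.obj (op X)) := Module.compHom _ (R.obj.map gX.op).hom
  letI : Module (R.obj.obj (op V)) (M.val.obj (op Y)) := Module.compHom _ (R.obj.map gY.op).hom
  { toFun := res M f
    map_add' := fun x y => map_add _ x y
    map_smul' := fun r x => by
      change res M f ((R.obj.map gX.op).hom r • x) =
        (R.obj.map gY.op).hom ((R.obj.map c.op).hom r) • res M f x
      rw [res_smul, ringMap_comp, ringMap_comp, hw] }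


theorem resSL'_apply (M : SheafOfModules.{w} R) {W V X Y : C} (c : V ⟶ W) (gX : X ⟶ W)
    (gY : Y ⟶ V) (f : Y ⟶ X) (hw : gY ≫ c = f ≫ gX) (m : M.val.obj (op X)) :
    resSL' M c gX gY f hw m = res M f m := rfl

/-- **Gluing**: a sheaf of modules which is a base change presheaf on affines locally is a base
change presheaf on all affines. -/
theorem AffData.isBC_of_locally (D : AffData J R) (M : SheafOfModules.{w} R)
    (U : C → Prop) (hU : ∀ ⦃E E' : C⦄ (_ : E' ⟶ E), U E → U E')
    (hcov : ∀ (X : C) (S : Sieve X), (∀ ⦃Y : C⦄ (f : Y ⟶ X), U Y → S f) → S ∈ J X)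
    (hloc : ∀ ⦃E E' : C⦄ (g : E' ⟶ E), U E → D.Aff E → D.Aff E' → IsBC M.val g.op)
    ⦃W V : C⦄ (c : V ⟶ W) (hW : D.Aff W) (hV : D.Aff V) : IsBC M.val c.op := by
  -- the covering of `W` by small affines
  let SW : Sieve W :=
    { arrows := fun Y _ => U Y
      downward_closed := fun {Y Z f} hf g => hU g hf }
  have hSW : SW ∈ J W := hcov W SW (fun Y f hY => hY)
  obtain ⟨n, E, g, hE, hgU, hgcov, -⟩ := D.cover SW hW hSW
  have hgU' : ∀ k, U (E k) := hgU
  -- the fibre products
  have hP := fun k => D.pb c (g k) hV hW (hE k)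
  choose P pV pE hPpb hPaff hPsq using hP
  have hZ := fun k l => D.pb (g k) (g l) (hE k) hW (hE l)
  choose Z a b hZpb hZaff _hZsq using hZ
  have hQ := fun k l => D.pb c (a k l ≫ g k) hV hW (hZaff k l)
  choose Q qV qZ hQpb hQaff hQsq using hQ
  have hu : ∀ k l, qV k l ≫ c = (qZ k l ≫ a k l) ≫ g k := fun k l => by
    rw [Category.assoc]; exact (hQpb k l).w
  have hv : ∀ k l, qV k l ≫ c = (qZ k l ≫ b k l) ≫ g l := fun k l => by
    rw [Category.assoc, ← (hZpb k l).w]; exact (hQpb k l).w
  let uu : ∀ k l, Q k l ⟶ P k := fun k l => (hPpb k).lift (qV k l) (qZ k l ≫ a k l) (hu k l)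
  let vv : ∀ k l, Q k l ⟶ P l := fun k l => (hPpb l).lift (qV k l) (qZ k l ≫ b k l) (hv k l)
  have uu_fst : ∀ k l, uu k l ≫ pV k = qV k l := fun k l => (hPpb k).lift_fst _ _ _
  have uu_snd : ∀ k l, uu k l ≫ pE k = qZ k l ≫ a k l := fun k l => (hPpb k).lift_snd _ _ _
  have vv_fst : ∀ k l, vv k l ≫ pV l = qV k l := fun k l => (hPpb l).lift_fst _ _ _
  have vv_snd : ∀ k l, vv k l ≫ pE l = qZ k l ≫ b k l := fun k l => (hPpb l).lift_snd _ _ _
  -- module structures over the base rings
  letI iE : ∀ k, Module (R.obj.obj (op W)) (M.val.obj (op (E k))) :=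
    fun k => Module.compHom _ (R.obj.map (g k).op).hom
  letI iZ : ∀ kl : Fin n × Fin n, Module (R.obj.obj (op W)) (M.val.obj (op (Z kl.1 kl.2))) :=
    fun kl => Module.compHom _ (R.obj.map (a kl.1 kl.2 ≫ g kl.1).op).hom
  letI iP : ∀ k, Module (R.obj.obj (op V)) (M.val.obj (op (P k))) :=
    fun k => Module.compHom _ (R.obj.map (pV k).op).hom
  letI iQ : ∀ kl : Fin n × Fin n, Module (R.obj.obj (op V)) (M.val.obj (op (Q kl.1 kl.2))) :=
    fun kl => Module.compHom _ (R.obj.map (qV kl.1 kl.2).op).hom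
  -- the two left exact sequences
  let ι : M.val.obj (op W) →ₗ[R.obj.obj (op W)] (∀ k, M.val.obj (op (E k))) :=
    { toFun := fun m k => res M (g k) m
      map_add' := fun x y => by funext k; exact map_add _ x y
      map_smul' := fun r x => by funext k; exact res_smul M (g k) r x }
  let α : (∀ k, M.val.obj (op (E k))) →ₗ[R.obj.obj (op W)]
      (∀ kl : Fin n × Fin n, M.val.obj (op (Z kl.1 kl.2))) :=
    { toFun := fun x kl => res M (a kl.1 kl.2) (x kl.1) - res M (b kl.1 kl.2) (x kl.2)
      map_add' := fun x y => by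
        funext kl
        simp only [Pi.add_apply, res, map_add]
        exact add_sub_add_comm _ _ _ _
      map_smul' := fun r x => by
        funext kl
        simp only [Pi.smul_apply, RingHom.id_apply]
        change res M (a kl.1 kl.2) ((R.obj.map (g kl.1).op).hom r • x kl.1) -
          res M (b kl.1 kl.2) ((R.obj.map (g kl.2).op).hom r • x kl.2) =
          (R.obj.map (a kl.1 kl.2 ≫ g kl.1).op).hom r •
            (res M (a kl.1 kl.2) (x kl.1) - res M (b kl.1 kl.2) (x kl.2))
        rw [res_smul, res_smul, ringMap_comp, ringMap_comp, smul_sub, (hZpb kl.1 kl.2).w] }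
  let κ : M.val.obj (op V) →ₗ[R.obj.obj (op V)] (∀ k, M.val.obj (op (P k))) :=
    { toFun := fun m k => res M (pV k) m
      map_add' := fun x y => by funext k; exact map_add _ x y
      map_smul' := fun r x => by funext k; exact res_smul M (pV k) r x }
  let β : (∀ k, M.val.obj (op (P k))) →ₗ[R.obj.obj (op V)]
      (∀ kl : Fin n × Fin n, M.val.obj (op (Q kl.1 kl.2))) :=
    { toFun := fun x kl => res M (uu kl.1 kl.2) (x kl.1) - res M (vv kl.1 kl.2) (x kl.2)
      map_add' := fun x y => by
        funext kl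
        simp only [Pi.add_apply, res, map_add]
        exact add_sub_add_comm _ _ _ _
      map_smul' := fun r x => by
        funext kl
        simp only [Pi.smul_apply, RingHom.id_apply]
        change res M (uu kl.1 kl.2) ((R.obj.map (pV kl.1).op).hom r • x kl.1) -
          res M (vv kl.1 kl.2) ((R.obj.map (pV kl.2).op).hom r • x kl.2) =
          (R.obj.map (qV kl.1 kl.2).op).hom r •
            (res M (uu kl.1 kl.2) (x kl.1) - res M (vv kl.1 kl.2) (x kl.2))
        rw [res_smul, res_smul, ringMap_comp, ringMap_comp, smul_sub, uu_fst, vv_fst] }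
  -- exactness of the first sequence
  have hι : Function.Injective ι := by
    intro x y hxy
    apply eq_of_locally_eq M _ hgcov
    rintro T f ⟨T', s, _, ⟨k⟩, rfl⟩
    have h1 : res M (g k) x = res M (g k) y := congrFun hxy k
    change res M (s ≫ g k) x = res M (s ≫ g k) y
    rw [← res_res, ← res_res, h1]
  have hex : Function.Exact ι α := by
    intro x
    constructor
    · intro hx
      have hx' : ∀ k l, res M (a k l) (x k) = res M (b k l) (x l) := fun k l =>
        sub_eq_zero.1 (congrFun hx (k, l))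
      obtain ⟨z, hz⟩ := exists_glue M E g hgcov x (by
        intro k l T s t hst
        change res M s (x k) = res M t (x l)
        have e1 : s = (hZpb k l).lift s t hst ≫ a k l := ((hZpb k l).lift_fst s t hst).symm
        have e2 : t = (hZpb k l).lift s t hst ≫ b k l := ((hZpb k l).lift_snd s t hst).symm
        rw [res_congr M e1, res_congr M e2, ← res_res, ← res_res, hx'])
      exact ⟨z, funext hz⟩
    · rintro ⟨z, rfl⟩
      funext kl
      change res M (a kl.1 kl.2) (res M (g kl.1) z) - res M (b kl.1 kl.2) (res M (g kl.2) z) = 0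
      rw [res_res, res_res, (hZpb kl.1 kl.2).w, sub_self]
  -- the covering of `V`
  have hVcov : Sieve.ofArrows P pV ∈ J V := by
    refine J.superset_covering ?_ (J.pullback_stable c hgcov)
    rintro T f ⟨T', s, _, ⟨k⟩, hs⟩
    have hs' : f ≫ c = s ≫ g k := hs.symm
    refine ⟨P k, (hPpb k).lift f s hs', pV k, ⟨k⟩, (hPpb k).lift_fst f s hs'⟩
  have hκ : Function.Injective κ := by
    intro x y hxy
    apply eq_of_locally_eq M _ hVcov
    rintro T f ⟨T', s, _, ⟨k⟩, rfl⟩
    have h1 : res M (pV k) x = res M (pV k) y := congrFun hxy k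
    change res M (s ≫ pV k) x = res M (s ≫ pV k) y
    rw [← res_res, ← res_res, h1]
  have hex' : Function.Exact κ β := by
    intro y
    constructor
    · intro hy
      have hy' : ∀ k l, res M (uu k l) (y k) = res M (vv k l) (y l) := fun k l =>
        sub_eq_zero.1 (congrFun hy (k, l))
      obtain ⟨z, hz⟩ := exists_glue M P pV hVcov y (by
        intro k l T s t hst
        change res M s (y k) = res M t (y l)
        have hZ1 : (s ≫ pE k) ≫ g k = (t ≫ pE l) ≫ g l := by
          rw [Category.assoc, Category.assoc, ← (hPpb k).w, ← (hPpb l).w, ← Category.assoc,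
            ← Category.assoc, hst]
        let rZ : T ⟶ Z k l := (hZpb k l).lift (s ≫ pE k) (t ≫ pE l) hZ1
        have rZ1 : rZ ≫ a k l = s ≫ pE k := (hZpb k l).lift_fst _ _ _
        have rZ2 : rZ ≫ b k l = t ≫ pE l := (hZpb k l).lift_snd _ _ _
        have hQ1 : (s ≫ pV k) ≫ c = rZ ≫ (a k l ≫ g k) := by
          rw [← Category.assoc, rZ1, Category.assoc, Category.assoc, (hPpb k).w]
        let r : T ⟶ Q k l := (hQpb k l).lift (s ≫ pV k) rZ hQ1
        have r1 : r ≫ qV k l = s ≫ pV k := (hQpb k l).lift_fst _ _ _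
        have r2 : r ≫ qZ k l = rZ := (hQpb k l).lift_snd _ _ _
        have e1 : s = r ≫ uu k l := by
          apply (hPpb k).hom_ext
          · rw [Category.assoc, uu_fst, r1]
          · rw [Category.assoc, uu_snd, ← Category.assoc, r2, rZ1]
        have e2 : t = r ≫ vv k l := by
          apply (hPpb l).hom_ext
          · rw [Category.assoc, vv_fst, r1, hst]
          · rw [Category.assoc, vv_snd, ← Category.assoc, r2, rZ2]
        rw [res_congr M e1, res_congr M e2, ← res_res, ← res_res, hy'])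
      exact ⟨z, funext hz⟩
    · rintro ⟨z, rfl⟩
      funext kl
      change res M (uu kl.1 kl.2) (res M (pV kl.1) z) - res M (vv kl.1 kl.2) (res M (pV kl.2) z) = 0
      rw [res_res, res_res, uu_fst, vv_fst, sub_self]
  -- the vertical maps
  let f₁ : (∀ k, M.val.obj (op (E k))) →ₛₗ[(R.obj.map c.op).hom] (∀ k, M.val.obj (op (P k))) :=
    { toFun := fun x k => res M (pE k) (x k)
      map_add' := fun x y => by funext k; exact map_add _ _ _
      map_smul' := fun r x => by
        funext k
        exact (resSL' M c (g k) (pV k) (pE k) (hPpb k).w).map_smulₛₗ r (x k) }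
  let f₂ : (∀ kl : Fin n × Fin n, M.val.obj (op (Z kl.1 kl.2))) →ₛₗ[(R.obj.map c.op).hom]
      (∀ kl : Fin n × Fin n, M.val.obj (op (Q kl.1 kl.2))) :=
    { toFun := fun x kl => res M (qZ kl.1 kl.2) (x kl)
      map_add' := fun x y => by funext kl; exact map_add _ _ _
      map_smul' := fun r x => by
        funext kl
        exact (resSL' M c (a kl.1 kl.2 ≫ g kl.1) (qV kl.1 kl.2) (qZ kl.1 kl.2)
          (hQpb kl.1 kl.2).w).map_smulₛₗ r (x kl) }
  have h₁ : SLBC (R.obj.map c.op).hom f₁ := by
    refine SLBC.pi (fun k => resSL' M c (g k) (pV k) (pE k) (hPpb k).w) (fun k => ?_) f₁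
      (fun x k => rfl)
    exact SLBC.of_pushoutSq (hPsq k) (hloc (pE k) (hgU' k) (hE k) (hPaff k)) (fun _ _ => rfl)
      (fun _ _ => rfl) _ (fun _ => rfl)
  have h₂ : SLBC (R.obj.map c.op).hom f₂ := by
    refine SLBC.pi (fun kl : Fin n × Fin n => resSL' M c (a kl.1 kl.2 ≫ g kl.1) (qV kl.1 kl.2)
      (qZ kl.1 kl.2) (hQpb kl.1 kl.2).w) (fun kl => ?_) f₂ (fun x kl => rfl)
    exact SLBC.of_pushoutSq (hQsq kl.1 kl.2)
      (hloc (qZ kl.1 kl.2) (hU (a kl.1 kl.2) (hgU' kl.1)) (hZaff kl.1 kl.2) (hQaff kl.1 kl.2))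
      (fun _ _ => rfl) (fun _ _ => rfl) _ (fun _ => rfl)
  have c₀ : ∀ m, κ ((M.val.restrictₛₗ c.op) m) = f₁ (ι m) := by
    intro m
    funext k
    change res M (pV k) (res M c m) = res M (pE k) (res M (g k) m)
    rw [res_res, res_res, (hPpb k).w]
  have c₁ : ∀ x, β (f₁ x) = f₂ (α x) := by
    intro x
    funext kl
    change res M (uu kl.1 kl.2) (res M (pE kl.1) (x kl.1)) -
        res M (vv kl.1 kl.2) (res M (pE kl.2) (x kl.2)) =
      res M (qZ kl.1 kl.2) (res M (a kl.1 kl.2) (x kl.1) - res M (b kl.1 kl.2) (x kl.2))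
    rw [res_res, res_res, uu_snd, vv_snd]
    have e3 : res M (qZ kl.1 kl.2) (res M (a kl.1 kl.2) (x kl.1) - res M (b kl.1 kl.2) (x kl.2)) =
        res M (qZ kl.1 kl.2) (res M (a kl.1 kl.2) (x kl.1)) -
          res M (qZ kl.1 kl.2) (res M (b kl.1 kl.2) (x kl.2)) := map_sub _ _ _
    rw [e3, res_res, res_res]
  exact SLBC.of_leftExact (D.flat c hW hV) ι α hι hex κ β hκ hex' (M.val.restrictₛₗ c.op) f₁ f₂
    c₀ c₁ h₁ h₂


end Glue2

section ThmA
universe w'


variable {C : Type u} [Category.{v} C] {J : GrothendieckTopology C}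
variable {R : Sheaf J RingCat.{w}} [CommSections R]
variable [∀ X, HasSheafify (J.over X) AddCommGrpCat.{w}]
  [∀ X, (J.over X).WEqualsLocallyBijective AddCommGrpCat.{w}]

/-- **Theorem A**: a quasi-coherent sheaf of modules is a base change presheaf on affines. -/
theorem AffData.isBC_of_quasicoherentData (D : AffData J R) (M : SheafOfModules.{w} R)
    (q : SheafOfModules.QuasicoherentData.{w'} M) ⦃W V : C⦄ (c : V ⟶ W) (hW : D.Aff W)
    (hV : D.Aff V) : IsBC M.val c.op := by
  refine D.isBC_of_locally M (fun E => ∃ i, Nonempty (E ⟶ q.X i)) ?_ ?_ ?_ c hW hV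
  · rintro E E' g ⟨i, ⟨f⟩⟩
    exact ⟨i, ⟨g ≫ f⟩⟩
  · intro X S hS
    refine J.superset_covering ?_ (q.coversTop X)
    intro Y f hf
    obtain ⟨i, ⟨h⟩⟩ := (Sieve.mem_ofObjects_iff ..).mp hf
    exact hS f ⟨i, ⟨h⟩⟩
  · rintro E E' g ⟨i, ⟨h⟩⟩ hE hE'
    exact D.isBC_of_presentation_over M (q.X i) (q.presentation i) g h hE hE'

theorem AffData.isBC_of_isQuasicoherent (D : AffData J R) (M : SheafOfModules.{w} R)
    [M.IsQuasicoherent] ⦃W V : C⦄ (c : V ⟶ W) (hW : D.Aff W)
    (hV : D.Aff V) : IsBC M.val c.op := by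
  obtain ⟨⟨q⟩⟩ := (inferInstance : M.IsQuasicoherent)
  exact D.isBC_of_quasicoherentData M q c hW hV


end ThmA

end Groth.Agent.Lib.Helper21.Tilde
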