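import Groth.Agent.Lib.Helper21.TildeH1Pre

set_option autoImplicit false
set_option linter.style.haveILetI false
set_option linter.unusedSimpArgs false
universe w v u
open CategoryTheory CategoryTheory.Limits Opposite TensorProduct

namespace Groth.Agent.Lib.Helper21.Tilde

variable {C : Type u} [Category.{v} C] {J : GrothendieckTopology C}
variable {R : Sheaf J RingCat.{w}}

section H1
variable [CommSections R] (D : AffData J R)
variable [HasSheafify J AddCommGrpCat.{w}] [J.WEqualsLocallyBijective AddCommGrpCat.{w}]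

/-- **Vanishing of `H¹` on affines**: in a short exact sequence of sheaves of modules whose
kernel is a base change presheaf on affines, sections of the quotient over an affine terminal
object lift. -/
theorem AffData.exists_lift_of_shortExact (S : ShortComplex (SheafOfModules.{w} R))
    (hS : S.ShortExact)
    (h₁ : ∀ ⦃E E' : C⦄ (g : E' ⟶ E), D.Aff E → D.Aff E' → IsBC S.X₁.val g.op)
    {T : C} (hT : IsTerminal T) (hTaff : D.Aff T) (s : S.X₃.val.obj (op T)) :
    ∃ m : S.X₂.val.obj (op T), S.g.val.app (op T) m = s := by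
  haveI : Epi S.g := hS.epi_g
  haveI : Mono S.f := hS.mono_f
  let σ := sectionOfTerminal S.X₃ hT s
  let s' : SheafOfModules.unit R ⟶ S.X₃ := S.X₃.unitHomEquiv.symm σ
  have hs' : ∀ (V : Cᵒᵖ) (a : R.obj.obj V), s'.val.app V a = a • PresheafOfModules.sections.eval σ V := by
    intro V a
    have h1 : s'.val.app V (1 : R.obj.obj V) = PresheafOfModules.sections.eval σ V := by
      have := SheafOfModules.unitHomEquiv_apply_coe S.X₃ s' V
      rw [← this]
      simp only [s', Equiv.apply_symm_apply]
    have h2 : s'.val.app V a = s'.val.app V (a • (1 : R.obj.obj V)) := by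
      rw [smul_eq_mul, mul_one]
    rw [h2]
    exact ((s'.val.app V).hom.map_smul a (1 : R.obj.obj V)).trans (by rw [← h1])
  have hleft := fun V => sections_leftExact S.f S.g S.zero hS.fIsKernel V
  let j : S.X₁ ⟶ pullback S.g s' := pullback.lift S.f 0 (by rw [S.zero, zero_comp])
  have hj1 : j ≫ pullback.fst S.g s' = S.f := pullback.lift_fst _ _ _
  have hj2 : j ≫ pullback.snd S.g s' = 0 := pullback.lift_snd _ _ _
  have hcond : pullback.fst S.g s' ≫ S.g = pullback.snd S.g s' ≫ s' := pullback.condition
  haveI : Epi (pullback.snd S.g s') := Abelian.epi_pullback_of_epi_f S.g s'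
  -- sections level versions of the relations
  have hj1' : ∀ (V : Cᵒᵖ) (y : S.X₁.val.obj V),
      (pullback.fst S.g s').val.app V (j.val.app V y) = S.f.val.app V y := fun V y =>
    congrArg (fun f => f.val.app V y) hj1
  have hj2' : ∀ (V : Cᵒᵖ) (y : S.X₁.val.obj V),
      (pullback.snd S.g s').val.app V (j.val.app V y) = 0 := by
    intro V y
    have h0 : (0 : S.X₁ ⟶ SheafOfModules.unit R).val = 0 := (SheafOfModules.forget _).map_zero _ _
    have := congrArg (fun f => f.val.app V y) hj2
    simp only [h0] at this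
    exact this
  have hcond' : ∀ (V : Cᵒᵖ) (x : (pullback S.g s').val.obj V),
      S.g.val.app V ((pullback.fst S.g s').val.app V x) =
        s'.val.app V ((pullback.snd S.g s').val.app V x) := fun V x =>
    congrArg (fun f => f.val.app V x) hcond
  -- injectivity and exactness for `j`, `snd`
  have hjinj : ∀ V : Cᵒᵖ, Function.Injective (j.val.app V) := by
    intro V y y' hyy'
    apply (hleft V).1
    rw [← hj1', ← hj1', hyy']
  have hjex : ∀ V : Cᵒᵖ, Function.Exact (j.val.app V) ((pullback.snd S.g s').val.app V) := by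
    intro V x
    constructor
    · intro hx
      have h1 : S.g.val.app V ((pullback.fst S.g s').val.app V x) = 0 := by
        rw [hcond', hx, map_zero]
      obtain ⟨y, hy⟩ := ((hleft V).2 _).1 h1
      refine ⟨y, pullback_sections_ext S.g s' V _ _ ?_ ?_⟩
      · rw [hj1', hy]
      · rw [hj2', hx]
    · rintro ⟨y, rfl⟩
      exact hj2' V y
  -- the objects over which `s` lifts
  let U : C → Prop := fun V => ∃ t : S.X₂.val.obj (op V),
    S.g.val.app (op V) t = PresheafOfModules.sections.eval σ (op V)
  have hU : ∀ ⦃E E' : C⦄ (_ : E' ⟶ E), U E → U E' := by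
    rintro E E' g ⟨t, ht⟩
    refine ⟨S.X₂.val.map g.op t, ?_⟩
    rw [PresheafOfModules.naturality_apply, ht]
    exact PresheafOfModules.sections_property σ g.op
  have hcov : ∀ (W : C) (Sv : Sieve W), (∀ ⦃Y : C⦄ (f : Y ⟶ W), U Y → Sv f) → Sv ∈ J W := by
    intro W Sv hSv
    obtain ⟨S₀, hS₀, hlift⟩ := Groth.Agent.Lib.Helper44.sheafOfModules_epi_locally_surjective
      S.g (op W) (PresheafOfModules.sections.eval σ (op W))
    refine J.superset_covering ?_ hS₀
    intro Y f hf
    obtain ⟨y, hy⟩ := hlift f hf
    exact hSv f ⟨y, hy.trans (PresheafOfModules.sections_property σ f.op)⟩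
  have hsurj : ∀ V : C, U V → Function.Surjective ((pullback.snd S.g s').val.app (op V)) := by
    rintro V ⟨t, ht⟩ a
    obtain ⟨x, -, hx⟩ := pullback_sections_exists S.g s' (op V) (a • t) a (by
      rw [hs', map_smul, ht]
      rfl)
    exact ⟨x, hx⟩
  have hloc : ∀ ⦃E E' : C⦄ (g : E' ⟶ E), U E → D.Aff E → D.Aff E' →
      IsBC (pullback S.g s').val g.op := by
    intro E E' g hUE hE hE'
    refine SLBC.of_shortExact (j.val.app (op E)).hom ((pullback.snd S.g s').val.app (op E)).hom
      (hsurj E hUE) (hjex (op E)) (j.val.app (op E')).hom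
      ((pullback.snd S.g s').val.app (op E')).hom (hjinj (op E')) (hjex (op E'))
      (S.X₁.val.restrictₛₗ g.op) ((pullback S.g s').val.restrictₛₗ g.op)
      ((SheafOfModules.unit R).val.restrictₛₗ g.op) ?_ ?_ (h₁ g hE hE') (isBC_unit g.op)
    · intro m
      exact PresheafOfModules.naturality_apply j.val g.op m
    · intro m
      exact PresheafOfModules.naturality_apply (pullback.snd S.g s').val g.op m
  have hP := D.isBC_of_locally (pullback S.g s') U hU hcov hloc
  obtain ⟨x, hx⟩ := D.surjective_of_epi (pullback.snd S.g s') (fun _ _ g h₁ h₂ => hP g h₁ h₂)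
    (fun _ _ g _ _ => isBC_unit g.op) hTaff (1 : R.obj.obj (op T))
  refine ⟨(pullback.fst S.g s').val.app (op T) x, ?_⟩
  rw [hcond', hx, hs', one_smul]
  change S.X₃.val.map (hT.from T).op s = s
  have : hT.from T = 𝟙 T := hT.hom_ext _ _
  rw [this, op_id, S.X₃.val.map_id]
  rfl

end H1

end Groth.Agent.Lib.Helper21.Tilde
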