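import Groth.Agent.Lib.Helper21.TildeFin

set_option autoImplicit false
set_option linter.style.haveILetI false
set_option linter.unusedSimpArgs false
universe w v u
open CategoryTheory CategoryTheory.Limits Opposite TensorProduct

namespace Groth.Agent.Lib.Helper21.Tilde

section Alg12


section
variable {A B : Type*} [CommRing A] [CommRing B]

/-- Five lemma for base change: the middle term of a short exact sequence is a base change if the
outer terms are. -/
theorem SLBC.of_shortExact {φ : A →+* B}
    {M₁ M₂ M₃ N₁ N₂ N₃ : Type*}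
    [AddCommGroup M₁] [Module A M₁] [AddCommGroup M₂] [Module A M₂] [AddCommGroup M₃] [Module A M₃]
    [AddCommGroup N₁] [Module B N₁] [AddCommGroup N₂] [Module B N₂] [AddCommGroup N₃] [Module B N₃]
    (α : M₁ →ₗ[A] M₂) (π : M₂ →ₗ[A] M₃) (hπ : Function.Surjective π) (hex : Function.Exact α π)
    (β : N₁ →ₗ[B] N₂) (ρ : N₂ →ₗ[B] N₃) (hβ : Function.Injective β) (hex' : Function.Exact β ρ)
    (f₁ : M₁ →ₛₗ[φ] N₁) (f₂ : M₂ →ₛₗ[φ] N₂) (f₃ : M₃ →ₛₗ[φ] N₃)
    (c₁ : ∀ m, β (f₁ m) = f₂ (α m)) (c₂ : ∀ m, ρ (f₂ m) = f₃ (π m))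
    (h₁ : SLBC φ f₁) (h₃ : SLBC φ f₃) : SLBC φ f₂ := by
  rw [slbc_iff_bijective] at h₁ h₃ ⊢
  letI : Algebra A B := φ.toAlgebra
  letI : Module A N₁ := Module.compHom N₁ φ
  letI : Module A N₂ := Module.compHom N₂ φ
  letI : Module A N₃ := Module.compHom N₃ φ
  haveI : IsScalarTower A B N₁ := isScalarTower_compHom φ
  haveI : IsScalarTower A B N₂ := isScalarTower_compHom φ
  haveI : IsScalarTower A B N₃ := isScalarTower_compHom φ
  set e₁ := (slLin φ f₁).liftBaseChange B with he₁
  set e₂ := (slLin φ f₂).liftBaseChange B with he₂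
  set e₃ := (slLin φ f₃).liftBaseChange B with he₃
  have sq1 : ∀ x, β (e₁ x) = e₂ (α.lTensor B x) := by
    intro x
    induction x using TensorProduct.induction_on with
    | zero => simp
    | tmul b m =>
      simp only [he₁, he₂, LinearMap.liftBaseChange_tmul, LinearMap.lTensor_tmul, map_smul]
      congr 1
      exact c₁ m
    | add x y hx hy => simp only [map_add, hx, hy]
  have sq2 : ∀ x, ρ (e₂ x) = e₃ (π.lTensor B x) := by
    intro x
    induction x using TensorProduct.induction_on with
    | zero => simp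
    | tmul b m =>
      simp only [he₂, he₃, LinearMap.liftBaseChange_tmul, LinearMap.lTensor_tmul, map_smul]
      congr 1
      exact c₂ m
    | add x y hx hy => simp only [map_add, hx, hy]
  have hπB : Function.Surjective (π.lTensor B) := LinearMap.lTensor_surjective B hπ
  have hexB : Function.Exact (α.lTensor B) (π.lTensor B) := lTensor_exact B hex hπ
  constructor
  · rw [injective_iff_map_eq_zero]
    intro x hx
    have h1 : π.lTensor B x = 0 := by
      apply h₃.1
      rw [← sq2, hx, map_zero, map_zero]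
    obtain ⟨x₁, rfl⟩ := (hexB x).1 h1
    rw [← sq1] at hx
    have h2 : e₁ x₁ = 0 := hβ (hx.trans (map_zero β).symm)
    have h3 : x₁ = 0 := h₁.1 (h2.trans (map_zero e₁).symm)
    rw [h3, map_zero]
  · intro n₂
    obtain ⟨z, hz⟩ := h₃.2 (ρ n₂)
    obtain ⟨x, rfl⟩ := hπB z
    have h1 : ρ (n₂ - e₂ x) = 0 := by rw [map_sub, sq2, hz, sub_self]
    obtain ⟨n₁, hn₁⟩ := (hex' _).1 h1
    obtain ⟨x₁, rfl⟩ := h₁.2 n₁
    refine ⟨x + α.lTensor B x₁, ?_⟩
    rw [map_add, ← sq1, hn₁]
    abel

end


end Alg12

section Pb1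


variable {C : Type u} [Category.{v} C] {J : GrothendieckTopology C}
variable {R : Sheaf J RingCat.{w}}

section PullbackSections
variable {M₂ M₃ U : SheafOfModules.{w} R} (p : M₂ ⟶ M₃) (q : U ⟶ M₃)

/-- Sections of a pullback of sheaves of modules are determined by their projections. -/
theorem pullback_sections_ext (V : Cᵒᵖ) (x x' : (pullback p q).val.obj V)
    (h₁ : (pullback.fst p q).val.app V x = (pullback.fst p q).val.app V x')
    (h₂ : (pullback.snd p q).val.app V x = (pullback.snd p q).val.app V x') : x = x' := by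
  let G := SheafOfModules.evaluation R V
  have hlim := isLimitOfHasPullbackOfPreservesLimit G p q
  let fx : ModuleCat.of (R.obj.obj V) (R.obj.obj V) ⟶ G.obj (pullback p q) :=
    ModuleCat.ofHom (LinearMap.toSpanSingleton (R.obj.obj V) _ x)
  let fx' : ModuleCat.of (R.obj.obj V) (R.obj.obj V) ⟶ G.obj (pullback p q) :=
    ModuleCat.ofHom (LinearMap.toSpanSingleton (R.obj.obj V) _ x')
  have e : fx = fx' := by
    apply PullbackCone.IsLimit.hom_ext hlim
    · apply ModuleCat.hom_ext
      apply LinearMap.ext_ring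
      change (pullback.fst p q).val.app V ((1 : R.obj.obj V) • x) =
        (pullback.fst p q).val.app V ((1 : R.obj.obj V) • x')
      rw [one_smul, one_smul, h₁]
    · apply ModuleCat.hom_ext
      apply LinearMap.ext_ring
      change (pullback.snd p q).val.app V ((1 : R.obj.obj V) • x) =
        (pullback.snd p q).val.app V ((1 : R.obj.obj V) • x')
      rw [one_smul, one_smul, h₂]
  have := congrArg (fun f => f.hom (1 : R.obj.obj V)) e
  change (1 : R.obj.obj V) • x = (1 : R.obj.obj V) • x' at this
  rwa [one_smul, one_smul] at this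

/-- Compatible pairs of sections define sections of a pullback of sheaves of modules. -/
theorem pullback_sections_exists (V : Cᵒᵖ) (m : M₂.val.obj V) (a : U.val.obj V)
    (h : p.val.app V m = q.val.app V a) :
    ∃ x : (pullback p q).val.obj V,
      (pullback.fst p q).val.app V x = m ∧ (pullback.snd p q).val.app V x = a := by
  let G := SheafOfModules.evaluation R V
  have hlim := isLimitOfHasPullbackOfPreservesLimit G p q
  let g₁ : ModuleCat.of (R.obj.obj V) (R.obj.obj V) ⟶ G.obj M₂ :=
    ModuleCat.ofHom (LinearMap.toSpanSingleton (R.obj.obj V) _ m)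
  let g₂ : ModuleCat.of (R.obj.obj V) (R.obj.obj V) ⟶ G.obj U :=
    ModuleCat.ofHom (LinearMap.toSpanSingleton (R.obj.obj V) _ a)
  have hw : g₁ ≫ G.map p = g₂ ≫ G.map q := by
    apply ModuleCat.hom_ext
    apply LinearMap.ext_ring
    change p.val.app V ((1 : R.obj.obj V) • m) = q.val.app V ((1 : R.obj.obj V) • a)
    rw [one_smul, one_smul, h]
  let l := PullbackCone.IsLimit.lift hlim g₁ g₂ hw
  have h1 : l ≫ G.map (pullback.fst p q) = g₁ := PullbackCone.IsLimit.lift_fst hlim g₁ g₂ hw
  have h2 : l ≫ G.map (pullback.snd p q) = g₂ := PullbackCone.IsLimit.lift_snd hlim g₁ g₂ hw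
  refine ⟨l.hom (1 : R.obj.obj V), ?_, ?_⟩
  · have := congrArg (fun f => f.hom (1 : R.obj.obj V)) h1
    change _ = (1 : R.obj.obj V) • m at this
    rwa [one_smul] at this
  · have := congrArg (fun f => f.hom (1 : R.obj.obj V)) h2
    change _ = (1 : R.obj.obj V) • a at this
    rwa [one_smul] at this

end PullbackSections


end Pb1

end Groth.Agent.Lib.Helper21.Tilde
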