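import Groth.Agent.Lib.Helper21.TildeGen

set_option autoImplicit false
set_option linter.style.haveILetI false
set_option linter.unusedSimpArgs false
universe w v u
open CategoryTheory CategoryTheory.Limits Opposite TensorProduct

namespace Groth.Agent.Lib.Helper21.Tilde

variable {C : Type u} [Category.{v} C] {J : GrothendieckTopology C}
variable {R : Sheaf J RingCat.{w}} [CommSections R] (D : AffData J R)

section
variable [HasSheafify J AddCommGrpCat.{w}] [J.WEqualsLocallyBijective AddCommGrpCat.{w}]

/-- Generating sections from a spanning family over an affine terminal object. -/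
noncomputable def AffData.generatingSections (M : SheafOfModules.{w} R)
    (hM : ∀ ⦃E E' : C⦄ (g : E' ⟶ E), D.Aff E → D.Aff E' → IsBC M.val g.op)
    {T : C} (hT : IsTerminal T) (hTaff : D.Aff T) {I : Type w} (s : I → M.val.obj (op T))
    (hs : Submodule.span (R.obj.obj (op T)) (Set.range s) = ⊤) : M.GeneratingSections where
  I := I
  s := fun i => sectionOfTerminal M hT (s i)
  epi := D.epi_of_span_eq_top M hM hT hTaff s hs

/-- The kernel of the canonical epimorphism is a base change presheaf on affines. -/
theorem AffData.isBC_kernel_π (M : SheafOfModules.{w} R)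
    (hM : ∀ ⦃E E' : C⦄ (g : E' ⟶ E), D.Aff E → D.Aff E' → IsBC M.val g.op)
    (σ : M.GeneratingSections) ⦃E E' : C⦄ (g : E' ⟶ E) (hE : D.Aff E) (hE' : D.Aff E') :
    IsBC (kernel σ.π).val g.op :=
  D.isBC_of_isKernel (kernel.ι σ.π) σ.π (kernel.condition _) (kernelIsKernel _)
    (fun _ _ g' h₁ h₂ => D.isBC_free σ.I g' h₁ h₂) hM g hE hE'

/-- **Lemma B'**: on a site with an affine terminal object, a sheaf of modules which is a base
change presheaf on affines has a global presentation, with prescribed spanning families. -/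
noncomputable def AffData.presentationOfSpan (M : SheafOfModules.{w} R)
    (hM : ∀ ⦃E E' : C⦄ (g : E' ⟶ E), D.Aff E → D.Aff E' → IsBC M.val g.op)
    {T : C} (hT : IsTerminal T) (hTaff : D.Aff T) {I : Type w} (s : I → M.val.obj (op T))
    (hs : Submodule.span (R.obj.obj (op T)) (Set.range s) = ⊤)
    {I' : Type w}
    (s' : I' → (kernel (D.generatingSections M hM hT hTaff s hs).π).val.obj (op T))
    (hs' : Submodule.span (R.obj.obj (op T)) (Set.range s') = ⊤) : M.Presentation where
  generators := D.generatingSections M hM hT hTaff s hs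
  relations := D.generatingSections _
    (D.isBC_kernel_π M hM (D.generatingSections M hM hT hTaff s hs)) hT hTaff s' hs'

/-- The presentation by all sections. -/
noncomputable def AffData.presentation (M : SheafOfModules.{w} R)
    (hM : ∀ ⦃E E' : C⦄ (g : E' ⟶ E), D.Aff E → D.Aff E' → IsBC M.val g.op)
    {T : C} (hT : IsTerminal T) (hTaff : D.Aff T) : M.Presentation :=
  D.presentationOfSpan M hM hT hTaff (fun m : M.val.obj (op T) => m)
    (by rw [eq_top_iff]; rintro m -; exact Submodule.subset_span ⟨m, rfl⟩)
    (fun k => k) (by rw [eq_top_iff]; rintro m -; exact Submodule.subset_span ⟨m, rfl⟩)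

end

section
variable [∀ X, HasSheafify (J.over X) AddCommGrpCat.{w}]
  [∀ X, (J.over X).WEqualsLocallyBijective AddCommGrpCat.{w}]

/-- **Theorem B**: a sheaf of modules which is a base change presheaf on affines is
quasi-coherent. -/
noncomputable def AffData.quasicoherentData (M : SheafOfModules.{w} R)
    (hM : ∀ ⦃E E' : C⦄ (g : E' ⟶ E), D.Aff E → D.Aff E' → IsBC M.val g.op) :
    SheafOfModules.QuasicoherentData.{u} M where
  I := {E : C // D.Aff E}
  X := Subtype.val
  coversTop := fun W => D.basis W _ (fun V _ hV =>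
    (Sieve.mem_ofObjects_iff ..).2 ⟨⟨V, hV⟩, ⟨𝟙 V⟩⟩)
  presentation := fun E => (D.over E.1).presentation (M.over E.1)
    (fun _ _ g h₁ h₂ => hM g.left h₁ h₂) (T := Over.mk (𝟙 E.1)) Over.mkIdTerminal E.2

theorem AffData.isQuasicoherent_of_isBC (M : SheafOfModules.{w} R)
    (hM : ∀ ⦃E E' : C⦄ (g : E' ⟶ E), D.Aff E → D.Aff E' → IsBC M.val g.op) :
    M.IsQuasicoherent :=
  (D.quasicoherentData M hM).isQuasicoherent

end

end Groth.Agent.Lib.Helper21.Tilde
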