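import Groth.Agent.Lib.Helper21.TildeAlg

set_option autoImplicit false
set_option linter.style.haveILetI false
set_option linter.unusedSimpArgs false
universe w v u
open CategoryTheory CategoryTheory.Limits Opposite

namespace Groth.Agent.Lib.Helper21.Tilde

variable {C : Type u} [Category.{v} C] {J : GrothendieckTopology C}

/-- The rings of sections of a sheaf of rings are commutative. -/
class CommSections (R : Sheaf J RingCat.{w}) : Prop where
  comm : ∀ (X : Cᵒᵖ) (a b : R.obj.obj X), a * b = b * a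

instance commRingSections (R : Sheaf J RingCat.{w}) [CommSections R] (X : Cᵒᵖ) :
    CommRing (R.obj.obj X) :=
  { (inferInstance : Ring (R.obj.obj X)) with mul_comm := CommSections.comm X }

variable {R : Sheaf J RingCat.{w}} [CommSections R]

/-- The restriction map of a presheaf of modules is a base change map. -/
def IsBC (P : PresheafOfModules.{w} R.obj) {X Y : Cᵒᵖ} (f : X ⟶ Y) : Prop :=
  SLBC (R.obj.map f).hom (P.restrictₛₗ f)

variable (J R) in
/-- A class of `affine` objects in a ringed site on which faithfully flat descent works. -/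
structure AffData where
  Aff : C → Prop
  basis : ∀ (X : C) (S : Sieve X), (∀ ⦃W : C⦄ (f : W ⟶ X), Aff W → S f) → S ∈ J X
  flat : ∀ ⦃E E' : C⦄ (g : E' ⟶ E), Aff E → Aff E' → (R.obj.map g.op).hom.Flat
  pb : ∀ ⦃W E V : C⦄ (a : W ⟶ E) (b : V ⟶ E), Aff W → Aff E → Aff V →
    ∃ (P : C) (p : P ⟶ W) (q : P ⟶ V), IsPullback p q a b ∧ Aff P ∧
      PushoutSq (R.obj.map a.op).hom (R.obj.map b.op).hom (R.obj.map p.op).hom
        (R.obj.map q.op).hom
  cover : ∀ ⦃E : C⦄ (S : Sieve E), Aff E → S ∈ J E →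
    ∃ (n : ℕ) (Y : Fin n → C) (g : ∀ k, Y k ⟶ E), (∀ k, Aff (Y k)) ∧ (∀ k, S (g k)) ∧
      Sieve.ofArrows Y g ∈ J E ∧
      ∀ p : PrimeSpectrum (R.obj.obj (op E)), ∃ k, ∃ q : PrimeSpectrum (R.obj.obj (op (Y k))),
        q.comap (R.obj.map (g k).op).hom = p

variable (D : AffData J R) (P : PresheafOfModules.{w} R.obj)

/-- Descent, injectivity part: a section over an affine object vanishing on a covering sieve
vanishes. -/
theorem AffData.desc_inj
    (hP : ∀ ⦃E E' : C⦄ (g : E' ⟶ E), D.Aff E → D.Aff E' → IsBC P g.op)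
    {E : C} (hE : D.Aff E) (S : Sieve E) (hS : S ∈ J E) (x : P.obj (op E))
    (hx : ∀ ⦃Y : C⦄ (f : Y ⟶ E), S f → P.map f.op x = 0) : x = 0 := by
  obtain ⟨n, Y, g, hY, hg, -, hsurj⟩ := D.cover S hE hS
  exact SLBC.family_inj (fun k => (R.obj.map (g k).op).hom) (fun k => P.restrictₛₗ (g k).op)
    (fun k => D.flat (g k) hE (hY k)) hsurj (fun k => hP (g k) hE (hY k)) x
    (fun k => hx (g k) (hg k))

/-- Descent, gluing part. -/
theorem AffData.desc_glue
    (hP : ∀ ⦃E E' : C⦄ (g : E' ⟶ E), D.Aff E → D.Aff E' → IsBC P g.op)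
    {E : C} (hE : D.Aff E) {n : ℕ} (Y : Fin n → C) (g : ∀ k, Y k ⟶ E) (hY : ∀ k, D.Aff (Y k))
    (hsurj : ∀ p : PrimeSpectrum (R.obj.obj (op E)), ∃ k,
      ∃ q : PrimeSpectrum (R.obj.obj (op (Y k))), q.comap (R.obj.map (g k).op).hom = p)
    (Z : Fin n → Fin n → C) (p : ∀ k l, Z k l ⟶ Y k) (q : ∀ k l, Z k l ⟶ Y l)
    (hZ : ∀ k l, D.Aff (Z k l)) (hpq : ∀ k l, p k l ≫ g k = q k l ≫ g l)
    (hsq : ∀ k l, PushoutSq (R.obj.map (g k).op).hom (R.obj.map (g l).op).hom
      (R.obj.map (p k l).op).hom (R.obj.map (q k l).op).hom)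
    (x : ∀ k, P.obj (op (Y k)))
    (hx : ∀ k l, P.map (p k l).op (x k) = P.map (q k l).op (x l)) :
    ∃ y : P.obj (op E), ∀ k, P.map (g k).op y = x k := by
  refine SLBC.family_glue (fun k => (R.obj.map (g k).op).hom) (fun k => P.restrictₛₗ (g k).op)
    (fun k => D.flat (g k) hE (hY k)) hsurj (fun k => hP (g k) hE (hY k))
    (fun k l => (R.obj.map (p k l).op).hom) (fun k l => (R.obj.map (q k l).op).hom) hsq
    (fun k l => P.restrictₛₗ (p k l).op) (fun k l => P.restrictₛₗ (q k l).op)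
    (fun k l => hP (q k l) (hY l) (hZ k l)) ?_ x hx
  intro k l y
  simp only [PresheafOfModules.restrictₛₗ_apply]
  rw [← PresheafOfModules.map_comp_apply, ← PresheafOfModules.map_comp_apply, ← op_comp, ← op_comp,
    hpq k l]



section Key
omit [CommSections R]

/-- The morphism from the integers picking out an element of an abelian group. -/
noncomputable def pickHom (G : AddCommGrpCat.{w}) (m : G) : AddCommGrpCat.of (ULift.{w} ℤ) ⟶ G :=
  AddCommGrpCat.ofHom ((zmultiplesHom G m).comp AddEquiv.ulift.toAddMonoidHom)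

theorem pickHom_apply (G : AddCommGrpCat.{w}) (m : G) : (pickHom G m).hom (ULift.up 1) = m := by
  simp only [pickHom, AddCommGrpCat.hom_ofHom, AddMonoidHom.comp_apply, AddEquiv.toAddMonoidHom_eq_coe,
    AddMonoidHom.coe_coe, zmultiplesHom_apply]
  change (1 : ℤ) • m = m
  rw [one_smul]

theorem pickHom_comp {G H : AddCommGrpCat.{w}} (f : G ⟶ H) (m : G) :
    pickHom G m ≫ f = pickHom H (f.hom m) := by
  ext ⟨n⟩
  simp [pickHom]

/-- Sections of a sheaf of modules which agree on a covering sieve are equal. -/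
theorem eq_of_locally_eq (M : SheafOfModules.{w} R) {X : C} (S : Sieve X) (hS : S ∈ J X)
    (m m' : M.val.obj (op X))
    (h : ∀ ⦃Y : C⦄ (f : Y ⟶ X), S f → M.val.map f.op m = M.val.map f.op m') : m = m' := by
  have key : pickHom (M.val.presheaf.obj (op X)) m = pickHom (M.val.presheaf.obj (op X)) m' := by
    refine Presheaf.IsSheaf.hom_ext M.isSheaf ⟨S, hS⟩ _ _ ?_
    rintro ⟨Y, f, hf⟩
    rw [pickHom_comp, pickHom_comp]
    congr 1
    exact h f hf
  have := congrArg (fun e => e.hom (ULift.up 1)) key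
  simp only [] at this
  rw [pickHom_apply, pickHom_apply] at this
  exact this

end Key


/-- **Key lemma**: a presheaf of modules which is a base change presheaf on affine objects agrees
on affine objects with any sheaf it maps to by a locally bijective map. -/
theorem AffData.bijective_of_locallyBijective (P : PresheafOfModules.{w} R.obj)
    (M : SheafOfModules.{w} R) (φ : P ⟶ M.val)
    (hP : ∀ ⦃E E' : C⦄ (g : E' ⟶ E), D.Aff E → D.Aff E' → IsBC P g.op)
    (hinj : ∀ (X : C) (x : P.obj (op X)), φ.app (op X) x = 0 →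
      ∃ S ∈ J X, ∀ ⦃Y : C⦄ (f : Y ⟶ X), S f → P.map f.op x = 0)
    (hsurj : ∀ (X : C) (m : M.val.obj (op X)),
      ∃ S ∈ J X, ∀ ⦃Y : C⦄ (f : Y ⟶ X), S f → ∃ x : P.obj (op Y),
        φ.app (op Y) x = M.val.map f.op m)
    {E : C} (hE : D.Aff E) : Function.Bijective (φ.app (op E)) := by
  have inj : ∀ {E : C}, D.Aff E → Function.Injective (φ.app (op E)) := by
    intro E hE
    rw [injective_iff_map_eq_zero]
    intro x hx
    obtain ⟨S, hS, h⟩ := hinj E x hx
    exact D.desc_inj P hP hE S hS x h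
  refine ⟨inj hE, fun m => ?_⟩
  obtain ⟨S, hS, h⟩ := hsurj E m
  obtain ⟨n, Y, g, hY, hg, hcov, hprime⟩ := D.cover S hE hS
  have hx : ∀ k, ∃ x : P.obj (op (Y k)), φ.app (op (Y k)) x = M.val.map (g k).op m :=
    fun k => h (g k) (hg k)
  choose x hx using hx
  have hpb := fun k l => D.pb (g k) (g l) (hY k) hE (hY l)
  choose Z p q hpb hZ hsq using hpb
  have hglue : ∀ k l, P.map (p k l).op (x k) = P.map (q k l).op (x l) := by
    intro k l
    apply inj (hZ k l)
    rw [PresheafOfModules.naturality_apply, PresheafOfModules.naturality_apply, hx, hx,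
      ← PresheafOfModules.map_comp_apply, ← PresheafOfModules.map_comp_apply, ← op_comp, ← op_comp,
      (hpb k l).w]
  obtain ⟨y, hy⟩ := D.desc_glue P hP hE Y g hY hprime Z p q hZ (fun k l => (hpb k l).w) hsq x hglue
  refine ⟨y, ?_⟩
  apply eq_of_locally_eq M _ hcov
  rintro W f ⟨V, a, _, ⟨k⟩, rfl⟩
  rw [op_comp, PresheafOfModules.map_comp_apply, PresheafOfModules.map_comp_apply,
    ← PresheafOfModules.naturality_apply, hy, hx]

/-- Under the hypotheses of the key lemma, the sheaf is a base change presheaf on affines. -/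
theorem AffData.isBC_of_locallyBijective (P : PresheafOfModules.{w} R.obj)
    (M : SheafOfModules.{w} R) (φ : P ⟶ M.val)
    (hP : ∀ ⦃E E' : C⦄ (g : E' ⟶ E), D.Aff E → D.Aff E' → IsBC P g.op)
    (hinj : ∀ (X : C) (x : P.obj (op X)), φ.app (op X) x = 0 →
      ∃ S ∈ J X, ∀ ⦃Y : C⦄ (f : Y ⟶ X), S f → P.map f.op x = 0)
    (hsurj : ∀ (X : C) (m : M.val.obj (op X)),
      ∃ S ∈ J X, ∀ ⦃Y : C⦄ (f : Y ⟶ X), S f → ∃ x : P.obj (op Y),
        φ.app (op Y) x = M.val.map f.op m)
    ⦃E E' : C⦄ (g : E' ⟶ E) (hE : D.Aff E) (hE' : D.Aff E') : IsBC M.val g.op := by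
  refine (SLBC.congr (φ.app (op E)).hom
    (D.bijective_of_locallyBijective P M φ hP hinj hsurj hE) (φ.app (op E')).hom
    (D.bijective_of_locallyBijective P M φ hP hinj hsurj hE') ?_).1 (hP g hE hE')
  intro x
  exact (PresheafOfModules.naturality_apply φ g.op x).symm

end Groth.Agent.Lib.Helper21.Tilde
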