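import Groth.Prelude.Def_TopMod
import Mathlib.Topology.Algebra.IsUniformGroup.Defs
import Mathlib.Topology.Algebra.IsUniformGroup.Basic
import Mathlib.Topology.UniformSpace.Cauchy
import Mathlib.Topology.Algebra.OpenSubgroup
import Mathlib.LinearAlgebra.Quotient.Basic

/-!
# Complete Hausdorff modules with the deduced topology are inverse limits (helper21)
-/

set_option autoImplicit false
universe u v

namespace Groth.Agent.Lib.Helper21

namespace TopModComplete

variable {A : Type u} {M : Type v} [CommRing A] [TopologicalSpace A] [AddCommGroup M] [Module A M]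

section Top

variable [TopologicalSpace M]

lemma exists_le_of_isOpen (𝔍 : ℕ → Ideal A)
    (h𝔍basis : (nhds (0 : A)).HasBasis (fun _ : ℕ => True) (fun n => (𝔍 n : Set A)))
    (J : Ideal A) (hJ : IsOpen (J : Set A)) : ∃ k, 𝔍 k ≤ J := by
  obtain ⟨k, -, hk⟩ := h𝔍basis.mem_iff.1 (hJ.mem_nhds J.zero_mem)
  exact ⟨k, hk⟩

lemma smul_top_mem_nhds (hM : TopMod.IsDeduced A M) (J : Ideal A) (hJ : IsOpen (J : Set A)) :
    ((J • ⊤ : Submodule A M) : Set M) ∈ nhds (0 : M) := hM.2.mem_of_mem hJ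

lemma isOpen_smul_top (hM : TopMod.IsDeduced A M) (J : Ideal A) (hJ : IsOpen (J : Set A)) :
    IsOpen ((J • ⊤ : Submodule A M) : Set M) := by
  haveI := hM.1
  exact AddSubgroup.isOpen_of_mem_nhds (J • ⊤ : Submodule A M).toAddSubgroup
    (smul_top_mem_nhds hM J hJ)

lemma isClosed_smul_top (hM : TopMod.IsDeduced A M) (J : Ideal A) (hJ : IsOpen (J : Set A)) :
    IsClosed ((J • ⊤ : Submodule A M) : Set M) := by
  haveI := hM.1
  exact AddSubgroup.isClosed_of_isOpen (J • ⊤ : Submodule A M).toAddSubgroup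
    (isOpen_smul_top hM J hJ)

lemma eq_zero_of_forall_mem [T2Space M] (𝔍 : ℕ → Ideal A)
    (h𝔍basis : (nhds (0 : A)).HasBasis (fun _ : ℕ => True) (fun n => (𝔍 n : Set A)))
    (hM : TopMod.IsDeduced A M) (d : M) (hd : ∀ n, d ∈ (𝔍 n • ⊤ : Submodule A M)) : d = 0 := by
  by_contra hne
  have h1 : ({d}ᶜ : Set M) ∈ nhds (0 : M) :=
    isOpen_compl_singleton.mem_nhds (by simpa using Ne.symm hne)
  obtain ⟨J, hJ, hJd⟩ := hM.2.mem_iff.1 h1
  obtain ⟨k, hk⟩ := exists_le_of_isOpen 𝔍 h𝔍basis J hJ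
  have : d ∈ (J • ⊤ : Submodule A M) := Submodule.smul_mono hk le_rfl (hd k)
  exact hJd this rfl

end Top

section Unif

variable [UniformSpace M] [IsUniformAddGroup M] [CompleteSpace M] [T2Space M]

theorem existsUnique_of_compatible (𝔍 : ℕ → Ideal A) (h𝔍open : ∀ n, IsOpen (𝔍 n : Set A))
    (h𝔍anti : Antitone 𝔍)
    (h𝔍basis : (nhds (0 : A)).HasBasis (fun _ : ℕ => True) (fun n => (𝔍 n : Set A)))
    (hM : TopMod.IsDeduced A M)
    (z : ∀ n, M ⧸ (𝔍 n • ⊤ : Submodule A M))
    (hz : ∀ n, Submodule.factor (Submodule.smul_mono (h𝔍anti (Nat.le_succ n)) le_rfl) (z (n + 1)) =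
      z n) :
    ∃! m : M, ∀ n, (Submodule.Quotient.mk m : M ⧸ (𝔍 n • ⊤ : Submodule A M)) = z n := by
  choose r hr using fun n => Submodule.Quotient.mk_surjective _ (z n)
  have hstep : ∀ n, r (n + 1) - r n ∈ (𝔍 n • ⊤ : Submodule A M) := by
    intro n
    rw [← Submodule.Quotient.eq, hr n, ← hz n, ← hr (n + 1)]
    rfl
  have hle : ∀ i j, i ≤ j → r j - r i ∈ (𝔍 i • ⊤ : Submodule A M) := by
    intro i j hij
    induction j, hij using Nat.le_induction with
    | base => simp
    | succ j hij ih =>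
      have h1 : r (j + 1) - r i = (r (j + 1) - r j) + (r j - r i) := by abel
      rw [h1]
      exact Submodule.add_mem _ (Submodule.smul_mono (h𝔍anti hij) le_rfl (hstep j)) ih
  have hcauchy : CauchySeq r := by
    rw [cauchySeq_iff_tendsto, uniformity_eq_comap_nhds_zero M, Filter.tendsto_comap_iff]
    rw [hM.2.tendsto_right_iff]
    intro J hJ
    obtain ⟨k, hk⟩ := exists_le_of_isOpen 𝔍 h𝔍basis J hJ
    rw [Filter.eventually_atTop]
    refine ⟨(k, k), fun p hp => ?_⟩
    obtain ⟨hp1, hp2⟩ := Prod.mk_le_mk.1 hp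
    change r p.2 - r p.1 ∈ (J • ⊤ : Submodule A M)
    have h1 : r p.2 - r p.1 = (r p.2 - r k) - (r p.1 - r k) := by abel
    rw [h1]
    exact Submodule.smul_mono hk le_rfl (Submodule.sub_mem _ (hle k p.2 hp2) (hle k p.1 hp1))
  obtain ⟨m, hm⟩ := cauchySeq_tendsto_of_complete hcauchy
  have hmem : ∀ n, m - r n ∈ (𝔍 n • ⊤ : Submodule A M) := by
    intro n
    have hcl := isClosed_smul_top hM (𝔍 n) (h𝔍open n)
    have htend : Filter.Tendsto (fun j => r j - r n) Filter.atTop (nhds (m - r n)) :=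
      hm.sub tendsto_const_nhds
    refine hcl.mem_of_tendsto htend ?_
    rw [Filter.eventually_atTop]
    exact ⟨n, fun j hj => hle n j hj⟩
  refine ⟨m, fun n => ?_, fun m' hm' => ?_⟩
  · rw [← hr n, Submodule.Quotient.eq]
    exact hmem n
  · have : m' - m = 0 := by
      apply eq_zero_of_forall_mem 𝔍 h𝔍basis hM
      intro n
      rw [← Submodule.Quotient.eq, hm' n, ← hr n, eq_comm, Submodule.Quotient.eq]
      exact hmem n
    exact sub_eq_zero.1 this

end Unif

end TopModComplete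

end Groth.Agent.Lib.Helper21
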