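import Mathlib

set_option autoImplicit false
universe u v

namespace Groth.Agent.Lib.Helper21.TorusUnits

open AddMonoidAlgebra Finset

variable {A : Type u} [CommRing A] [IsDomain A] {G : Type v} [AddCommGroup G] [TwoUniqueSums G]

/-- In a group algebra `A[G]` over a domain with `G` having two unique sums, a product equal to `1`
forces both factors to be monomials. -/
theorem exists_single_of_mul_eq_one (f g : AddMonoidAlgebra A G) (h : f * g = 1) :
    ∃ (e : G) (a : A), f = single e a ∧ IsUnit a := by
  classical
  have hf0 : f ≠ 0 := by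
    rintro rfl
    rw [zero_mul] at h
    exact zero_ne_one h
  have hg0 : g ≠ 0 := by
    rintro rfl
    rw [mul_zero] at h
    exact zero_ne_one h
  have hfs : f.coeff.support.Nonempty := by
    rw [Finsupp.support_nonempty_iff]; intro h0; exact hf0 (coeff_injective (by simpa using h0))
  have hgs : g.coeff.support.Nonempty := by
    rw [Finsupp.support_nonempty_iff]; intro h0; exact hg0 (coeff_injective (by simpa using h0))
  have hcard : ¬ 1 < #f.coeff.support * #g.coeff.support := by
    intro hlt
    obtain ⟨p1, hp1, p2, hp2, hne, hu1, hu2⟩ := TwoUniqueSums.uniqueAdd_of_one_lt_card hlt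
    rw [mem_product] at hp1 hp2
    have c1 : (f * g).coeff (p1.1 + p1.2) ≠ 0 := by
      rw [coeff_mul_add_of_uniqueAdd hu1]
      exact mul_ne_zero (Finsupp.mem_support_iff.1 hp1.1) (Finsupp.mem_support_iff.1 hp1.2)
    have c2 : (f * g).coeff (p2.1 + p2.2) ≠ 0 := by
      rw [coeff_mul_add_of_uniqueAdd hu2]
      exact mul_ne_zero (Finsupp.mem_support_iff.1 hp2.1) (Finsupp.mem_support_iff.1 hp2.2)
    rw [h, one_def, coeff_single] at c1 c2
    have e1 : p1.1 + p1.2 = 0 := by
      by_contra hcon
      exact c1 (by simp [hcon])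
    have e2 : p2.1 + p2.2 = 0 := by
      by_contra hcon
      exact c2 (by simp [hcon])
    have := hu1 hp2.1 hp2.2 (e2.trans e1.symm)
    exact hne (Prod.ext this.1 this.2).symm
  have hf1 : #f.coeff.support = 1 := by
    have h1 : 0 < #f.coeff.support := Finset.card_pos.2 hfs
    have h2 : 0 < #g.coeff.support := Finset.card_pos.2 hgs
    by_contra hne
    have : 2 ≤ #f.coeff.support := by omega
    exact hcard (by nlinarith)
  have hg1 : #g.coeff.support = 1 := by
    have h1 : 0 < #f.coeff.support := Finset.card_pos.2 hfs
    have h2 : 0 < #g.coeff.support := Finset.card_pos.2 hgs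
    by_contra hne
    have : 2 ≤ #g.coeff.support := by omega
    exact hcard (by nlinarith)
  obtain ⟨e, a, ha, hfe⟩ := Finsupp.card_support_eq_one'.1 hf1
  obtain ⟨e', b, hb, hge⟩ := Finsupp.card_support_eq_one'.1 hg1
  have hf' : f = single e a := coeff_injective (by rw [hfe, coeff_single])
  have hg' : g = single e' b := coeff_injective (by rw [hge, coeff_single])
  refine ⟨e, a, hf', ?_⟩
  rw [hf', hg', single_mul_single, one_def] at h
  have := congrArg (fun x => x.coeff 0) h
  simp only [coeff_single] at this
  rw [single_inj] at h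
  rcases h with ⟨_, hab⟩ | ⟨hab, _⟩
  · exact IsUnit.of_mul_eq_one b hab
  · exact absurd hab (mul_ne_zero ha hb)

end Groth.Agent.Lib.Helper21.TorusUnits
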