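import Mathlib

set_option autoImplicit false
universe u

namespace Groth.Agent.Lib.Helper21.TorusUnits

open CategoryTheory CategoryTheory.Limits AddMonoidAlgebra

variable (G : Type) [AddCommGroup G]

/-- The lifted integral group ring. -/
abbrev R₀ : Type u := ULift.{u} (AddMonoidAlgebra ℤ G)

/-- The monomials of the lifted integral group ring. -/
noncomputable def mon : Multiplicative G →* R₀.{u} G :=
  (ULift.ringEquiv.symm : AddMonoidAlgebra ℤ G ≃+* R₀.{u} G).toRingHom.toMonoidHom.comp
    (AddMonoidAlgebra.of ℤ G)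

lemma mon_apply (m : Multiplicative G) : mon.{u} G m = ULift.up (single m.toAdd 1) := rfl

variable {G}
variable (A : CommRingCat.{u})

/-- Constants of `A[G]`. -/
noncomputable def ιA : A ⟶ CommRingCat.of (AddMonoidAlgebra A G) :=
  CommRingCat.ofHom singleZeroRingHom

/-- The map from the lifted integral group ring. -/
noncomputable def ψ₀ : R₀.{u} G →+* AddMonoidAlgebra A G :=
  (mapRingHom G (Int.castRingHom A)).comp
    (ULift.ringEquiv : R₀.{u} G ≃+* AddMonoidAlgebra ℤ G).toRingHom

lemma ψ₀_mon (m : Multiplicative G) : ψ₀ A (mon.{u} G m) = single m.toAdd 1 := by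
  change mapRingHom G (Int.castRingHom A) (single m.toAdd 1) = _
  rw [mapRingHom_single, map_one]

variable {A}

/-- Two ring homomorphisms out of the lifted integral group ring agreeing on monomials agree. -/
lemma R₀_hom_ext {C : Type*} [Semiring C] (f g : R₀.{u} G →+* C)
    (h : ∀ m : Multiplicative G, f (mon.{u} G m) = g (mon.{u} G m)) : f = g := by
  have key : f.comp (ULift.ringEquiv.symm : AddMonoidAlgebra ℤ G ≃+* R₀.{u} G).toRingHom =
      g.comp (ULift.ringEquiv.symm : AddMonoidAlgebra ℤ G ≃+* R₀.{u} G).toRingHom := by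
    apply AddMonoidAlgebra.ringHom_ext
    · intro r
      have : (f.comp (ULift.ringEquiv.symm : AddMonoidAlgebra ℤ G ≃+* R₀.{u} G).toRingHom).comp
          singleZeroRingHom = (g.comp (ULift.ringEquiv.symm :
            AddMonoidAlgebra ℤ G ≃+* R₀.{u} G).toRingHom).comp singleZeroRingHom :=
        RingHom.ext_int _ _
      exact congrArg (fun φ => φ r) this
    · intro m
      exact h (Multiplicative.ofAdd m)
  ext x
  have := congrArg (fun φ => φ x.down) key
  exact this

variable {Z₀ RT : CommRingCat.{u}} (φ₁ : Z₀ ⟶ A) (φ₂ : Z₀ ⟶ RT)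
  (θ : RT ≅ CommRingCat.of (R₀.{u} G))
  (hZ : ∀ (C : CommRingCat.{u}) (f g : Z₀ ⟶ C), f = g)

/-- The map `RT ⟶ A[G]`. -/
noncomputable def ψ : RT ⟶ CommRingCat.of (AddMonoidAlgebra A G) :=
  θ.hom ≫ CommRingCat.ofHom (ψ₀ A)

/-- The descent map out of `A[G]`. -/
noncomputable def descHom (s : PushoutCocone φ₁ φ₂) : AddMonoidAlgebra A G →+* s.pt :=
  liftNCRingHom s.inl.hom ((s.inr.hom.comp θ.inv.hom).toMonoidHom.comp (mon.{u} G))
    (fun _ _ => Commute.all _ _)

lemma descHom_single (s : PushoutCocone φ₁ φ₂) (e : G) (a : A) :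
    descHom φ₁ φ₂ θ s (single e a) =
      s.inl.hom a * s.inr.hom (θ.inv.hom (mon.{u} G (Multiplicative.ofAdd e))) := by
  unfold descHom
  rw [liftNCRingHom_single]
  rfl

lemma θ_hom_inv (x : R₀.{u} G) : θ.hom.hom (θ.inv.hom x) = x := by
  rw [← CommRingCat.comp_apply, Iso.inv_hom_id]; rfl

include hZ in
/-- `A[G]` is the pushout of `A` and `ℤ[G]` over an initial ring. -/
theorem isPushout_addMonoidAlgebra : IsPushout φ₁ φ₂ (ιA A (G := G)) (ψ θ) := by
  refine ⟨⟨hZ _ _ _⟩, ⟨PushoutCocone.IsColimit.mk _ (fun s => CommRingCat.ofHom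
    (descHom φ₁ φ₂ θ s)) ?_ ?_ ?_⟩⟩
  · intro s
    ext a
    change descHom φ₁ φ₂ θ s (single 0 a) = _
    rw [descHom_single]
    have : mon.{u} G (Multiplicative.ofAdd 0) = 1 := map_one _
    rw [this, map_one, map_one, mul_one]
  · intro s
    rw [← cancel_epi θ.inv]
    ext1
    apply R₀_hom_ext
    intro m
    change descHom φ₁ φ₂ θ s (ψ₀ A (θ.hom.hom (θ.inv.hom (mon G m)))) = s.inr.hom (θ.inv.hom _)
    rw [θ_hom_inv, ψ₀_mon, descHom_single, map_one, one_mul]
    rfl
  · intro s m h1 h2
    ext1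
    apply AddMonoidAlgebra.ringHom_ext
    · intro a
      have := congrArg (fun φ => φ.hom a) h1
      change m.hom (single 0 a) = _ at this
      rw [this]
      change _ = descHom φ₁ φ₂ θ s (single 0 a)
      rw [descHom_single]
      have : mon.{u} G (Multiplicative.ofAdd 0) = 1 := map_one _
      rw [this, map_one, map_one, mul_one]
    · intro e
      have := congrArg (fun φ => φ.hom (θ.inv.hom (mon G (Multiplicative.ofAdd e)))) h2
      change m.hom (ψ₀ A (θ.hom.hom (θ.inv.hom (mon G (Multiplicative.ofAdd e))))) = _ at this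
      rw [θ_hom_inv, ψ₀_mon] at this
      change m.hom (single e 1) = _ at this
      rw [this]
      change _ = descHom φ₁ φ₂ θ s (single e 1)
      rw [descHom_single, map_one, one_mul]

end Groth.Agent.Lib.Helper21.TorusUnits
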