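import Mathlib.AlgebraicGeometry.Limits
import Mathlib.AlgebraicGeometry.Properties
import Mathlib.Algebra.MonoidAlgebra.Basic
import Mathlib.Algebra.Ring.ULift
import Mathlib.AlgebraicGeometry.Morphisms.Flat
import Groth.Agent.Lib.Helper21.TorusUnitsAlg
import Groth.Agent.Lib.Helper21.TorusUnitsPushout

set_option autoImplicit false
universe u
open CategoryTheory CategoryTheory.Limits AlgebraicGeometry Opposite AddMonoidAlgebra

namespace Groth.Agent.Lib.Helper21.TorusUnits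

variable (X : Scheme.{u}) (n : ℕ)

/-- The split torus. -/
noncomputable abbrev Tor : Scheme.{u} :=
  Spec (CommRingCat.of (ULift.{u} (AddMonoidAlgebra ℤ (Fin n → ℤ))))

/-- The terminal scheme `Spec ℤ`. -/
noncomputable abbrev Zs : Scheme.{u} := Spec (CommRingCat.of (ULift.{u} ℤ))

lemma isPullback_prod : IsPullback (prod.fst : X ⨯ Tor.{u} n ⟶ X) prod.snd
    (specULiftZIsTerminal.{u}.from X) (specULiftZIsTerminal.{u}.from (Tor.{u} n)) :=
  IsPullback.of_is_product' (prodIsProd X (Tor.{u} n)) specULiftZIsTerminal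

lemma hom_ext_Zs (C : CommRingCat.{u}) (f g : Γ(Zs.{u}, ⊤) ⟶ C) : f = g := by
  rw [← cancel_epi (Scheme.ΓSpecIso (CommRingCat.of (ULift.{u} ℤ))).inv]
  exact CommRingCat.isInitial.hom_ext _ _

variable {X} {U : X.Opens} (hU : IsAffineOpen U)

include hU in
lemma isPushout_sections :
    IsPushout ((specULiftZIsTerminal.{u}.from X).appLE ⊤ U (by simp))
      ((specULiftZIsTerminal.{u}.from (Tor.{u} n)).appLE ⊤ ⊤ (by simp))
      ((prod.fst : X ⨯ Tor.{u} n ⟶ X).appLE U ((prod.fst : X ⨯ Tor.{u} n ⟶ X) ⁻¹ᵁ U) le_rfl)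
      ((prod.snd : X ⨯ Tor.{u} n ⟶ Tor.{u} n).appLE ⊤
        ((prod.fst : X ⨯ Tor.{u} n ⟶ X) ⁻¹ᵁ U) (by simp)) := by
  have hUY : (prod.fst : X ⨯ Tor.{u} n ⟶ X) ⁻¹ᵁ U =
      (prod.fst : X ⨯ Tor.{u} n ⟶ X) ⁻¹ᵁ U ⊓
        (prod.snd : X ⨯ Tor.{u} n ⟶ Tor.{u} n) ⁻¹ᵁ ⊤ := by simp
  have := isIso_pushoutSection_of_isAffineOpen (isPullback_prod X n)
    (US := ⊤) (UT := ⊤) (UX := U) (by simp) (by simp) hUY (isAffineOpen_top _)
    (isAffineOpen_top _) hU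
  exact (isIso_pushoutSection_iff (isPullback_prod X n) _ _ hUY).1 this

/-- `Γ(T, ⊤) ≅ ℤ[ℤⁿ]`. -/
noncomputable abbrev θT : Γ(Tor.{u} n, ⊤) ≅ CommRingCat.of (R₀.{u} (Fin n → ℤ)) :=
  Scheme.ΓSpecIso (CommRingCat.of (ULift.{u} (AddMonoidAlgebra ℤ (Fin n → ℤ))))

/-- The pullback of functions along the first projection, over `U`. -/
noncomputable abbrev αU : Γ(X, U) ⟶ Γ(X ⨯ Tor.{u} n, (prod.fst : X ⨯ Tor.{u} n ⟶ X) ⁻¹ᵁ U) :=
  (prod.fst : X ⨯ Tor.{u} n ⟶ X).appLE U ((prod.fst : X ⨯ Tor.{u} n ⟶ X) ⁻¹ᵁ U) le_rfl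

/-- The pullback of functions along the second projection, restricted over `U`. -/
noncomputable abbrev βU :
    Γ(Tor.{u} n, ⊤) ⟶ Γ(X ⨯ Tor.{u} n, (prod.fst : X ⨯ Tor.{u} n ⟶ X) ⁻¹ᵁ U) :=
  (prod.snd : X ⨯ Tor.{u} n ⟶ Tor.{u} n).appLE ⊤
    ((prod.fst : X ⨯ Tor.{u} n ⟶ X) ⁻¹ᵁ U) (by simp)

/-- The monomial `t^e` as a global function on the torus. -/
noncomputable def monT (e : Fin n → ℤ) : Γ(Tor.{u} n, ⊤) :=
  (θT n).inv.hom (ULift.up (AddMonoidAlgebra.single e 1))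

/-- `Γ(P, pr₁⁻¹ U) ≅ Γ(X,U)[ℤⁿ]`. -/
noncomputable def eU : Γ(X ⨯ Tor.{u} n, (prod.fst : X ⨯ Tor.{u} n ⟶ X) ⁻¹ᵁ U) ≅
    CommRingCat.of (AddMonoidAlgebra Γ(X, U) (Fin n → ℤ)) :=
  (isPushout_sections n hU).isoIsPushout _ _
    (isPushout_addMonoidAlgebra _ _ (θT n) hom_ext_Zs)

lemma eU_αU (a : Γ(X, U)) : (eU n hU).hom.hom ((αU n (U := U)).hom a) = single 0 a := by
  have := (isPushout_sections n hU).inl_isoIsPushout_hom _ _
    (isPushout_addMonoidAlgebra _ _ (θT n) hom_ext_Zs)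
  exact congrArg (fun φ => φ.hom a) this

lemma eU_βU_monT (e : Fin n → ℤ) :
    (eU n hU).hom.hom ((βU n (U := U)).hom (monT n e)) = single e 1 := by
  have := (isPushout_sections n hU).inr_isoIsPushout_hom _ _
    (isPushout_addMonoidAlgebra _ _ (θT n) hom_ext_Zs)
  have h2 := congrArg (fun φ => φ.hom (monT n e)) this
  refine h2.trans ?_
  change ψ₀ _ ((θT n).hom.hom ((θT n).inv.hom (mon.{u} (Fin n → ℤ) (Multiplicative.ofAdd e)))) = _
  rw [θ_hom_inv, ψ₀_mon]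
  rfl

lemma eU_mul (a : Γ(X, U)) (e : Fin n → ℤ) :
    (eU n hU).hom.hom ((αU n (U := U)).hom a * (βU n (U := U)).hom (monT n e)) = single e a := by
  rw [map_mul, eU_αU, eU_βU_monT, single_mul_single, zero_add, mul_one]

include hU in
/-- Local structure of units on `pr₁⁻¹ U`. -/
theorem exists_unit_decomp [IsDomain Γ(X, U)]
    (w : Γ(X ⨯ Tor.{u} n, (prod.fst : X ⨯ Tor.{u} n ⟶ X) ⁻¹ᵁ U)) (hw : IsUnit w) :
    ∃ (a : Γ(X, U)) (e : Fin n → ℤ), IsUnit a ∧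
      w = (αU n (U := U)).hom a * (βU n (U := U)).hom (monT n e) := by
  obtain ⟨w', hw'⟩ := hw.exists_right_inv
  have h1 : (eU n hU).hom.hom w * (eU n hU).hom.hom w' = 1 := by
    rw [← map_mul, hw', map_one]
  obtain ⟨e, a, hea, ha⟩ := exists_single_of_mul_eq_one _ _ h1
  refine ⟨a, e, ha, ?_⟩
  have hinj : Function.Injective (eU n hU).hom.hom :=
    (ConcreteCategory.bijective_of_isIso (eU n hU).hom).injective
  apply hinj
  rw [hea, eU_mul]

include hU in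
/-- Uniqueness of the decomposition. -/
theorem unit_decomp_unique [Nontrivial Γ(X, U)] (a a' : Γ(X, U)) (e e' : Fin n → ℤ) (ha : a ≠ 0)
    (h : (αU n (U := U)).hom a * (βU n (U := U)).hom (monT n e) =
      (αU n (U := U)).hom a' * (βU n (U := U)).hom (monT n e')) : e = e' ∧ a = a' := by
  have := congrArg (eU n hU).hom.hom h
  rw [eU_mul, eU_mul, single_inj] at this
  rcases this with h1 | h1
  · exact h1
  · exact absurd h1.1 ha

section Global

variable (X)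

lemma monT_add (e e' : Fin n → ℤ) : monT.{u} n (e + e') = monT n e * monT n e' := by
  unfold monT
  rw [← map_mul]
  congr 1
  change ULift.up _ = ULift.up (_ * _)
  rw [single_mul_single, mul_one]

lemma monT_zero : monT.{u} n 0 = 1 := by
  unfold monT
  have : (ULift.up (single (0 : Fin n → ℤ) (1 : ℤ)) : R₀.{u} (Fin n → ℤ)) = 1 := rfl
  rw [this, map_one]

/-- The monomial `t^e` pulled back to the product. -/
noncomputable def tau (e : Fin n → ℤ) : Γ(X ⨯ Tor.{u} n, ⊤) :=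
  (prod.snd : X ⨯ Tor.{u} n ⟶ Tor.{u} n).appTop.hom (monT n e)

lemma tau_add (e e' : Fin n → ℤ) : tau X n (e + e') = tau X n e * tau X n e' := by
  unfold tau; rw [monT_add, map_mul]

lemma tau_zero : tau X n 0 = 1 := by
  unfold tau; rw [monT_zero, map_one]

lemma isUnit_tau (e : Fin n → ℤ) : IsUnit (tau X n e) :=
  IsUnit.of_mul_eq_one (tau X n (-e)) (by rw [← tau_add, add_neg_cancel, tau_zero])

/-- Restriction of global functions on the product to `pr₁⁻¹ U`. -/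
noncomputable def resP (U : X.Opens) :
    Γ(X ⨯ Tor.{u} n, ⊤) →+* Γ(X ⨯ Tor.{u} n, (prod.fst : X ⨯ Tor.{u} n ⟶ X) ⁻¹ᵁ U) :=
  ((X ⨯ Tor.{u} n).presheaf.map (homOfLE le_top).op).hom

/-- Restriction of global functions on `X`. -/
noncomputable def resX (U : X.Opens) : Γ(X, ⊤) →+* Γ(X, U) :=
  (X.presheaf.map (homOfLE le_top).op).hom

lemma resP_fst (U : X.Opens) (a : Γ(X, ⊤)) :
    resP X n U ((prod.fst : X ⨯ Tor.{u} n ⟶ X).appTop.hom a) =
      (αU n (U := U)).hom (resX X U a) := by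
  have h1 : (prod.fst : X ⨯ Tor.{u} n ⟶ X).appTop ≫
      (X ⨯ Tor.{u} n).presheaf.map (homOfLE le_top).op =
      X.presheaf.map (homOfLE le_top).op ≫ αU n (U := U) := by
    simp only [Scheme.Hom.appLE, Scheme.Hom.appTop]
    rw [Scheme.Hom.naturality_assoc, ← Functor.map_comp]
    rfl
  exact congrArg (fun φ => φ.hom a) h1

lemma resP_tau (U : X.Opens) (e : Fin n → ℤ) :
    resP X n U (tau X n e) = (βU n (U := U)).hom (monT n e) := by
  have h1 : (prod.snd : X ⨯ Tor.{u} n ⟶ Tor.{u} n).appTop ≫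
      (X ⨯ Tor.{u} n).presheaf.map (homOfLE le_top).op = βU n (U := U) := by
    simp only [Scheme.Hom.appLE, Scheme.Hom.appTop]
    rfl
  exact congrArg (fun φ => φ.hom (monT n e)) h1

variable {X}

/-- Restriction between the opens `pr₁⁻¹ U`. -/
noncomputable def resPP {U U' : X.Opens} (h : U' ≤ U) :
    Γ(X ⨯ Tor.{u} n, (prod.fst : X ⨯ Tor.{u} n ⟶ X) ⁻¹ᵁ U) →+*
      Γ(X ⨯ Tor.{u} n, (prod.fst : X ⨯ Tor.{u} n ⟶ X) ⁻¹ᵁ U') :=
  ((X ⨯ Tor.{u} n).presheaf.map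
    (homOfLE ((prod.fst : X ⨯ Tor.{u} n ⟶ X).preimage_mono h)).op).hom

lemma resPP_resP {U U' : X.Opens} (h : U' ≤ U) (s : Γ(X ⨯ Tor.{u} n, ⊤)) :
    resPP n h (resP X n U s) = resP X n U' s := by
  unfold resPP resP
  rw [← CommRingCat.comp_apply, ← Functor.map_comp]
  rfl

lemma resPP_αU {U U' : X.Opens} (h : U' ≤ U) (a : Γ(X, U)) :
    resPP n h ((αU n (U := U)).hom a) =
      (αU n (U := U')).hom ((X.presheaf.map (homOfLE h).op).hom a) := by
  have h1 : αU n (U := U) ≫ (X ⨯ Tor.{u} n).presheaf.map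
      (homOfLE ((prod.fst : X ⨯ Tor.{u} n ⟶ X).preimage_mono h)).op =
      X.presheaf.map (homOfLE h).op ≫ αU n (U := U') := by
    rw [Scheme.Hom.appLE_map, Scheme.Hom.map_appLE]
  exact congrArg (fun φ => φ.hom a) h1

lemma resPP_βU {U U' : X.Opens} (h : U' ≤ U) (m : Γ(Tor.{u} n, ⊤)) :
    resPP n h ((βU n (U := U)).hom m) = (βU n (U := U')).hom m := by
  have h1 : βU n (U := U) ≫ (X ⨯ Tor.{u} n).presheaf.map
      (homOfLE ((prod.fst : X ⨯ Tor.{u} n ⟶ X).preimage_mono h)).op = βU n (U := U') := by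
    rw [Scheme.Hom.appLE_map]
  exact congrArg (fun φ => φ.hom m) h1

end Global

section Main

variable (X) [IsIntegral X]

/-- A local decomposition of `v` over `U`. -/
def Dec (v : Γ(X ⨯ Tor.{u} n, ⊤)) (U : X.Opens) (a : Γ(X, U)) (e : Fin n → ℤ) : Prop :=
  IsUnit a ∧ resP X n U v = (αU n (U := U)).hom a * (βU n (U := U)).hom (monT n e)

variable {X}

lemma exists_dec {v : Γ(X ⨯ Tor.{u} n, ⊤)} (hv : IsUnit v) {U : X.Opens} (hU : IsAffineOpen U)
    [Nonempty U] : ∃ a e, Dec X n v U a e :=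
  exists_unit_decomp n hU (resP X n U v) (hv.map _)

omit [IsIntegral X] in
lemma dec_mono {v : Γ(X ⨯ Tor.{u} n, ⊤)} {U U' : X.Opens} (hU' : IsAffineOpen U') [Nonempty U']
    (h : U' ≤ U) {a : Γ(X, U)} {e : Fin n → ℤ} {a' : Γ(X, U')} {e' : Fin n → ℤ}
    (hd : Dec X n v U a e) (hd' : Dec X n v U' a' e') :
    e = e' ∧ (X.presheaf.map (homOfLE h).op).hom a = a' := by
  have h1 := congrArg (resPP n h) hd.2
  rw [resPP_resP, map_mul, resPP_αU, resPP_βU, hd'.2] at h1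
  have hne : (X.presheaf.map (homOfLE h).op).hom a ≠ 0 := (hd.1.map _).ne_zero
  exact unit_decomp_unique n hU' _ _ _ _ hne h1.symm

lemma dec_const {v : Γ(X ⨯ Tor.{u} n, ⊤)} (hv : IsUnit v) {U₁ U₂ : X.Opens}
    [Nonempty U₁] [Nonempty U₂]
    {a₁ : Γ(X, U₁)} {e₁ : Fin n → ℤ} {a₂ : Γ(X, U₂)} {e₂ : Fin n → ℤ}
    (hd₁ : Dec X n v U₁ a₁ e₁) (hd₂ : Dec X n v U₂ a₂ e₂) : e₁ = e₂ := by
  obtain ⟨x, hx⟩ : ((U₁ : Set X) ∩ (U₂ : Set X)).Nonempty := by
    obtain ⟨⟨x₁, hx₁⟩⟩ := (inferInstance : Nonempty U₁)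
    obtain ⟨⟨x₂, hx₂⟩⟩ := (inferInstance : Nonempty U₂)
    exact nonempty_preirreducible_inter U₁.2 U₂.2 ⟨x₁, hx₁⟩ ⟨x₂, hx₂⟩
  obtain ⟨_, ⟨U₃, hU₃ : IsAffineOpen U₃, rfl⟩, hxU₃, hsub⟩ :=
    X.isBasis_affineOpens.exists_subset_of_mem_open hx (U₁ ⊓ U₂).2
  haveI : Nonempty U₃ := ⟨⟨x, hxU₃⟩⟩
  obtain ⟨a₃, e₃, hd₃⟩ := exists_dec n hv hU₃
  have h31 : U₃ ≤ U₁ := fun y hy => (hsub hy).1
  have h32 : U₃ ≤ U₂ := fun y hy => (hsub hy).2
  rw [(dec_mono n hU₃ h31 hd₁ hd₃).1, (dec_mono n hU₃ h32 hd₂ hd₃).1]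

variable (X)

/-- Some ring homomorphism out of the integral group ring. -/
noncomputable def aug : R₀.{u} (Fin n → ℤ) →+* Γ(X, ⊤) :=
  (liftNCRingHom (Int.castRingHom Γ(X, ⊤)) (1 : Multiplicative (Fin n → ℤ) →* Γ(X, ⊤))
    (fun _ _ => Commute.all _ _)).comp
    (ULift.ringEquiv : R₀.{u} (Fin n → ℤ) ≃+* AddMonoidAlgebra ℤ (Fin n → ℤ)).toRingHom

/-- A section of the first projection. -/
noncomputable def sec : X ⟶ X ⨯ Tor.{u} n :=
  prod.lift (𝟙 X) (X.toSpecΓ ≫ Spec.map (CommRingCat.ofHom (aug X n)))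

omit [IsIntegral X] in
lemma sec_fst : sec X n ≫ prod.fst = 𝟙 X := prod.lift_fst _ _

omit [IsIntegral X] in
lemma le_sec_preimage (U : X.Opens) :
    U ≤ (sec X n) ⁻¹ᵁ ((prod.fst : X ⨯ Tor.{u} n ⟶ X) ⁻¹ᵁ U) := by
  rw [← Scheme.Hom.comp_preimage, sec_fst]
  exact le_rfl

/-- Pullback along the section over `U`. -/
noncomputable def σU (U : X.Opens) :
    Γ(X ⨯ Tor.{u} n, (prod.fst : X ⨯ Tor.{u} n ⟶ X) ⁻¹ᵁ U) ⟶ Γ(X, U) :=
  (sec X n).appLE _ U (le_sec_preimage X n U)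

omit [IsIntegral X] in
lemma σU_αU (U : X.Opens) (a : Γ(X, U)) : (σU X n U).hom ((αU n (U := U)).hom a) = a := by
  have h1 : αU n (U := U) ≫ σU X n U = 𝟙 _ := by
    unfold σU
    rw [Scheme.Hom.appLE_comp_appLE]
    have : ∀ (f : X ⟶ X) (hf : f = 𝟙 X) (e : U ≤ f ⁻¹ᵁ U), f.appLE U U e = 𝟙 _ := by
      intro f hf e
      subst hf
      simp only [Scheme.Hom.appLE, Scheme.Hom.id_app]
      exact (Category.id_comp _).trans (X.presheaf.map_id (Opposite.op U))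
    exact this _ (sec_fst X n) _
  exact congrArg (fun φ => φ.hom a) h1

omit [IsIntegral X] in
lemma resX_sec (U : X.Opens) (s : Γ(X ⨯ Tor.{u} n, ⊤)) :
    resX X U ((sec X n).appTop.hom s) = (σU X n U).hom (resP X n U s) := by
  have h1 : (sec X n).appTop ≫ X.presheaf.map (homOfLE le_top).op =
      (X ⨯ Tor.{u} n).presheaf.map (homOfLE le_top).op ≫ σU X n U := by
    unfold σU
    rw [Scheme.Hom.map_appLE]
    simp only [Scheme.Hom.appLE, Scheme.Hom.appTop]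
    rfl
  exact congrArg (fun φ => φ.hom s) h1

/-- Existence and uniqueness of the decomposition of a unit on `X × 𝔾ₘⁿ`. -/
theorem existsUnique_units (v : Γ(X ⨯ Tor.{u} n, ⊤)) (hv : IsUnit v) :
    ∃! p : (Γ(X, ⊤))ˣ × (Fin n → ℤ),
      v = (prod.fst : X ⨯ Tor.{u} n ⟶ X).appTop.hom (p.1 : Γ(X, ⊤)) * tau X n p.2 := by
  -- a fixed nonempty affine open
  obtain ⟨x₀⟩ : Nonempty X := inferInstance
  obtain ⟨_, ⟨U₀, hU₀ : IsAffineOpen U₀, rfl⟩, hx₀, -⟩ :=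
    X.isBasis_affineOpens.exists_subset_of_mem_open (Set.mem_univ x₀) isOpen_univ
  haveI : Nonempty U₀ := ⟨⟨x₀, hx₀⟩⟩
  obtain ⟨a₀, e, hd₀⟩ := exists_dec n hv hU₀
  -- the candidate
  set w := v * tau X n (-e) with hw
  have hwu : IsUnit w := hv.mul (isUnit_tau X n _)
  have huu : IsUnit ((sec X n).appTop.hom w) := hwu.map _
  have hvw : v = w * tau X n e := by
    rw [hw, mul_assoc, ← tau_add, neg_add_cancel, tau_zero, mul_one]
  -- local computation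
  have hloc : ∀ (U : X.Opens) (hU : IsAffineOpen U) [Nonempty U],
      resP X n U w = (αU n (U := U)).hom (resX X U ((sec X n).appTop.hom w)) := by
    intro U hU _
    obtain ⟨a, e', hd⟩ := exists_dec n hv hU
    have he : e' = e := dec_const n hv hd hd₀
    subst he
    have h1 : resP X n U w = (αU n (U := U)).hom a := by
      rw [hw, map_mul, hd.2, resP_tau, mul_assoc, ← map_mul, ← monT_add, add_neg_cancel, monT_zero,
        map_one, mul_one]
    rw [resX_sec, h1, σU_αU]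
  refine ⟨(huu.unit, e), ?_, ?_⟩
  · -- existence
    change v = (prod.fst : X ⨯ Tor.{u} n ⟶ X).appTop.hom ((sec X n).appTop.hom w) * tau X n e
    rw [hvw]
    congr 1
    -- check on the cover by `pr₁⁻¹ U`
    refine (X ⨯ Tor.{u} n).sheaf.eq_of_locally_eq'
      (fun U : {U : X.affineOpens // Nonempty U.1} =>
        (prod.fst : X ⨯ Tor.{u} n ⟶ X) ⁻¹ᵁ U.1.1) ⊤
      (fun U => homOfLE le_top) ?_ _ _ ?_
    · intro p _
      obtain ⟨_, ⟨U, hU : IsAffineOpen U, rfl⟩, hpU, -⟩ :=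
        X.isBasis_affineOpens.exists_subset_of_mem_open
          (Set.mem_univ ((prod.fst : X ⨯ Tor.{u} n ⟶ X) p)) isOpen_univ
      exact TopologicalSpace.Opens.mem_iSup.2 ⟨⟨⟨U, hU⟩, ⟨⟨_, hpU⟩⟩⟩, hpU⟩
    · rintro ⟨⟨U, hU⟩, hne⟩
      haveI : Nonempty U := hne
      have := hloc U hU
      rw [← resP_fst] at this
      exact this
  · -- uniqueness
    rintro ⟨u', e'⟩ hp
    simp only at hp
    have hd' : Dec X n v U₀ (resX X U₀ (u' : Γ(X, ⊤))) e' := by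
      refine ⟨(u'.isUnit.map _), ?_⟩
      rw [hp, map_mul, resP_fst, resP_tau]
    have h1 := unit_decomp_unique n hU₀ _ _ _ _ hd'.1.ne_zero (hd'.2.symm.trans hd₀.2)
    have he : e' = e := h1.1
    subst he
    have hd'' : Dec X n v U₀ (resX X U₀ ((sec X n).appTop.hom w)) e' := by
      refine ⟨huu.map _, ?_⟩
      rw [hvw, map_mul, hloc U₀ hU₀, resP_tau]
    have h2 := unit_decomp_unique n hU₀ _ _ _ _ hd'.1.ne_zero (hd'.2.symm.trans hd''.2)
    have hinj : Function.Injective (resX X U₀) :=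
      map_injective_of_isIntegral X (homOfLE le_top)
    have h3 : (u' : Γ(X, ⊤)) = (sec X n).appTop.hom w := hinj h2.2
    refine Prod.ext (Units.ext ?_) rfl
    exact h3

end Main

end Groth.Agent.Lib.Helper21.TorusUnits
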