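import Mathlib
import Groth.Agent.Lib.Helper21.PurityLocalIso
import Groth.Agent.Lib.Helper55.DimPoint
import Groth.Agent.Lib.Helper55.DimAttained
import Groth.Agent.Lib.Helper55.Catenary
import Groth.Agent.Lib.Helper98.AuslanderBuchsbaum
import Groth.Agent.S1535
import Groth.Agent.S2852

set_option autoImplicit false
universe u
open CategoryTheory CategoryTheory.Limits AlgebraicGeometry

namespace Groth.Agent.Lib.Helper21.VdW

open Groth.Agent.Lib.Helper55

/-- Generic points of irreducible components of a closed subspace of a sober space. -/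
lemma exists_generic_of_mem_irreducibleComponents {X : Type*} [TopologicalSpace X] [QuasiSober X]
    [T0Space X] (E : Set X) (hE : IsClosed E) (Z : Set ↥E) (hZ : Z ∈ irreducibleComponents ↥E) :
    ∃ w : ↥E, Z = closure {w} ∧ ∀ η : X, η ∈ E → η ⤳ w.1 → η = w.1 := by
  haveI : QuasiSober ↥E := hE.isClosedEmbedding_subtypeVal.quasiSober
  have hZc : IsClosed Z := isClosed_of_mem_irreducibleComponents Z hZ
  obtain ⟨w, hw⟩ := QuasiSober.sober hZ.1 hZc
  refine ⟨w, hw.def.symm, fun η hη hs => ?_⟩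
  have hs' : (⟨η, hη⟩ : ↥E) ⤳ w := (subtype_specializes_iff _ _).mpr hs
  have h1 : Z ⊆ closure {(⟨η, hη⟩ : ↥E)} := by
    rw [← hw.def]
    exact closure_minimal (Set.singleton_subset_iff.mpr (specializes_iff_mem_closure.mp hs'))
      isClosed_closure
  have h2 : closure {(⟨η, hη⟩ : ↥E)} ⊆ Z := hZ.2 isIrreducible_singleton.closure h1
  have h3 : w ⤳ (⟨η, hη⟩ : ↥E) := by
    rw [specializes_iff_mem_closure, hw.def]
    exact h2 (subset_closure rfl)
  exact congrArg Subtype.val (hs'.antisymm h3).eq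


/-- If a separated morphism from an integral scheme restricts to an open immersion on a nonempty
open `W`, then it is an isomorphism over the image of `W`, and the preimage of that image is `W`. -/
lemma isIso_morphismRestrict_opensRange {X Y : Scheme.{u}} [IsIntegral X] (g : X ⟶ Y)
    [IsSeparated g] (W : X.Opens) (hne : (W : Set X).Nonempty) [IsOpenImmersion (W.ι ≫ g)] :
    g ⁻¹ᵁ (W.ι ≫ g).opensRange = W ∧ IsIso (g ∣_ (W.ι ≫ g).opensRange) := by
  obtain ⟨x₁, hx₁⟩ := hne
  set f₁ : W.toScheme ⟶ Y := W.ι ≫ g with hf₁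
  set V : Y.Opens := f₁.opensRange with hV
  set s : V.toScheme ⟶ X := f₁.isoOpensRange.inv ≫ W.ι with hs
  have hsg : s ≫ g = V.ι := by
    rw [hs, Category.assoc, ← hf₁, Scheme.Hom.isoOpensRange_inv_comp]
  set X' : X.Opens := g ⁻¹ᵁ V with hX'
  have hWX' : W ≤ X' := by
    intro u hu
    exact ⟨⟨u, hu⟩, rfl⟩
  haveI : Nonempty X' := ⟨⟨x₁, hWX' hx₁⟩⟩
  haveI : Nonempty W := ⟨⟨x₁, hx₁⟩⟩
  set a : X'.toScheme ⟶ X := X'.ι with ha
  set b : X'.toScheme ⟶ X := (g ∣_ V) ≫ s with hb
  have hab : a ≫ g = b ≫ g := by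
    rw [hb, Category.assoc, hsg, morphismRestrict_ι]
  set ι : W.toScheme ⟶ X'.toScheme := X.homOfLE hWX' with hι
  have hιa : ι ≫ a = W.ι := X.homOfLE_ι hWX'
  have hιg : ι ≫ (g ∣_ V) = f₁.isoOpensRange.hom := by
    rw [← cancel_mono V.ι, Category.assoc, morphismRestrict_ι, ← Category.assoc, hιa,
      Scheme.Hom.isoOpensRange_hom_ι]
  have hιb : ι ≫ b = W.ι := by
    rw [hb, ← Category.assoc, hιg, hs, ← Category.assoc, Iso.hom_inv_id, Category.id_comp]
  haveI : IsDominant ι := by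
    constructor
    have hopen : IsOpen (Set.range ι) := ι.isOpenEmbedding.isOpen_range
    exact hopen.dense ⟨ι ⟨x₁, hx₁⟩, ⟨_, rfl⟩⟩
  have heq : a = b := ext_of_isDominant_of_isSeparated g hab ι (hιa.trans hιb.symm)
  have e2 : ∀ z : X', (z : X) = s ((g ∣_ V) z) := by
    intro z
    have : a z = b z := by rw [heq]
    rw [hb, Scheme.Hom.comp_apply] at this
    exact this
  have hX'W : X' ≤ W := by
    intro z hz
    have := e2 ⟨z, hz⟩
    rw [hs, Scheme.Hom.comp_apply] at this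
    show z ∈ W
    rw [show z = _ from this]
    exact (f₁.isoOpensRange.inv ((g ∣_ V) ⟨z, hz⟩)).2
  refine ⟨le_antisymm hX'W hWX', ?_⟩
  have hrange : Set.range s ⊆ Set.range X'.ι := by
    rintro _ ⟨v, rfl⟩
    rw [Scheme.Opens.range_ι]
    show g (s v) ∈ V
    rw [← Scheme.Hom.comp_apply, hsg]
    exact v.2
  let s' : V.toScheme ⟶ X'.toScheme := IsOpenImmersion.lift X'.ι s hrange
  have hs' : s' ≫ X'.ι = s := IsOpenImmersion.lift_fac _ _ _
  refine ⟨⟨s', ?_, ?_⟩⟩
  · rw [← cancel_mono X'.ι, Category.assoc, hs', Category.id_comp]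
    exact heq.symm
  · rw [← cancel_mono V.ι, Category.assoc, morphismRestrict_ι, ← Category.assoc, hs', hsg,
      Category.id_comp]

/-- For a separated morphism from an integral scheme, the exceptional locus (points over which the
morphism is not an isomorphism near the image) is the locus where the morphism is not a local
open immersion. -/
lemma exc_iff {X Y : Scheme.{u}} [IsIntegral X] (f : X ⟶ Y) [IsSeparated f] (x : X) :
    (∀ V : Y.Opens, f x ∈ V → ¬ IsIso (f ∣_ V)) ↔
      ¬ ∃ W : X.Opens, x ∈ W ∧ IsOpenImmersion (W.ι ≫ f) := by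
  constructor
  · rintro h ⟨W, hxW, hW⟩
    haveI := hW
    refine h (W.ι ≫ f).opensRange ⟨⟨x, hxW⟩, rfl⟩ ?_
    exact (isIso_morphismRestrict_opensRange f W ⟨x, hxW⟩).2
  · intro h V hxV hiso
    refine h ⟨f ⁻¹ᵁ V, hxV, ?_⟩
    rw [← morphismRestrict_ι]
    infer_instance


/-- On an integral scheme locally of finite type over a field, the closure of a point of
codimension one has dimension one less than the scheme. -/
theorem dim_closure_add_one {k : Type u} [Field k] {X : Scheme.{u}}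
    (f : X ⟶ Spec (CommRingCat.of k)) [LocallyOfFiniteType f] [IsIntegral X] (ξ : X)
    (hξ : ringKrullDim (X.presheaf.stalk ξ) = 1) :
    topologicalKrullDim ↥(closure ({ξ} : Set X)) + 1 = topologicalKrullDim X := by
  obtain ⟨_, ⟨U, hU : IsAffineOpen U, rfl⟩, hξU, -⟩ :=
    X.isBasis_affineOpens.exists_subset_of_mem_open (Set.mem_univ ξ) isOpen_univ
  haveI : Nonempty U := ⟨⟨ξ, hξU⟩⟩
  let φA : CommRingCat.of k ⟶ Γ(X, U) := Spec.preimage (hU.fromSpec ≫ f)
  letI : Algebra k Γ(X, U) := φA.hom.toAlgebra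
  have ha : hU.fromSpec ≫ f = Spec.map (CommRingCat.ofHom (algebraMap k Γ(X, U))) :=
    (Spec.map_preimage _).symm
  haveI hftA : Algebra.FiniteType k Γ(X, U) := by
    have h1 : LocallyOfFiniteType (hU.fromSpec ≫ f) := inferInstance
    rw [ha, HasRingHomProperty.Spec_iff (P := @LocallyOfFiniteType)] at h1
    exact h1
  haveI : IsDomain Γ(X, U) := inferInstance
  set 𝔔 := hU.primeIdealOf ⟨ξ, hξU⟩ with h𝔔
  -- dimension of the closure of ξ
  have h1 := topologicalKrullDim_closure_chart f hU.fromSpec 𝔔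
  rw [hU.fromSpec_primeIdealOf ⟨ξ, hξU⟩] at h1
  -- dimension of X
  let 𝔔₀ : Spec Γ(X, U) := ⟨⊥, Ideal.isPrime_bot⟩
  have h2 := topologicalKrullDim_closure_chart f hU.fromSpec 𝔔₀
  have hcl : closure ({hU.fromSpec 𝔔₀} : Set X) = Set.univ := by
    have hsub : (U : Set X) ⊆ closure {hU.fromSpec 𝔔₀} := by
      rw [← hU.range_fromSpec]
      rintro _ ⟨p, rfl⟩
      have hs : 𝔔₀ ⤳ p :=
        (PrimeSpectrum.le_iff_specializes (𝔔₀ : PrimeSpectrum Γ(X, U)) p).mp bot_le
      exact specializes_iff_mem_closure.mp (hs.map hU.fromSpec.continuous)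
    have hd : Dense (U : Set X) := U.2.dense ⟨ξ, hξU⟩
    exact Set.eq_univ_of_univ_subset (hd.closure_eq ▸ closure_minimal hsub isClosed_closure)
  have h3 : topologicalKrullDim X = ringKrullDim Γ(X, U) := by
    have e1 : topologicalKrullDim ↥(Set.univ : Set X) = topologicalKrullDim X :=
      IsHomeomorph.topologicalKrullDim_eq _ (Homeomorph.Set.univ X).isHomeomorph
    rw [← e1, ← hcl, h2]
    exact ringKrullDim_eq_of_ringEquiv (RingEquiv.quotientBot Γ(X, U))
  -- the height of `𝔔` is one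
  have h4 : (𝔔.asIdeal.height : WithBot ℕ∞) = 1 := by
    letI := TopCat.Presheaf.algebra_section_stalk X.presheaf (U := U) ⟨ξ, hξU⟩
    haveI := hU.isLocalization_stalk ⟨ξ, hξU⟩
    rw [← IsLocalization.AtPrime.ringKrullDim_eq_height 𝔔.asIdeal (X.presheaf.stalk ξ), hξ]
  have h5 := ringKrullDim_quotient_add_height k Γ(X, U) 𝔔.asIdeal
  rw [h1, h3, ← h5, h4]


/-- van der Waerden purity for birational separated morphisms of varieties with smooth target. -/
theorem dim_irreducibleComponent_exceptionalLocus (k : Type u) [Field k]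
    (X Y : Scheme.{u}) [X.Over (Spec (CommRingCat.of k))] [Y.Over (Spec (CommRingCat.of k))]
    [IsIntegral X] [IsSeparated (X ↘ (Spec (CommRingCat.of k)))]
    [LocallyOfFiniteType (X ↘ (Spec (CommRingCat.of k)))]
    [IsIntegral Y] [LocallyOfFiniteType (Y ↘ (Spec (CommRingCat.of k)))]
    [Smooth (Y ↘ (Spec (CommRingCat.of k)))]
    (f : X ⟶ Y) (hf : f ≫ (Y ↘ (Spec (CommRingCat.of k))) = (X ↘ (Spec (CommRingCat.of k))))
    (hbir : ∃ V : Y.Opens, (V : Set Y).Nonempty ∧ IsIso (f ∣_ V)) :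
    ∀ Z ∈ irreducibleComponents ↥{x : X | ∀ V : Y.Opens, f x ∈ V → ¬ IsIso (f ∣_ V)},
      topologicalKrullDim ↥Z + 1 = topologicalKrullDim X := by
  haveI : IsSeparated (f ≫ (Y ↘ (Spec (CommRingCat.of k)))) := by rw [hf]; infer_instance
  haveI : IsSeparated f := IsSeparated.of_comp f (Y ↘ (Spec (CommRingCat.of k)))
  haveI : LocallyOfFiniteType (f ≫ (Y ↘ (Spec (CommRingCat.of k)))) := by rw [hf]; infer_instance
  haveI : LocallyOfFiniteType f := locallyOfFiniteType_of_comp f (Y ↘ (Spec (CommRingCat.of k)))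
  haveI : IsLocallyNoetherian X :=
    LocallyOfFiniteType.isLocallyNoetherian (X ↘ (Spec (CommRingCat.of k)))
  haveI : IsLocallyNoetherian Y :=
    LocallyOfFiniteType.isLocallyNoetherian (Y ↘ (Spec (CommRingCat.of k)))
  have hY : ∀ y : ↥Y, UniqueFactorizationMonoid (Y.presheaf.stalk y) := fun y => by
    haveI : IsRegularLocalRing (Y.presheaf.stalk y) := Groth.Agent.S1535.result k Y y
    exact Groth.Agent.Lib.Helper98.ufm_of_isRegularLocalRing _
  have hV : ∃ (W : X.Opens), (W : Set ↥X).Nonempty ∧ IsOpenImmersion (W.ι ≫ f) := by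
    obtain ⟨V, ⟨y, hy⟩, hiso⟩ := hbir
    refine ⟨f ⁻¹ᵁ V, ?_, ?_⟩
    · obtain ⟨x, hx⟩ := ((ConcreteCategory.bijective_of_isIso (f ∣_ V).base).2 ⟨y, hy⟩)
      exact ⟨x.1, x.2⟩
    · rw [← morphismRestrict_ι]
      infer_instance
  set E : Set X := {x : X | ∀ V : Y.Opens, f x ∈ V → ¬ IsIso (f ∣_ V)} with hE
  have hET : ∀ x, x ∈ E ↔ ¬ ∃ W : X.Opens, x ∈ W ∧ IsOpenImmersion (W.ι ≫ f) := fun x => exc_iff f x
  have hEc : IsClosed E := by
    rw [← isOpen_compl_iff, isOpen_iff_forall_mem_open]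
    intro x hx
    rw [Set.mem_compl_iff, hET, not_not] at hx
    obtain ⟨W, hxW, hW⟩ := hx
    refine ⟨W, fun z hz => ?_, W.2, hxW⟩
    rw [Set.mem_compl_iff, hET, not_not]
    exact ⟨W, hz, hW⟩
  intro Z hZ
  obtain ⟨w, hZw, hmax⟩ := exists_generic_of_mem_irreducibleComponents E hEc Z hZ
  have hdim1 : ringKrullDim (X.presheaf.stalk w.1) = 1 :=
    Groth.Agent.S2852.result f hY hV w.1 ((hET _).mp w.2)
      (fun η hη hs => hmax η ((hET _).mpr hη) hs)
  subst hZw
  rw [topologicalKrullDim_closure_subtype E hEc w]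
  exact dim_closure_add_one (X ↘ (Spec (CommRingCat.of k))) w.1 hdim1

end Groth.Agent.Lib.Helper21.VdW
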