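import Groth.Agent.Lib.Helper21.WeakAss

set_option autoImplicit false
universe u
open CategoryTheory CategoryTheory.Limits AlgebraicGeometry Opposite Topology TopologicalSpace
open AlgSp

namespace Groth.Agent.Lib.Helper21.WeakAss

/-- Elements of a prime minimal over `I` are, up to an element outside the prime, nilpotent
modulo `I`. -/
theorem exists_notMem_mul_pow_mem {R : Type*} [CommRing R] {I p : Ideal R}
    (hp : p ∈ I.minimalPrimes) {x : R} (hx : x ∈ p) : ∃ t ∉ p, ∃ n : ℕ, t * x ^ n ∈ I := by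
  have hpp : p.IsPrime := hp.1.1
  have h1 := IsLocalization.AtPrime.radical_map_of_mem_minimalPrimes
    (A := Localization.AtPrime p) p I hp
  have h2 : algebraMap R (Localization.AtPrime p) x ∈
      (I.map (algebraMap R (Localization.AtPrime p))).radical := by
    rw [h1]
    exact Ideal.mem_map_of_mem _ hx
  obtain ⟨n, hn⟩ := h2
  rw [IsLocalization.mem_map_algebraMap_iff (M := p.primeCompl)] at hn
  obtain ⟨⟨a, b⟩, hn⟩ := hn
  rw [← map_pow, ← map_mul, IsLocalization.eq_iff_exists p.primeCompl] at hn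
  obtain ⟨t, ht⟩ := hn
  refine ⟨t.1 * b.1, fun h => (t * b).2 h, n, ?_⟩
  have : t.1 * b.1 * x ^ n = t.1 * a.1 := by
    rw [← ht]; ring
  rw [this]
  exact I.mul_mem_left _ a.2

/-- In a reduced ring a prime minimal over the annihilator of an element is a minimal prime. -/
theorem mem_minimalPrimes_of_mem_minimalPrimes_ann {R : Type*} [CommRing R] [IsReduced R]
    {I p : Ideal R} (r : R) (hI : ∀ a, a ∈ I ↔ a * r = 0) (hp : p ∈ I.minimalPrimes) :
    p ∈ minimalPrimes R := by
  have hpp : p.IsPrime := hp.1.1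
  have hIp : I ≤ p := hp.1.2
  -- key: for `a ∈ p` there is `t ∉ p` with `t * a * r = 0`
  have key : ∀ a ∈ p, ∃ t ∉ p, t * a * r = 0 := by
    intro a ha
    obtain ⟨t, htp, n, hn⟩ := exists_notMem_mul_pow_mem hp ha
    refine ⟨t, htp, ?_⟩
    rw [hI] at hn
    have h3 : (t * a * r) ^ (n + 1) = 0 := by
      have : (t * a * r) ^ (n + 1) = (t * a ^ n * r) * (t ^ n * a * r ^ n) := by ring
      rw [this, hn, zero_mul]
    exact IsReduced.eq_zero _ ⟨n + 1, h3⟩
  have hr : r ∉ p := by
    intro hrp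
    obtain ⟨t, htp, ht⟩ := key r hrp
    have h4 : (t * r) ^ 2 = 0 := by
      have : (t * r) ^ 2 = t * (t * r * r) := by ring
      rw [this, ht, mul_zero]
    have h5 : t * r = 0 := IsReduced.eq_zero _ ⟨2, h4⟩
    exact htp (hIp ((hI t).2 h5))
  refine ⟨⟨hpp, bot_le⟩, fun q hq hqp a ha => ?_⟩
  obtain ⟨t, htp, ht⟩ := key a ha
  have hq' : q.IsPrime := hq.1
  have h6 : t * r * a ∈ q := by
    have : t * r * a = t * a * r := by ring
    rw [this, ht]
    exact q.zero_mem
  have h7 : t * r ∉ q := fun h => by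
    rcases hpp.mem_or_mem (hqp h) with h | h
    · exact htp h
    · exact hr h
  exact (hq'.mem_or_mem h6).resolve_left h7

end Groth.Agent.Lib.Helper21.WeakAss
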