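import Groth.Agent.Lib.Helper21.WeakAss

set_option autoImplicit false
set_option backward.isDefEq.respectTransparency false
universe u
open CategoryTheory CategoryTheory.Limits AlgebraicGeometry Opposite Topology TopologicalSpace
open AlgSp

namespace Groth.Agent.Lib.Helper21.WeakAss

variable {S : Scheme.{u}} {X : Sp S}

instance evaluation_preservesZeroMorphisms (E : EtOver X) :
    (SheafOfModules.evaluation (OEtRing X) (op E)).PreservesZeroMorphisms where
  map_zero M N := by
    have h0 : (0 : M ⟶ N).val = 0 := (SheafOfModules.forget _).map_zero M N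
    change (0 : M ⟶ N).val.app (op E) = 0
    rw [h0]
    rfl

/-- Sections of a monomorphism of modules are injective. -/
theorem injective_app_of_mono {M N : ModEt X} (f : M ⟶ N) [Mono f] (E : EtOver X) :
    Function.Injective (f.val.app (op E)) := by
  have h : Mono ((SheafOfModules.evaluation (OEtRing X) (op E)).map f) := inferInstance
  exact (ModuleCat.mono_iff_injective _).1 h

/-- Sections of a short exact sequence of modules are exact in the middle. -/
theorem exists_app_eq_of_shortExact (C : ShortComplex (ModEt X)) (hC : C.ShortExact) (E : EtOver X)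
    (s : sectModEt C.X₂ E) (hs : C.g.val.app (op E) s = 0) :
    ∃ n : sectModEt C.X₁ E, C.f.val.app (op E) n = s := by
  have hm : Mono C.f := hC.mono_f
  have h1 : (C.map (SheafOfModules.evaluation (OEtRing X) (op E))).Exact :=
    hC.exact.map_of_mono_of_preservesKernel _ hm inferInstance
  rw [ShortComplex.moduleCat_exact_iff] at h1
  exact h1 s hs


theorem mem_minimalPrimes_of_le {R : Type*} [CommSemiring R] {J J' p : Ideal R}
    (hp : p ∈ J.minimalPrimes) (hJ : J ≤ J') (hJ' : J' ≤ p) : p ∈ J'.minimalPrimes :=
  ⟨⟨hp.1.1, hJ'⟩, fun _ hq hqp => hp.2 ⟨hq.1, hJ.trans hq.2⟩ hqp⟩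

/-- The annihilator of the image of a section under a morphism of modules contains the
annihilator of the section. -/
theorem annSect_le_annSect_app {M N : ModEt X} (f : M ⟶ N) (E : EtOver X) (s : sectModEt M E) :
    annSect s ≤ annSect (f.val.app (op E) s) := by
  intro a ha
  rw [mem_annSect_iff] at ha ⊢
  rw [← map_smul, ha, map_zero]

/-- For a monomorphism the annihilators agree. -/
theorem annSect_app_eq_of_mono {M N : ModEt X} (f : M ⟶ N) [Mono f] (E : EtOver X)
    (s : sectModEt M E) : annSect (f.val.app (op E) s) = annSect s := by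
  refine le_antisymm ?_ (annSect_le_annSect_app f E s)
  intro a ha
  rw [mem_annSect_iff] at ha ⊢
  apply injective_app_of_mono f E
  rw [map_smul, ha, map_zero]

/-- Weakly associated points in a short exact sequence. -/
theorem weakAssEt_shortExact (C : ShortComplex (ModEt X)) (hC : C.ShortExact) :
    WeakAssEt C.X₂ ⊆ WeakAssEt C.X₁ ∪ WeakAssEt C.X₃ ∧ WeakAssEt C.X₁ ⊆ WeakAssEt C.X₂ := by
  have hm : Mono C.f := hC.mono_f
  constructor
  · rintro x ⟨E, hE, u, hux, s, hp⟩
    set p := primeAtPt E.obj.left.left u with hpdef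
    by_cases hle : annSect (C.g.val.app (op E) s) ≤ p
    · right
      exact ⟨E, hE, u, hux, C.g.val.app (op E) s,
        mem_minimalPrimes_of_le hp (annSect_le_annSect_app C.g E s) hle⟩
    · left
      obtain ⟨t, htJ, htp⟩ := SetLike.not_le_iff_exists.1 hle
      rw [mem_annSect_iff, ← map_smul] at htJ
      obtain ⟨n, hn⟩ := exists_app_eq_of_shortExact C hC E _ htJ
      refine ⟨E, hE, u, hux, n, ?_⟩
      rw [← annSect_app_eq_of_mono C.f E n, hn]
      refine mem_minimalPrimes_of_le hp ?_ ?_
      · intro a ha
        rw [mem_annSect_iff] at ha ⊢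
        rw [smul_smul, ← map_mul, mul_comm, map_mul, ← smul_smul, ha, smul_zero]
      · intro a ha
        rw [mem_annSect_iff, smul_smul, ← map_mul] at ha
        have h1 : a * t ∈ annSect s := (mem_annSect_iff s (a * t)).2 ha
        have h2 : a * t ∈ p := hp.1.2 h1
        have hpp : p.IsPrime := hp.1.1
        exact (hpp.mem_or_mem h2).resolve_right htp
  · rintro x ⟨E, hE, u, hux, s, hp⟩
    refine ⟨E, hE, u, hux, C.f.val.app (op E) s, ?_⟩
    rw [annSect_app_eq_of_mono C.f E s]
    exact hp

end Groth.Agent.Lib.Helper21.WeakAss
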