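import Groth.Agent.Lib.Helper21.WeakAss
import Groth.Agent.Lib.Helper21.WeakAssAlg
import Groth.Agent.H53.EtReduced
import Groth.Agent.H53.FibrePts

set_option autoImplicit false
set_option backward.isDefEq.respectTransparency false
universe u
open CategoryTheory CategoryTheory.Limits AlgebraicGeometry Opposite Topology TopologicalSpace
open AlgSp

namespace Groth.Agent.Lib.Helper21.WeakAss

variable {S : Scheme.{u}} {X : Sp S}

/-- Sections of the structure sheaf module are global functions. -/
noncomputable def unitSect (E : EtOver X) (s : sectModEt (unitModEt X) E) : Γ(E.obj.left.left, ⊤) :=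
  ULift.down (show ULift.{u+1} Γ(E.obj.left.left, ⊤) from s)

theorem mem_annSect_unit_iff (E : EtOver X) (s : sectModEt (unitModEt X) E)
    (a : Γ(E.obj.left.left, ⊤)) : a ∈ annSect s ↔ a * unitSect E s = 0 := by
  rw [mem_annSect_iff]
  constructor
  · intro h
    have h1 : ULift.down (show ULift.{u+1} Γ(E.obj.left.left, ⊤) from (upΓ E a) • s) = 0 := by
      rw [h]; rfl
    exact h1
  · intro h
    have : (upΓ E a) • s = (show sectModEt (unitModEt X) E from ULift.up (a * unitSect E s)) := rfl
    rw [this, h]
    rfl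


/-- On a reduced space a weakly associated point of the structure sheaf has codimension `0`. -/
theorem hasAt_of_mem_weakAssEt_unit (hX : IsReducedSp X) (x : Points X)
    (hx : x ∈ WeakAssEt (unitModEt X)) :
    HasAt (fun U u => ringKrullDim ↥(U.presheaf.stalk u) = 0) X x := by
  obtain ⟨E, hE, u, hux, s, hp⟩ := hx
  have hred : AlgebraicGeometry.IsReduced E.obj.left.left :=
    Groth.Agent.H53.isReduced_of_etOver (Groth.Agent.H53.hasAt_isReduced_of_isReducedSp hX) E
  refine ⟨E.obj.left, E.obj.hom, u, E.property, hux, ?_⟩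
  have hR : _root_.IsReduced Γ(E.obj.left.left, ⊤) := inferInstance
  have hmin := mem_minimalPrimes_of_mem_minimalPrimes_ann (unitSect E s)
    (mem_annSect_unit_iff E s) hp
  have hU := isAffineOpen_top E.obj.left.left
  have hloc := hU.isLocalization_stalk ⟨u, trivial⟩
  rw [primeAtPt_eq_primeIdealOf] at hmin
  change ringKrullDim ↥(E.obj.left.left.presheaf.stalk u) = 0
  letI : Algebra Γ(E.obj.left.left, ⊤) ↥(E.obj.left.left.presheaf.stalk u) :=
    TopCat.Presheaf.algebra_section_stalk (U := (⊤ : E.obj.left.left.Opens))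
      E.obj.left.left.presheaf ⟨u, trivial⟩
  haveI : IsLocalization.AtPrime ↥(E.obj.left.left.presheaf.stalk u)
      (hU.primeIdealOf ⟨u, trivial⟩).asIdeal := hloc
  rw [IsLocalization.AtPrime.ringKrullDim_eq_height (hU.primeIdealOf ⟨u, trivial⟩).asIdeal,
    Ideal.height_eq_zero_iff.2 hmin]
  rfl


/-- The annihilator of the unit section is zero. -/
theorem annSect_one (E : EtOver X) :
    annSect (show sectModEt (unitModEt X) E from
      (ULift.up (1 : Γ(E.obj.left.left, ⊤)) : ULift.{u+1} Γ(E.obj.left.left, ⊤))) = ⊥ := by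
  ext a
  rw [mem_annSect_unit_iff, Ideal.mem_bot]
  change a * 1 = 0 ↔ a = 0
  rw [mul_one]

/-- A point of codimension `0` is a weakly associated point of the structure sheaf. -/
theorem mem_weakAssEt_unit_of_hasAt (x : Points X)
    (h : HasAt (fun U u => ringKrullDim ↥(U.presheaf.stalk u) = 0) X x) :
    x ∈ WeakAssEt (unitModEt X) := by
  obtain ⟨U, a, u, ha, hux, hdim⟩ := h
  obtain ⟨_, ⟨A, hA, rfl⟩, huA, -⟩ :=
    (U.left.isBasis_affineOpens).exists_subset_of_mem_open (Set.mem_univ u) isOpen_univ
  let E0 : EtOver X := EtOver.mk a ha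
  have hEaff : IsAffine (openObj E0 A).obj.left.left := hA
  let u' : (openObj E0 A).obj.left.left := ⟨u, huA⟩
  refine ⟨openObj E0 A, hEaff, u', ?_, ?_⟩
  · rw [← hux]
    exact Groth.Agent.H53.FibrePts.ofPt_yon_map_comp _ _ _
  · refine ⟨(show sectModEt (unitModEt X) (openObj E0 A) from
      (ULift.up (1 : Γ((openObj E0 A).obj.left.left, ⊤)) :
        ULift.{u+1} Γ((openObj E0 A).obj.left.left, ⊤))), ?_⟩
    rw [annSect_one]
    -- the prime of `u'` is a minimal prime
    have hU := isAffineOpen_top (openObj E0 A).obj.left.left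
    have hloc := hU.isLocalization_stalk ⟨u', trivial⟩
    rw [primeAtPt_eq_primeIdealOf]
    letI : Algebra Γ((openObj E0 A).obj.left.left, ⊤)
        ↥((openObj E0 A).obj.left.left.presheaf.stalk u') :=
      TopCat.Presheaf.algebra_section_stalk (U := (⊤ : (openObj E0 A).obj.left.left.Opens))
        (openObj E0 A).obj.left.left.presheaf ⟨u', trivial⟩
    haveI : IsLocalization.AtPrime ↥((openObj E0 A).obj.left.left.presheaf.stalk u')
        (hU.primeIdealOf ⟨u', trivial⟩).asIdeal := hloc
    have h1 := IsLocalization.AtPrime.ringKrullDim_eq_height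
      (hU.primeIdealOf ⟨u', trivial⟩).asIdeal
      ↥((openObj E0 A).obj.left.left.presheaf.stalk u')
    -- compare stalks along the open immersion
    have h2 : ringKrullDim ↥((openObj E0 A).obj.left.left.presheaf.stalk u') =
        ringKrullDim ↥(U.left.presheaf.stalk u) :=
      (ringKrullDim_eq_of_ringEquiv
        (asIso ((Scheme.Opens.ι A).stalkMap u')).commRingCatIsoToRingEquiv).symm
    rw [h2, hdim] at h1
    have h3 : (hU.primeIdealOf ⟨u', trivial⟩).asIdeal.height = 0 := by
      exact_mod_cast h1.symm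
    exact Ideal.height_eq_zero_iff.1 h3

end Groth.Agent.Lib.Helper21.WeakAss
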